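import Cfsg.Agent.Lib.Extra.Wide.Four
import Cfsg.Agent.Lib.Extra.Structure
import Cfsg.Agent.Lib.Sig.Small

/-!
# The classes of involutions

With `2^(1+6).Ω⁻(6, 2)` there are two classes of involutions and with `2^(1+8).Ω⁺(8, 2)` three.
-/

set_option autoImplicit false
set_option linter.style.haveILetI false

namespace Cfsg.Lib.Extra.Wide

open Cfsg Module Cfsg.Lib.Linear.Orth
open scoped Matrix

variable {G : Type*} [Group G] {ι : Type} [Fintype ι] [DecidableEq ι] (D : Data G ι)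

theorem sq_of_order_two {x : G} (h : orderOf x = 2) : x * x = 1 ∧ x ≠ 1 :=
  ⟨by rw [← pow_two, ← h, pow_orderOf_eq_one], fun e => by rw [e, orderOf_one] at h; norm_num at h⟩

variable [Finite G]

theorem Data.orderOf_z : orderOf D.z = 2 :=
  orderOf_eq_prime (by rw [pow_two, D.ctx.sq_z]) D.ctx.ne_one

theorem Data.exists_mem_centralizer {x : G} (hx : orderOf x = 2) :
    ∃ g, Commute (g * x * g⁻¹) D.z := by
  haveI : Fact (Nat.Prime 2) := ⟨Nat.prime_two⟩
  obtain ⟨P, hQP⟩ := D.ctx.two.exists_le_sylow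
  obtain ⟨g, hg⟩ := Cfsg.Lib.Sig.exists_conj_le_sylow P
    (show IsPGroup 2 ↥(Subgroup.zpowers x) from
      IsPGroup.of_card (n := 1) (by rw [Nat.card_zpowers, hx, pow_one]))
  exact ⟨g, (D.ctx.central_of_le P.2 hQP _
    (hg (Cfsg.Lib.Sig.conj_mem_map_conj (Subgroup.mem_zpowers x)))).symm⟩

/-- Up to conjugation an involution is central, a frame, or moves a four-space of eight. -/
theorem Data.invol_cases {x : G} (hx : orderOf x = 2) (h8 : Fintype.card ι ≤ 8) :
    IsConj x D.z ∨ (∃ x' t v u, IsConj x x' ∧ D.Frame x' t v u) ∨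
      (Fintype.card ι = 8 ∧ ∃ x', IsConj x x' ∧ Commute x' D.z ∧ x' * x' = 1 ∧
        finrank (ZMod 2) (fixSpace (D.act x')) + 4 = Fintype.card ι) := by
  obtain ⟨hxx, hx1⟩ := sq_of_order_two hx
  obtain ⟨g, hg⟩ := D.exists_mem_centralizer hx
  set x' := g * x * g⁻¹ with hx'
  have hc : IsConj x x' := isConj_iff.2 ⟨g, rfl⟩
  have hxx' : x' * x' = 1 := by
    rw [hx', show g * x * g⁻¹ * (g * x * g⁻¹) = g * (x * x) * g⁻¹ by group, hxx]; group
  have hcl : ∀ {w}, IsConj x w → D.Cl w → IsConj x D.z := fun h ⟨k, hk⟩ =>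
    h.trans (isConj_iff.2 ⟨k, hk⟩).symm
  by_cases hQ : x' ∈ D.Q
  · exact Or.inl (hcl hc (D.cl_of_mem hQ hxx' fun h => hx1 (conj_eq_one_iff.1 h)))
  have hact : D.act x' ≠ 1 := fun h => hQ ((D.act_ker x' hg).1 h)
  have hg2 : D.act x' * D.act x' = 1 := by rw [← D.act_mul _ _ hg hg, hxx', D.act_one]
  have hev := (mem_omega_iff D.space (by have := D.six; omega) D.ev (D.act_iso hg)).1 (D.act_mem x' hg)
  have h4 := fix_ge_four D.space (D.act_iso hg) hg2 D.six D.ev (D.act_mem x' hg)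
  have hle : finrank (ZMod 2) (fixSpace (D.act x')) < Fintype.card ι := by
    have h := finrank_range_nMap (D.act x')
    refine lt_of_le_of_ne (by omega) fun e => hact ?_
    have h0 : LinearMap.range (nMap (D.act x')) = ⊥ := Submodule.finrank_eq_zero.1 (by omega)
    refine gl_ext fun y => ?_
    rw [Units.val_one, Matrix.one_mulVec, ← nMap_eq_zero]
    have hy : nMap (D.act x') y ∈ LinearMap.range (nMap (D.act x')) := ⟨y, rfl⟩
    rwa [h0, Submodule.mem_bot] at hy
  have h6 := D.six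
  have hevι := D.ev
  rcases (show finrank (ZMod 2) (fixSpace (D.act x')) + 2 = Fintype.card ι ∨
      (Fintype.card ι = 8 ∧ finrank (ZMod 2) (fixSpace (D.act x')) + 4 = Fintype.card ι) by
    obtain ⟨a, ha⟩ := hev
    obtain ⟨b, hb⟩ := hevι
    omega) with h | ⟨h, h'⟩
  · rcases D.classify_two hg hxx' h with h | ⟨t, v, u, F⟩
    · exact Or.inl (hcl hc h)
    · exact Or.inr (Or.inl ⟨x', t, v, u, hc, F⟩)
  · exact Or.inr (Or.inr ⟨h, x', hc, hg, hxx', h'⟩)

theorem Data.exists_frame_of {t : G} {v u : ι → ZMod 2} (hp : D.Point t)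
    (hv : D.B (D.cls t) v = 0) (hu : D.B (D.cls t) u = 0)
    (hvn : v ∉ Submodule.span (ZMod 2) {D.cls t})
    (hun : u ∉ Submodule.span (ZMod 2) {D.cls t} ⊔ Submodule.span (ZMod 2) {v})
    (hq : D.qf u = D.qf v) (hB : D.B u v = D.qf v) :
    ∃ x, D.Frame x t v u := by
  obtain ⟨q, hq', rfl⟩ := hp.exists_inCQ hu
  obtain ⟨y, hy, hyv⟩ := hp.exists_label hv
  exact ⟨q * y, hp, hv, hu, hvn, hun, hq, hB, q, y, rfl, hq', rfl, hy, hyv⟩

omit [Finite G] in
theorem Data.exists_point_of {p : ι → ZMod 2} (hp : D.qf p = 0) (hp0 : p ≠ 0) :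
    ∃ t, D.Point t ∧ D.cls t = p := by
  obtain ⟨t, ht, rfl⟩ := D.cls_surj p
  exact ⟨t, ⟨ht, (D.cls_sq t ht).2 hp, fun h => hp0 (by rw [h, D.cls_one]),
    fun h => hp0 (by rw [h, D.cls_z])⟩, rfl⟩

/-- A frame of the anisotropic kind. -/
theorem Data.exists_frame_one : ∃ x t v u, D.Frame x t v u ∧ D.qf v = 1 := by
  obtain ⟨g, hg, hne⟩ := D.nwc
  set t := g * D.z * g⁻¹
  have htc : D.Cl t := ⟨g, rfl⟩
  have hp : D.Point t := ⟨hg, htc.sq D, htc.ne_one D, hne⟩
  set p := D.cls t with hpdef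
  have h1 : ∀ v : ι → ZMod 2, finrank (ZMod 2) (Submodule.span (ZMod 2) {v}) ≤ 1 := fun v => by
    simpa using finrank_span_le_card ({v} : Set (ι → ZMod 2))
  have h6 := D.six
  obtain ⟨v, hv, hvp⟩ := exists_perp_nonsing D.space (Submodule.span (ZMod 2) {p})
    (Or.inl (by have := h1 p; omega))
  have hvn : v ∉ Submodule.span (ZMod 2) {p} := fun hm => by
    obtain ⟨α, rfl⟩ := Submodule.mem_span_singleton.1 hm
    rw [D.space.smul, hp.cls_sing, mul_zero] at hv
    exact zero_ne_one hv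
  obtain ⟨b, hb, hvb⟩ := exists_sep D.space _ hvn
  have hpb := hb p (Submodule.mem_span_singleton_self p)
  have hpv := hvp p (Submodule.mem_span_singleton_self p)
  obtain ⟨u, hu, hpu, hvu⟩ : ∃ u, D.qf u = 1 ∧ D.B p u = 0 ∧ D.B v u = 1 := by
    rcases bit (D.qf b) with e | e
    · set U := Submodule.span (ZMod 2) {p} ⊔ Submodule.span (ZMod 2) {v} ⊔ Submodule.span (ZMod 2) {b}
      have hU : finrank (ZMod 2) U ≤ 3 := by
        refine (Submodule.finrank_add_le_finrank_add_finrank _ _).trans ?_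
        have := Submodule.finrank_add_le_finrank_add_finrank
          (Submodule.span (ZMod 2) {p}) (Submodule.span (ZMod 2) {v})
        have := h1 p; have := h1 v; have := h1 b
        omega
      have hvU : v ∈ U :=
        Submodule.mem_sup_left (Submodule.mem_sup_right (Submodule.mem_span_singleton_self v))
      obtain ⟨w, hw, hwU⟩ := exists_perp_nonsing D.space U (by
        by_cases h : 2 * finrank (ZMod 2) U < Fintype.card ι
        · exact Or.inl h
        · exact Or.inr ⟨by omega, v, hvU, by rw [hv]; exact one_ne_zero⟩)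
      refine ⟨b + w, ?_, ?_, ?_⟩
      · rw [D.space.add, e, hw, hwU b (Submodule.mem_sup_right (Submodule.mem_span_singleton_self b))]
        simp
      · rw [map_add, hpb, hwU p (Submodule.mem_sup_left (Submodule.mem_sup_left
          (Submodule.mem_span_singleton_self p))), add_zero]
      · rw [map_add, hvb, hwU v hvU, add_zero]
    · exact ⟨b, e, hpb, hvb⟩
  obtain ⟨x, F⟩ := D.exists_frame_of hp hpv hpu hvn (fun hm => by
    obtain ⟨_, h2, _, h3, rfl⟩ := Submodule.mem_sup.1 hm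
    obtain ⟨α, rfl⟩ := Submodule.mem_span_singleton.1 h2
    obtain ⟨β, rfl⟩ := Submodule.mem_span_singleton.1 h3
    rw [map_add, map_smul, map_smul, B_self D.space, D.space.symm, hpv, smul_zero, smul_zero,
      add_zero] at hvu
    exact zero_ne_one hvu) (hu.trans hv.symm) (by rw [D.space.symm, hvu, hv])
  exact ⟨x, t, v, u, F, hv⟩

/-- A frame of the singular kind. -/
theorem Data.exists_frame_zero {A : Submodule (ZMod 2) (ι → ZMod 2)} (hA : IsHalf D.qf A) :
    ∃ x t v u, D.Frame x t v u ∧ D.qf v = 0 := by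
  have h6 := D.six
  have h1 : ∀ v : ι → ZMod 2, finrank (ZMod 2) (Submodule.span (ZMod 2) {v}) ≤ 1 := fun v => by
    simpa using finrank_span_le_card ({v} : Set (ι → ZMod 2))
  have hpick : ∀ U : Submodule (ZMod 2) (ι → ZMod 2), finrank (ZMod 2) U ≤ 2 → ∃ a ∈ A, a ∉ U := by
    intro U hU
    by_contra h
    push Not at h
    have := Submodule.finrank_mono (show A ≤ U from h)
    have := hA.2
    omega
  obtain ⟨p, hpA, hp0⟩ := hpick ⊥ (by simp)
  obtain ⟨t, hp, rfl⟩ := D.exists_point_of (hA.1 p hpA) (by simpa using hp0)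
  obtain ⟨v, hvA, hvn⟩ := hpick (Submodule.span (ZMod 2) {D.cls t}) (by have := h1 (D.cls t); omega)
  obtain ⟨u, huA, hun⟩ := hpick (Submodule.span (ZMod 2) {D.cls t} ⊔ Submodule.span (ZMod 2) {v}) (by
    have := Submodule.finrank_add_le_finrank_add_finrank
      (Submodule.span (ZMod 2) {D.cls t}) (Submodule.span (ZMod 2) {v})
    have := h1 (D.cls t); have := h1 v
    omega)
  obtain ⟨x, F⟩ := D.exists_frame_of hp (ts_orth D.space hA.1 hpA hvA) (ts_orth D.space hA.1 hpA huA)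
    hvn hun ((hA.1 u huA).trans (hA.1 v hvA).symm)
    ((ts_orth D.space hA.1 huA hvA).trans (hA.1 v hvA).symm)
  exact ⟨x, t, v, u, F, hA.1 v hvA⟩

variable {D} in
theorem Data.Frame.orderOf {x t : G} {v u : ι → ZMod 2} (F : D.Frame x t v u) :
    _root_.orderOf x = 2 :=
  orderOf_eq_prime (by rw [pow_two, F.sq]) F.ne_one

variable {D} in
theorem Data.Frame.not_isConj_z {x t : G} {v u : ι → ZMod 2} (F : D.Frame x t v u) :
    ¬ IsConj D.z x := fun h => F.not_cl (isConj_iff.1 h)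

variable {D} in
/-- In six dimensions of minus type every frame is anisotropic. -/
theorem Data.Frame.qv_one (h6 : Fintype.card ι = 6) (hno : ¬ ∃ A, IsHalf D.qf A) {x t : G}
    {v u : ι → ZMod 2} (F : D.Frame x t v u) : D.qf v = 1 := by
  refine (bit _).resolve_left fun hv => hno ?_
  refine ⟨Submodule.span (ZMod 2) {D.cls t} ⊔ Submodule.span (ZMod 2) {v} ⊔
    Submodule.span (ZMod 2) {u}, fun w hw => ?_, ?_⟩
  · obtain ⟨_, hab, _, hc, rfl⟩ := Submodule.mem_sup.1 hw
    obtain ⟨_, ha, _, hb, rfl⟩ := Submodule.mem_sup.1 hab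
    obtain ⟨i, rfl⟩ := Submodule.mem_span_singleton.1 ha
    obtain ⟨j, rfl⟩ := Submodule.mem_span_singleton.1 hb
    obtain ⟨k, rfl⟩ := Submodule.mem_span_singleton.1 hc
    simp [D.space.add, D.space.smul, F.pt.cls_sing, hv, F.qu, F.vperp, F.uperp,
      D.space.symm v u, F.buv]
  · have e1 := finrank_sup_one F.vind
    have e2 := finrank_sup_one F.uind
    rw [finrank_span_singleton F.pt.cls_ne] at e1
    have h1 : ∀ v : ι → ZMod 2, finrank (ZMod 2) (Submodule.span (ZMod 2) {v}) ≤ 1 := fun v => by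
      simpa using finrank_span_le_card ({v} : Set (ι → ZMod 2))
    have e3 := Submodule.finrank_add_le_finrank_add_finrank
      (Submodule.span (ZMod 2) {D.cls t} ⊔ Submodule.span (ZMod 2) {v}) (Submodule.span (ZMod 2) {u})
    have e4 := Submodule.finrank_add_le_finrank_add_finrank
      (Submodule.span (ZMod 2) {D.cls t}) (Submodule.span (ZMod 2) {v})
    have := h1 (D.cls t); have := h1 v; have := h1 u
    omega

/-- Two classes of involutions. -/
theorem Data.two_classes (h6 : Fintype.card ι = 6) (hno : ¬ ∃ A, IsHalf D.qf A) :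
    ∃ a b : G, orderOf a = 2 ∧ orderOf b = 2 ∧ ¬ IsConj a b ∧
      ∀ x : G, orderOf x = 2 → IsConj x a ∨ IsConj x b := by
  obtain ⟨b, t, v, u, F, hv⟩ := D.exists_frame_one
  refine ⟨D.z, b, D.orderOf_z, F.orderOf, F.not_isConj_z, fun x hx => ?_⟩
  rcases D.invol_cases hx (by omega) with h | ⟨x', t', v', u', hc, F'⟩ | ⟨h8, -⟩
  · exact Or.inl h
  · obtain ⟨c, -, hcx, -⟩ := F'.conj_of F ((F'.qv_one h6 hno).trans hv.symm)
      (Or.inl (by rw [hv]; exact one_ne_zero))
    exact Or.inr (hc.trans (isConj_iff.2 ⟨c, hcx⟩))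
  · omega

/-- Three classes of involutions. -/
theorem Data.three_classes (h8 : Fintype.card ι = 8) (hA : ∃ A, IsHalf D.qf A) :
    ∃ a b c : G, orderOf a = 2 ∧ orderOf b = 2 ∧ orderOf c = 2 ∧ ¬ IsConj a b ∧ ¬ IsConj a c ∧
      ¬ IsConj b c ∧ ∀ x : G, orderOf x = 2 → IsConj x a ∨ IsConj x b ∨ IsConj x c := by
  obtain ⟨A, hA'⟩ := hA
  obtain ⟨b, t, v, u, F, hv⟩ := D.exists_frame_zero hA'
  obtain ⟨b', t', v', u', F', hv'⟩ := D.exists_frame_one
  refine ⟨D.z, b, b', D.orderOf_z, F.orderOf, F'.orderOf, F.not_isConj_z, F'.not_isConj_z,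
    F.not_conj F' h8.ge (by rw [hv, hv']; exact zero_ne_one), fun x hx => ?_⟩
  have hfr : ∀ {x1 t1 : G} {v1 u1 : ι → ZMod 2}, IsConj x x1 → D.Frame x1 t1 v1 u1 →
      IsConj x D.z ∨ IsConj x b ∨ IsConj x b' := by
    intro x1 t1 v1 u1 hc F1
    rcases bit (D.qf v1) with e | e
    · obtain ⟨c, -, hcx, -⟩ := F1.conj_of F (e.trans hv.symm) (Or.inr h8.ge)
      exact Or.inr (Or.inl (hc.trans (isConj_iff.2 ⟨c, hcx⟩)))
    · obtain ⟨c, -, hcx, -⟩ := F1.conj_of F' (e.trans hv'.symm) (Or.inr h8.ge)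
      exact Or.inr (Or.inr (hc.trans (isConj_iff.2 ⟨c, hcx⟩)))
  rcases D.invol_cases hx h8.le with h | ⟨x', t1, v1, u1, hc, F1⟩ | ⟨-, x', hc, hxz, hxx, hfix⟩
  · exact Or.inl h
  · exact hfr hc F1
  · obtain ⟨k, hkz, hk2⟩ := D.four_conj h8 ⟨A, hA'⟩ hxz hxx hfix
    have hc' : IsConj x (k * x' * k⁻¹) := hc.trans (isConj_iff.2 ⟨k, rfl⟩)
    rcases D.classify_two hkz (by
      rw [show k * x' * k⁻¹ * (k * x' * k⁻¹) = k * (x' * x') * k⁻¹ by group, hxx]; group) hk2 with
      ⟨m, hm⟩ | ⟨t1, v1, u1, F1⟩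
    · exact Or.inl (hc'.trans (isConj_iff.2 ⟨m, hm⟩).symm)
    · exact hfr hc' F1

end Cfsg.Lib.Extra.Wide
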