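import Cfsg.Agent.Lib.Extra.Wide.Class

/-!
# Frames are not conjugate to the central involution
-/

set_option autoImplicit false
set_option linter.style.haveILetI false

namespace Cfsg.Lib.Extra.Wide

open Cfsg Module Cfsg.Lib.Linear.Orth
open scoped Matrix

/-- The condition on the displacement of the duals of `p, v, u`. -/
def Adm (c : ZMod 2) (m : Fin 3 → Fin 3 → ZMod 2) : Prop :=
  c * m 2 1 = 0 ∧ c * m 2 2 = 0 ∧ ∀ k0 k1 k2 : ZMod 2,
    k0 * (k0 * m 0 0 + k1 * m 1 0 + k2 * m 2 0) + k1 * (k0 * m 0 1 + k1 * m 1 1 + k2 * m 2 1) +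
      k2 * (k0 * m 0 2 + k1 * m 1 2 + k2 * m 2 2) +
      c * ((k0 * m 0 1 + k1 * m 1 1 + k2 * m 2 1) + (k0 * m 0 2 + k1 * m 1 2 + k2 * m 2 2) +
        (k0 * m 0 1 + k1 * m 1 1 + k2 * m 2 1) * (k0 * m 0 2 + k1 * m 1 2 + k2 * m 2 2)) = 0

instance (c : ZMod 2) : DecidablePred (Adm c) := fun m => by unfold Adm; infer_instance

theorem adm_count : ∀ c : ZMod 2, (Finset.univ.filter (Adm c)).card ≤ 8 := by decide +kernel

variable {G : Type*} [Group G] {ι : Type} [Fintype ι] [DecidableEq ι] {D : Data G ι}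

theorem smul_comb {p v u : ι → ZMod 2} (k0 k1 k2 a b c a' b' c' a'' b'' c'' : ZMod 2) :
    k0 • (a • p + b • v + c • u) + k1 • (a' • p + b' • v + c' • u) +
        k2 • (a'' • p + b'' • v + c'' • u) =
      (k0 * a + k1 * a' + k2 * a'') • p + (k0 * b + k1 * b' + k2 * b'') • v +
        (k0 * c + k1 * c' + k2 * c'') • u := by
  module

namespace Data.Frame

variable [Finite G] {x t : G} {v u : ι → ZMod 2} (F : D.Frame x t v u)
include F

theorem p_sep : D.cls t ∉ Submodule.span (ZMod 2) {v} ⊔ Submodule.span (ZMod 2) {u} := by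
  intro hm
  obtain ⟨a, ha, b, hb, e⟩ := Submodule.mem_sup.1 hm
  obtain ⟨α, rfl⟩ := Submodule.mem_span_singleton.1 ha
  obtain ⟨β, rfl⟩ := Submodule.mem_span_singleton.1 hb
  rcases bit β with rfl | rfl
  · rw [zero_smul, add_zero] at e
    rcases bit α with rfl | rfl
    · rw [zero_smul] at e; exact F.pt.cls_ne e.symm
    · rw [one_smul] at e
      exact F.vind (e ▸ Submodule.mem_span_singleton_self _)
  · rw [one_smul] at e
    refine F.uind (Submodule.mem_sup.2 ⟨D.cls t, Submodule.mem_span_singleton_self _, α • v,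
      Submodule.smul_mem _ _ (Submodule.mem_span_singleton_self v), ?_⟩)
    rw [← e, add_comm (α • v), add_assoc, vadd_self, add_zero]

theorem exists_first : ∃ e, D.B (D.cls t) e = 1 ∧ D.B v e = 0 ∧ D.B u e = 0 := by
  obtain ⟨e, he, hpe⟩ := exists_sep D.space _ F.p_sep
  exact ⟨e, hpe, he _ (Submodule.mem_sup_left (Submodule.mem_span_singleton_self v)),
    he _ (Submodule.mem_sup_right (Submodule.mem_span_singleton_self u))⟩

theorem nMap_act (y : ι → ZMod 2) :
    nMap (D.act x) y = D.B (D.cls t) y • v + (D.B v y + D.qf v * D.B (D.cls t) y) • D.cls t := by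
  rw [nMap_apply, F.act_eq, sGL_apply D.space F.pt.cls_sing F.vperp, add_comm _ y, ← add_assoc,
    ← add_assoc, vadd_self, zero_add]

/-- The elements of `Q ∩ C(t)` centralizing the frame. -/
theorem cq_comm {q : G} (hq : D.InCQ t q) (h1 : D.B v (D.cls q) = 0) :
    q * x = D.zt t (D.B u (D.cls q)) 0 * (x * q) := by
  obtain ⟨q0, y0, rfl, hq0, hu, hy0, hyv⟩ := F.dec
  have h := F.pt.swap_mul hq F.pt.pq_one hq0 hy0 (v := 0) (map_zero _) F.vperp
    (by rw [D.act_one, ← siegel_zero D.space F.pt.cls_sing 0, zero_smul]) hyv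
  rw [mul_one] at h
  rw [h, hu]
  simp [D.space.symm (D.cls q) v, h1, D.space.symm (D.cls q) u]

/-- Only the identity of `Q` lies in the subgroup at a frame conjugate to `z`. -/
theorem inter_one (hcl : D.Cl x) {a : G} (ha : a ∈ D.Q) (ha' : a ∈ D.Qof x) : a = 1 := by
  by_contra h1
  have hxz : x ≠ D.z := fun h => F.not_mem (h ▸ D.ctx.mem)
  have ha2 : a * a = 1 := by
    rcases D.ctx.sq a ha with e | e
    · exact e
    rcases (D.ctx_Qof hcl).sq a ha' with e' | e'
    · exact e'
    · exact absurd (e'.symm.trans e) hxz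
  by_cases haz : a = D.z
  · have := D.Qof_symm hcl D.cl_z (haz ▸ ha')
    rw [D.Qof_self] at this
    exact F.not_mem this
  have hpa : D.Point a := ⟨ha, ha2, h1, haz⟩
  have hxP : D.InPQ a x := ⟨D.Qof_symm hcl hpa.cl ha', F.comm_z⟩
  obtain ⟨v', hv', hxv'⟩ := hpa.label hxP
  have hv'n : v' ∉ Submodule.span (ZMod 2) {D.cls a} := fun hm => by
    obtain ⟨α, rfl⟩ := Submodule.mem_span_singleton.1 hm
    rw [siegel_zero D.space hpa.cls_sing] at hxv'
    exact F.not_mem ((D.act_ker x F.comm_z).1 hxv')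
  have hN : ∀ y, nMap (D.act x) y =
      D.B (D.cls a) y • v' + (D.B v' y + D.qf v' * D.B (D.cls a) y) • D.cls a := fun y => by
    rw [nMap_apply, hxv', sGL_apply D.space hpa.cls_sing hv', add_comm _ y, ← add_assoc,
      ← add_assoc, vadd_self, zero_add]
  obtain ⟨d, hpd, hud, hvd⟩ := F.exists_dual 1 0
  have hWd : ∀ y, D.B (nMap (D.act x) y) d = 0 := fun y => by
    rw [F.nMap_act]; simp [hpd, hvd]
  have had : D.B (D.cls a) d = 0 := by
    obtain ⟨y, hy, hy1⟩ := exists_sep D.space _ hv'n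
    have hay := hy _ (Submodule.mem_span_singleton_self _)
    have := hWd y
    rwa [hN, hay, hy1, zero_smul, zero_add, mul_zero, add_zero, one_smul] at this
  have hv'd : D.B v' d = 0 := by
    obtain ⟨f, -, hf⟩ := exists_sep D.space (⊥ : Submodule (ZMod 2) (ι → ZMod 2))
      (show D.cls a ∉ (⊥ : Submodule (ZMod 2) (ι → ZMod 2)) by simpa using hpa.cls_ne)
    have := hWd f
    rw [hN, hf] at this
    simpa [had] using this
  obtain ⟨q, hq, hqd⟩ := F.pt.exists_inCQ hpd
  have hqa : D.InCQ a q := (hpa.inCQ_iff hq.1).2 (by rw [hqd]; exact had)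
  have hc := (hpa.comm hqa hxP hv' hxv').1 (by rw [hqd, D.space.symm]; exact hv'd)
  have e := F.cq_comm hq (by rw [hqd]; exact hvd)
  rw [hqd, hud, hc.eq] at e
  exact D.ctx.ne_one (by simpa [Data.zt] using e)

/-- A frame is not conjugate to the central involution. -/
theorem not_cl : ¬ D.Cl x := by
  classical
  intro hcl
  obtain ⟨k, hk⟩ := hcl
  have hcl : D.Cl x := ⟨k, hk⟩
  set D' := D.conj k with hD'
  have hz' : D'.z = x := hk
  have hQ' : D'.Q = D.Qof x := (D.Qof_eq hk).symm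
  have hzz : Commute D.z D'.z := hz' ▸ F.comm_z.symm
  have hgiso := D'.act_iso hzz
  have hg2 : D'.act D.z * D'.act D.z = 1 := by
    rw [← D'.act_mul _ _ hzz hzz, D.ctx.sq_z, D'.act_one]
  have h4 := fix_ge_four D'.space hgiso hg2 D'.six D'.ev (D'.act_mem _ hzz)
  set W := fixSpace (D'.act D.z) with hW
  choose L hLQ hLc using D'.cls_surj
  -- the preimage of the fixed space
  set K : Set G := {a | a ∈ D'.Q ∧ D'.cls a ∈ W} with hK
  have hK32 : 32 ≤ K.ncard := by
    let f : ZMod 2 × W → G := fun ew => pick D'.z ew.1 * L ew.2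
    have hmem : ∀ e : ZMod 2, pick D'.z e ∈ D'.Q := fun e => by
      rcases bit e with rfl | rfl <;> simp [D'.ctx.mem, one_mem]
    have hcls : ∀ ew : ZMod 2 × W, D'.cls (f ew) = ew.2 := fun ew => by
      show D'.cls (pick D'.z ew.1 * L ew.2) = _
      rw [D'.cls_mul _ (hmem _) _ (hLQ _), hLc]
      rcases bit ew.1 with h | h <;> simp [h, D'.cls_one, D'.cls_z]
    have hinj : Function.Injective f := fun a b h => by
      have h2 : a.2 = b.2 := Subtype.ext (by rw [← hcls a, ← hcls b, h])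
      refine Prod.ext ?_ h2
      have h1 : pick D'.z a.1 = pick D'.z b.1 := by
        have h' : pick D'.z a.1 * L a.2 = pick D'.z b.1 * L b.2 := h
        rwa [h2, mul_left_inj] at h'
      rcases bit a.1 with e | e <;> rcases bit b.1 with e' | e' <;> rw [e, e'] at h1 ⊢
      · simp only [pick_zero, pick_one] at h1; exact absurd h1.symm D'.ctx.ne_one
      · simp only [pick_zero, pick_one] at h1; exact absurd h1 D'.ctx.ne_one
    have hsub : Set.range f ⊆ K := by
      rintro _ ⟨ew, rfl⟩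
      exact ⟨mul_mem (hmem _) (hLQ _), by rw [hcls]; exact ew.2.2⟩
    refine le_trans ?_ (Set.ncard_le_ncard hsub (Set.toFinite _))
    rw [Set.ncard_range_of_injective hinj, Nat.card_prod, Nat.card_zmod,
      Module.natCard_eq_pow_finrank (K := ZMod 2) (V := W), Nat.card_zmod]
    have : 2 ^ 4 ≤ 2 ^ finrank (ZMod 2) W := Nat.pow_le_pow_right (by norm_num) h4
    omega
  set E : Set G := {a | a ∈ D'.Q ∧ Commute a D.z} with hE
  have hE16 : 16 ≤ E.ncard := by
    have hKcases : ∀ a ∈ K, D.z * a * D.z⁻¹ = a ∨ D.z * a * D.z⁻¹ = D'.z * a := by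
      rintro a ⟨haQ, haW⟩
      refine D'.cls_eq haQ ((Subgroup.mem_normalizer_iff.1 (D'.ctx.norm D.z hzz) a).1 haQ) ?_
      rw [D'.act_cls _ hzz a haQ, mem_fixSpace.1 haW]
    by_cases hmv : ∃ a ∈ K, D.z * a * D.z⁻¹ = D'.z * a
    · obtain ⟨a0, ha0, ha0z⟩ := hmv
      have hsub : K ⊆ E ∪ (fun w => a0 * w) '' E := by
        intro a ha
        rcases hKcases a ha with e | e
        · exact Or.inl ⟨ha.1, (mul_inv_eq_iff_eq_mul.1 e).symm⟩
        · refine Or.inr ⟨a0⁻¹ * a, ⟨mul_mem (inv_mem ha0.1) ha.1, ?_⟩, by group⟩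
          refine (Commute.symm (mul_inv_eq_iff_eq_mul.1 ?_))
          calc D.z * (a0⁻¹ * a) * D.z⁻¹ = (D.z * a0 * D.z⁻¹)⁻¹ * (D.z * a * D.z⁻¹) := by group
            _ = a0⁻¹ * a := by rw [ha0z, e]; group
      have h1 := (Set.ncard_le_ncard hsub (Set.toFinite _)).trans (Set.ncard_union_le _ _)
      have h2 := Set.ncard_image_le (f := fun w => a0 * w) (Set.toFinite E)
      omega
    · push Not at hmv
      have hsub : K ⊆ E := fun a ha => ⟨ha.1, by
        rcases hKcases a ha with e | e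
        · exact (mul_inv_eq_iff_eq_mul.1 e).symm
        · exact absurd e (hmv a ha)⟩
      have := Set.ncard_le_ncard hsub (Set.toFinite _)
      omega
  -- the images
  set p := D.cls t with hpdef
  have hnormQ : ∀ e ∈ E, ∀ q ∈ D.Q, Commute q x → Commute e q := by
    rintro e ⟨heQ, hez⟩ q hq hqx
    rw [hQ'] at heQ
    refine commute_of_mul_mul (F.inter_one hcl
      (mul_mem ((Subgroup.mem_normalizer_iff.1 (D.ctx.norm e hez) q).1 hq) (inv_mem hq)) ?_)
    rw [show e * q * e⁻¹ * q⁻¹ = e * (q * e⁻¹ * q⁻¹) by group]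
    exact mul_mem heQ
      ((Subgroup.mem_normalizer_iff.1 ((D.ctx_Qof hcl).norm q hqx) _).1 (inv_mem heQ))
  have hfixS : ∀ e ∈ E, ∀ s, D.B p s = 0 → D.B v s = 0 → D.B u s = 0 →
      (D.act e).val *ᵥ s = s := by
    intro e he s h1 h2 h3
    obtain ⟨q, hq, rfl⟩ := F.pt.exists_inCQ h1
    have hqx : Commute q x := by
      have h := F.cq_comm hq h2
      rw [h3] at h
      simpa [Data.zt, Commute, SemiconjBy] using h
    rw [← D.act_cls e he.2 q hq.1, (hnormQ e he q hq.1 hqx).eq, mul_inv_cancel_right]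
  have hxt := F.comm_t
  have hfixp : ∀ e ∈ E, (D.act e).val *ᵥ p = p := fun e he =>
    F.pt.act_fix he.2 (hnormQ e he t F.pt.mem hxt.symm)
  have hfixv : ∀ e ∈ E, ∃ α : ZMod 2, (D.act e).val *ᵥ v = v + α • p := by
    intro e he
    have hex : Commute e x := by
      have h : Commute e D'.z := (D'.ctx.central e he.1).symm
      rwa [hz'] at h
    have hiso := D.act_iso he.2
    have h1 : D.act e * D.act x * (D.act e)⁻¹ = D.act x := by
      rw [← D.act_inv he.2, ← D.act_mul _ _ he.2 F.comm_z,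
        ← D.act_mul _ _ (he.2.mul_left F.comm_z) he.2.inv_left, hex.eq, mul_inv_cancel_right]
    rw [F.act_eq, sGL_conj D.space F.pt.cls_sing F.vperp hiso, hfixp e he] at h1
    have hpv : D.B p ((D.act e).val *ᵥ v) = 0 := by
      nth_rewrite 1 [← hfixp e he]
      rw [D.space.B_act hiso]; exact F.vperp
    obtain ⟨α, hα⟩ := siegel_eq D.space F.pt.cls_sing F.pt.cls_ne hpv F.vperp h1
    exact ⟨α, by nth_rewrite 2 [hα]; rw [add_assoc, vadd_self, add_zero]⟩
  obtain ⟨e1, he1p, he1v, he1u⟩ := F.exists_first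
  obtain ⟨e2, he2p, he2u, he2v⟩ := F.exists_dual 0 1
  obtain ⟨e3, he3p, he3u, he3v⟩ := F.exists_dual 1 0
  rw [← hpdef] at he1p he2p he3p
  let es : Fin 3 → ι → ZMod 2 := ![e1, e2, e3]
  let Φ : G → Fin 3 → Fin 3 → ZMod 2 := fun e i j => D.B (nMap (D.act e) (es i)) (es j)
  have hexp : ∀ e ∈ E, ∀ y, nMap (D.act e) y =
      D.B (nMap (D.act e) y) e1 • p + D.B (nMap (D.act e) y) e2 • v +
        D.B (nMap (D.act e) y) e3 • u := by
    intro e he y
    have hm : nMap (D.act e) y ∈ Submodule.span (ZMod 2) {p} ⊔ Submodule.span (ZMod 2) {v} ⊔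
        Submodule.span (ZMod 2) {u} := by
      refine mem_of_perp D.space _ fun s hs => ?_
      have h1 : D.B p s = 0 :=
        hs p (Submodule.mem_sup_left (Submodule.mem_sup_left (Submodule.mem_span_singleton_self p)))
      have h2 : D.B v s = 0 :=
        hs v (Submodule.mem_sup_left (Submodule.mem_sup_right (Submodule.mem_span_singleton_self v)))
      have h3 : D.B u s = 0 := hs u (Submodule.mem_sup_right (Submodule.mem_span_singleton_self u))
      have h := D.space.B_act (D.act_iso he.2) y s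
      rw [hfixS e he s h1 h2 h3] at h
      rw [nMap_apply, map_add, LinearMap.add_apply, h, bit_self]
    obtain ⟨w, hw, c', hc', hsum⟩ := Submodule.mem_sup.1 hm
    obtain ⟨a', ha', b', hb', rfl⟩ := Submodule.mem_sup.1 hw
    obtain ⟨α, rfl⟩ := Submodule.mem_span_singleton.1 ha'
    obtain ⟨β, rfl⟩ := Submodule.mem_span_singleton.1 hb'
    obtain ⟨γ, rfl⟩ := Submodule.mem_span_singleton.1 hc'
    rw [← hsum]
    simp [he1p, he1v, he1u, he2p, he2u, he2v, he3p, he3u, he3v]
  have hdecomp : ∀ y, D.B p (y + (D.B p y • e1 + D.B v y • e2 + D.B u y • e3)) = 0 ∧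
      D.B v (y + (D.B p y • e1 + D.B v y • e2 + D.B u y • e3)) = 0 ∧
      D.B u (y + (D.B p y • e1 + D.B v y • e2 + D.B u y • e3)) = 0 := fun y => by
    simp [he1p, he1v, he1u, he2p, he2u, he2v, he3p, he3u, he3v, bit_self]
  have hlin : ∀ e ∈ E, ∀ y, nMap (D.act e) y =
      D.B p y • nMap (D.act e) e1 + D.B v y • nMap (D.act e) e2 + D.B u y • nMap (D.act e) e3 := by
    intro e he y
    obtain ⟨h1, h2, h3⟩ := hdecomp y
    have h0 := (nMap_eq_zero (g := D.act e)).2 (hfixS e he _ h1 h2 h3)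
    rw [map_add, map_add, map_add, map_smul, map_smul, map_smul] at h0
    exact vadd_eq_zero h0
  have hadm : ∀ e ∈ E, Adm (D.qf v) (Φ e) := by
    intro e he
    have hv' : nMap (D.act e) v = D.qf v • nMap (D.act e) e3 := by
      rw [hlin e he v, show D.B p v = 0 from F.vperp, B_self D.space, F.buv]; simp
    obtain ⟨α, hα⟩ := hfixv e he
    have hvp : nMap (D.act e) v = α • p := by
      rw [nMap_apply, hα, add_comm v, add_assoc, vadd_self, add_zero]
    refine ⟨?_, ?_, fun k0 k1 k2 => ?_⟩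
    · have := congrArg (fun w => D.B w e2) (hv'.symm.trans hvp)
      simpa [Φ, es, he2p] using this
    · have := congrArg (fun w => D.B w e3) (hv'.symm.trans hvp)
      simpa [Φ, es, he3p] using this
    · set y := k0 • e1 + k1 • e2 + k2 • e3 with hy
      have hQ : D.qf (nMap (D.act e) y) = D.B (nMap (D.act e) y) y :=
        Q_nMap D.space (D.act_iso he.2) y
      have hNy : nMap (D.act e) y =
          (k0 * Φ e 0 0 + k1 * Φ e 1 0 + k2 * Φ e 2 0) • p +
          (k0 * Φ e 0 1 + k1 * Φ e 1 1 + k2 * Φ e 2 1) • v +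
          (k0 * Φ e 0 2 + k1 * Φ e 1 2 + k2 * Φ e 2 2) • u := by
        have r1 : nMap (D.act e) e1 = Φ e 0 0 • p + Φ e 0 1 • v + Φ e 0 2 • u := hexp e he e1
        have r2 : nMap (D.act e) e2 = Φ e 1 0 • p + Φ e 1 1 • v + Φ e 1 2 • u := hexp e he e2
        have r3 : nMap (D.act e) e3 = Φ e 2 0 • p + Φ e 2 1 • v + Φ e 2 2 • u := hexp e he e3
        rw [hy, map_add, map_add, map_smul, map_smul, map_smul, r1, r2, r3, smul_comb]
      rw [hNy] at hQ
      generalize (k0 * Φ e 0 0 + k1 * Φ e 1 0 + k2 * Φ e 2 0) = α' at hQ ⊢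
      generalize (k0 * Φ e 0 1 + k1 * Φ e 1 1 + k2 * Φ e 2 1) = β' at hQ ⊢
      generalize (k0 * Φ e 0 2 + k1 * Φ e 1 2 + k2 * Φ e 2 2) = γ' at hQ ⊢
      rw [hy, D.space.add, D.space.add, D.space.smul, D.space.smul, D.space.smul,
        show D.qf p = 0 from F.pt.cls_sing, F.qu] at hQ
      simp only [map_add, map_smul, LinearMap.add_apply, LinearMap.smul_apply, smul_eq_mul,
        he1p, he1v, he1u, he2p, he2u, he2v, he3p, he3u, he3v, show D.B p v = 0 from F.vperp,
        show D.B p u = 0 from F.uperp, D.space.symm v u, F.buv, mul_zero, mul_one, add_zero,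
        zero_add] at hQ
      have sq' : ∀ a : ZMod 2, a ^ 2 = a := by decide
      simp only [sq'] at hQ
      linear_combination hQ + bit_self (k0 * α' + k1 * β' + k2 * γ')
  have hinj : Set.InjOn Φ E := by
    intro e he e' he' hΦ
    have hN : nMap (D.act e) = nMap (D.act e') := LinearMap.ext fun y => by
      rw [hlin e he y, hlin e' he' y]
      have hi : ∀ i, nMap (D.act e) (es i) = nMap (D.act e') (es i) := fun i => by
        rw [hexp e he (es i), hexp e' he' (es i)]
        have a0 : D.B (nMap (D.act e) (es i)) e1 = D.B (nMap (D.act e') (es i)) e1 :=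
          congrFun (congrFun hΦ i) 0
        have a1 : D.B (nMap (D.act e) (es i)) e2 = D.B (nMap (D.act e') (es i)) e2 :=
          congrFun (congrFun hΦ i) 1
        have a2 : D.B (nMap (D.act e) (es i)) e3 = D.B (nMap (D.act e') (es i)) e3 :=
          congrFun (congrFun hΦ i) 2
        rw [a0, a1, a2]
      rw [show nMap (D.act e) e1 = _ from hi 0, show nMap (D.act e) e2 = _ from hi 1,
        show nMap (D.act e) e3 = _ from hi 2]
      rfl
    have hact : D.act e = D.act e' := gl_ext fun y => by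
      have h := LinearMap.congr_fun hN y
      rw [nMap_apply, nMap_apply, add_left_inj] at h
      exact h
    have hq : e * e'⁻¹ ∈ D.Q := (D.act_ker _ (he.2.mul_left he'.2.inv_left)).1 (by
      rw [D.act_mul _ _ he.2 he'.2.inv_left, D.act_inv he'.2, hact, mul_inv_cancel])
    exact mul_inv_eq_one.1 (F.inter_one hcl hq (hQ' ▸ mul_mem he.1 (inv_mem he'.1)))
  have hle : E.ncard ≤ 8 := by
    rw [← hinj.ncard_image]
    refine (Set.ncard_le_ncard (t := ↑(Finset.univ.filter (Adm (D.qf v)))) ?_ (Set.toFinite _)).trans ?_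
    · rintro _ ⟨e, he, rfl⟩
      simp [hadm e he]
    · rw [Set.ncard_coe_finset]; exact adm_count _
  omega

end Data.Frame

end Cfsg.Lib.Extra.Wide
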