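import Cfsg.Agent.Lib.Extra.Wide.Main
import Cfsg.Agent.Lib.Extra.OuterClassify
import Cfsg.Agent.Lib.Extra.LargeTwoCore
import Cfsg.Agent.Lib.Extra.MinusThirtyTwo
import Cfsg.Agent.Lib.Core.Fitting
import Cfsg.Agent.Lib.Linear.OrthSmallIso
import Cfsg.Agent.Lib.Linear.OrthFixPoint
import Cfsg.Agent.Lib.Linear.OrthOrderStd

/-!
# The data of the centralizer from the hypotheses
-/

set_option autoImplicit false
set_option linter.style.haveILetI false

namespace Cfsg.Lib.Extra.Wide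

open Cfsg Module Cfsg.Lib.Linear Cfsg.Lib.Linear.Orth
open scoped Matrix

variable {G : Type*} [Group G]

/-- The hypotheses give the elementwise context. -/
theorem ctx_of_hyp [Finite G] (z : G) (hz : orderOf z = 2)
    (Q : Subgroup (Subgroup.centralizer ({z} : Set G))) [Q.Normal]
    (hF : Cfsg.generalizedFittingSubgroup (Subgroup.centralizer ({z} : Set G)) = Q)
    (hQ : Cfsg.IsExtraspecial 2 Q) :
    Ctx (Q.map (Subgroup.centralizer ({z} : Set G)).subtype) z := by
  classical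
  haveI : Fact (Nat.Prime 2) := ⟨Nat.prime_two⟩
  have hQp : Cfsg.pCore 2 ↥(Subgroup.centralizer ({z} : Set G)) = Q :=
    le_antisymm (((Cfsg.Lib.Core.pCore_le_fittingSubgroup 2 ↥(Subgroup.centralizer ({z} : Set G))).trans
      Cfsg.Lib.Core.fitting_le_generalizedFitting).trans hF.le) (Cfsg.Lib.Core.le_pCore hQ.1.1)
  have hext : Cfsg.IsExtraspecial 2 ↥(Q.map (Subgroup.centralizer ({z} : Set G)).subtype) :=
    Cfsg.Lib.Extra.isExtraspecial_congr (Q.equivMapOfInjective _ (Subgroup.centralizer ({z} : Set G)).subtype_injective) hQ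
  have hzC : z ∈ (Subgroup.centralizer ({z} : Set G)) := Subgroup.mem_centralizer_singleton_iff.2 rfl
  have hzQ : (⟨z, hzC⟩ : (Subgroup.centralizer ({z} : Set G))) ∈ Q := by
    rw [← hQp]
    haveI : (Subgroup.zpowers (⟨z, hzC⟩ : (Subgroup.centralizer ({z} : Set G)))).Normal := ⟨fun a ha g => by
      obtain ⟨i, rfl⟩ := Subgroup.mem_zpowers_iff.1 ha
      have hgc : Commute g (⟨z, hzC⟩ : (Subgroup.centralizer ({z} : Set G))) :=
        Subtype.ext (Subgroup.mem_centralizer_singleton_iff.1 g.2)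
      rw [(hgc.zpow_right i).eq, mul_inv_cancel_right]
      exact Subgroup.mem_zpowers_iff.2 ⟨i, rfl⟩⟩
    refine Cfsg.Lib.Core.le_pCore (IsPGroup.of_card (n := 1) ?_) (Subgroup.mem_zpowers _)
    rw [Nat.card_zpowers, ← Subgroup.orderOf_coe, pow_one]; exact hz
  refine Cfsg.Lib.Extra.ctx_of_twoCore hz (hQp ▸ rfl) hext fun g hg => ?_
  have hgC : g ∈ (Subgroup.centralizer ({z} : Set G)) := Subgroup.mem_centralizer_singleton_iff.2
    (Subgroup.mem_centralizer_iff.1 hg z ⟨_, hzQ, rfl⟩).symm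
  refine ⟨⟨g, hgC⟩, ?_, rfl⟩
  rw [SetLike.mem_coe, ← hF]
  refine Cfsg.Lib.Core.centralizer_generalizedFitting_le
    (Subgroup.mem_centralizer_iff.2 fun a ha => ?_)
  exact Subtype.ext (Subgroup.mem_centralizer_iff.1 hg a ⟨a, hF ▸ ha, rfl⟩)

variable {V : Type} [AddCommGroup V] [Module (ZMod 2) V] {β : LinearMap.BilinForm (ZMod 2) V}
  {ι : Type} [Fintype ι] [DecidableEq ι] {q : (ι → ZMod 2) → ZMod 2}
  {Bq : LinearMap.BilinForm (ZMod 2) (ι → ZMod 2)}

/-- Everything but the identification of the group of actions. -/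
theorem exists_action [Finite G] {z : G} {Q : Subgroup G} (hctx : Ctx Q z)
    (hnd : ∀ v : V, (∀ w, β v w = β w v) → v = 0)
    (σ : (ι → ZMod 2) ≃ₗ[ZMod 2] V) (hq : ∀ x, q x = β (σ x) (σ x)) (S : Space q Bq)
    (f : Q ≃* Cocycle β) {K : Type} [Group K] [Finite K]
    (π : Subgroup.centralizer ({z} : Set G) →* K) (hπ : Function.Surjective π)
    (hker : ∀ c, π c = 1 ↔ (c : G) ∈ Q) :
    ∃ (cls : G → (ι → ZMod 2)) (act : G → GL ι (ZMod 2)) (R : Subgroup (GL ι (ZMod 2))),
      Nat.card R = Nat.card K ∧ R ≤ isometryGroup (ZMod 2) q ∧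
      (∀ a ∈ Q, ∀ b ∈ Q, cls (a * b) = cls a + cls b) ∧
      (∀ v, ∃ a ∈ Q, cls a = v) ∧
      (∀ a ∈ Q, cls a = 0 ↔ a = 1 ∨ a = z) ∧
      (∀ a ∈ Q, a * a = 1 ↔ q (cls a) = 0) ∧
      (∀ a ∈ Q, ∀ b ∈ Q, Commute a b ↔ Bq (cls a) (cls b) = 0) ∧
      (∀ c d, Commute c z → Commute d z → act (c * d) = act c * act d) ∧
      (∀ c, Commute c z → act c ∈ R) ∧
      (∀ g ∈ R, ∃ c, Commute c z ∧ act c = g) ∧
      (∀ c, Commute c z → (act c = 1 ↔ c ∈ Q)) ∧
      (∀ c, Commute c z → ∀ a ∈ Q, cls (c * a * c⁻¹) = (act c).val *ᵥ cls a) := by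
  classical
  let cls : G → (ι → ZMod 2) := fun a => if h : a ∈ Q then σ.symm (f ⟨a, h⟩).v else 0
  have hcls : ∀ {a} (h : a ∈ Q), cls a = σ.symm (f ⟨a, h⟩).v := fun h => dif_pos h
  have cls_mul : ∀ a ∈ Q, ∀ b ∈ Q, cls (a * b) = cls a + cls b := fun a ha b hb => by
    rw [hcls ha, hcls hb, hcls (mul_mem ha hb), ← map_add, ← mul_v, ← map_mul]
    rfl
  have cls_surj : ∀ v, ∃ a ∈ Q, cls a = v := fun v => by
    refine ⟨(f.symm ⟨0, σ v⟩ : Q), (f.symm ⟨0, σ v⟩).2, ?_⟩
    rw [hcls (f.symm ⟨0, σ v⟩).2]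
    simp
  have hcv : ∀ {a : Q}, (f a).v = 0 → ∀ b : Q, Commute a b := fun {a} h b => by
    have : Commute (f a) (f b) := (commute_iff _ _).2 (by rw [h]; simp)
    exact f.injective (by rw [map_mul, map_mul, this.eq])
  have hcv' : ∀ {a : Q}, (∀ b : Q, Commute a b) → (f a).v = 0 := fun {a} h => by
    refine hnd _ fun w => ?_
    have h1 := (h (f.symm ⟨0, w⟩)).map f
    rw [f.apply_symm_apply] at h1
    exact (commute_iff _ _).1 h1
  have cls_ker : ∀ a ∈ Q, cls a = 0 ↔ a = 1 ∨ a = z := fun a ha => by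
    rw [hcls ha, LinearEquiv.map_eq_zero_iff]
    constructor
    · intro h
      exact hctx.cent a fun b hb => congrArg Subtype.val (hcv h ⟨b, hb⟩).eq
    · rintro (rfl | rfl)
      · exact congrArg Cocycle.v (show f ⟨1, ha⟩ = 1 from map_one f)
      · exact hcv' fun b => Subtype.ext (hctx.central b b.2).eq
  have cls_sq : ∀ a ∈ Q, a * a = 1 ↔ q (cls a) = 0 := fun a ha => by
    rw [hcls ha, hq, σ.apply_symm_apply]
    have e : f ⟨a, ha⟩ ^ 2 = ⟨β (f ⟨a, ha⟩).v (f ⟨a, ha⟩).v, 0⟩ := sq_eq _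
    constructor
    · intro h
      rw [← map_pow, show (⟨a, ha⟩ : Q) ^ 2 = 1 from Subtype.ext (by simp [pow_two, h]), map_one] at e
      exact (congrArg Cocycle.s e).symm
    · intro h
      rw [← map_pow, h] at e
      have : (⟨a, ha⟩ : Q) ^ 2 = 1 := f.injective (e.trans (map_one f).symm)
      simpa [pow_two] using congrArg Subtype.val this
  have cls_comm : ∀ a ∈ Q, ∀ b ∈ Q, Commute a b ↔ Bq (cls a) (cls b) = 0 := fun a ha b hb => by
    have e1 := S.add (cls a) (cls b)
    simp only [hq, map_add, hcls ha, hcls hb, σ.apply_symm_apply, LinearMap.add_apply] at e1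
    rw [hcls ha, hcls hb]
    have e2 : Commute a b ↔ Commute (f ⟨a, ha⟩) (f ⟨b, hb⟩) := by
      refine ⟨fun h => (show Commute (⟨a, ha⟩ : Q) ⟨b, hb⟩ from Subtype.ext h.eq).map f, fun h => ?_⟩
      have := f.injective (show f (⟨a, ha⟩ * ⟨b, hb⟩) = f (⟨b, hb⟩ * ⟨a, ha⟩) by
        rw [map_mul, map_mul, h.eq])
      exact congrArg Subtype.val this
    rw [e2, commute_iff]
    generalize β (f ⟨a, ha⟩).v (f ⟨b, hb⟩).v = x at e1 ⊢
    generalize β (f ⟨b, hb⟩).v (f ⟨a, ha⟩).v = y at e1 ⊢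
    constructor
    · intro h; linear_combination -e1 + h + bit_self y
    · intro h; linear_combination e1 + h - bit_self y
  choose L hLQ hLc using cls_surj
  have hlift : ∀ {a}, a ∈ Q → ∀ v, cls a = v → a = L v ∨ a = z * L v := fun {a} ha v h => by
    rcases (cls_ker _ (mul_mem ha (inv_mem (hLQ v)))).1 (by
      rw [cls_mul _ ha _ (inv_mem (hLQ v)), h]
      have e := cls_mul _ (inv_mem (hLQ v)) _ (hLQ v)
      rw [inv_mul_cancel, hLc, (cls_ker 1 (one_mem _)).2 (Or.inl rfl)] at e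
      exact (add_comm _ _).trans e.symm) with h | h
    · exact Or.inl (mul_inv_eq_one.1 h)
    · exact Or.inr (mul_inv_eq_iff_eq_mul.1 h)
  have hQn : ∀ {c a : G}, Commute c z → a ∈ Q → c * a * c⁻¹ ∈ Q := fun hc ha =>
    (Subgroup.mem_normalizer_iff.1 (hctx.norm _ hc) _).1 ha
  let act0 : G → (ι → ZMod 2) → (ι → ZMod 2) := fun c v => cls (c * L v * c⁻¹)
  have hact0 : ∀ {c}, Commute c z → ∀ a ∈ Q, cls (c * a * c⁻¹) = act0 c (cls a) := fun {c} hc a ha => by
    rcases hlift ha _ rfl with h | h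
    · exact congrArg (fun w => cls (c * w * c⁻¹)) h
    · conv_lhs => rw [h]
      rw [show c * (z * L (cls a)) * c⁻¹ = c * z * c⁻¹ * (c * L (cls a) * c⁻¹) by group, hc.eq,
        mul_inv_cancel_right, cls_mul _ hctx.mem _ (hQn hc (hLQ _)), (cls_ker z hctx.mem).2 (Or.inr rfl),
        zero_add]
  have hcomp : ∀ {c d}, Commute c z → Commute d z → ∀ v, act0 (c * d) v = act0 c (act0 d v) :=
    fun {c d} hc hd v => by
      rw [← hact0 hc _ (hQn hd (hLQ v))]
      exact congrArg cls (by group)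
  have hone : ∀ v, act0 1 v = v := fun v => by
    show cls (1 * L v * 1⁻¹) = v
    simp [hLc]
  have hadd : ∀ {c}, Commute c z → ∀ v w, act0 c (v + w) = act0 c v + act0 c w := fun {c} hc v w => by
    have h := hact0 hc _ (mul_mem (hLQ v) (hLQ w))
    rw [cls_mul _ (hLQ v) _ (hLQ w), hLc, hLc] at h
    rw [← h, show c * (L v * L w) * c⁻¹ = c * L v * c⁻¹ * (c * L w * c⁻¹) by group,
      cls_mul _ (hQn hc (hLQ v)) _ (hQn hc (hLQ w))]
  let T : GL ι (ZMod 2) ≃* ((ι → ZMod 2) ≃ₗ[ZMod 2] (ι → ZMod 2)) :=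
    Matrix.GeneralLinearGroup.toLin.trans
      (LinearMap.GeneralLinearGroup.generalLinearEquiv (ZMod 2) (ι → ZMod 2))
  have hT : ∀ g x, T g x = g.val *ᵥ x := fun g x => rfl
  let lin : ∀ c : G, Commute c z → ((ι → ZMod 2) ≃ₗ[ZMod 2] (ι → ZMod 2)) := fun c hc =>
    { toFun := act0 c
      invFun := act0 c⁻¹
      map_add' := hadd hc
      map_smul' := fun r v => by
        rcases bit r with rfl | rfl
        · simp only [zero_smul, RingHom.id_apply]
          have h := hadd hc 0 0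
          rw [add_zero] at h
          exact left_eq_add.1 h
        · simp
      left_inv := fun v => by rw [← hcomp hc.inv_left hc, inv_mul_cancel, hone]
      right_inv := fun v => by rw [← hcomp hc hc.inv_left, mul_inv_cancel, hone] }
  let act : G → GL ι (ZMod 2) := fun c => if h : Commute c z then T.symm (lin c h) else 1
  have hact : ∀ {c}, Commute c z → ∀ v, (act c).val *ᵥ v = act0 c v := fun {c} hc v => by
    rw [← hT, show act c = T.symm (lin c hc) from dif_pos hc, T.apply_symm_apply]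
    rfl
  have act_cls : ∀ c, Commute c z → ∀ a ∈ Q, cls (c * a * c⁻¹) = (act c).val *ᵥ cls a :=
    fun c hc a ha => by rw [hact hc, hact0 hc a ha]
  have act_mul : ∀ c d, Commute c z → Commute d z → act (c * d) = act c * act d := fun c d hc hd =>
    gl_ext fun v => by rw [mul_act, hact (hc.mul_left hd), hact hd, hact hc, hcomp hc hd]
  have act_ker : ∀ c, Commute c z → (act c = 1 ↔ c ∈ Q) := by
    intro c hc
    constructor
    · intro h
      have hconj : ∀ v, c * L v * c⁻¹ = L v ∨ c * L v * c⁻¹ = z * L v := fun v => by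
        refine hlift (hQn hc (hLQ v)) v ?_
        rw [act_cls c hc _ (hLQ v), h, Units.val_one, Matrix.one_mulVec, hLc]
      have hi : ∀ i j : ZMod 2, ∀ a : G, pick z i * a = pick z j * a → i = j := fun i j a e => by
        have e' := mul_right_cancel e
        rcases bit i with rfl | rfl <;> rcases bit j with rfl | rfl <;>
          simp only [pick_zero, pick_one] at e' <;>
          first | rfl | exact absurd e'.symm hctx.ne_one | exact absurd e' hctx.ne_one
      have hex : ∀ v, ∃ i, c * L v * c⁻¹ = pick z i * L v := fun v =>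
        (hconj v).elim (fun e => ⟨0, by simpa using e⟩) (fun e => ⟨1, by simpa using e⟩)
      choose φ hφ using hex
      have hφadd : ∀ v w, φ (v + w) = φ v + φ w := fun v w => by
        have hzc : ∀ a ∈ Q, ∀ i, Commute (pick z i) a := fun a ha i => pick_comm (hctx.central a ha) i
        refine hi _ _ (L v * L w) ?_
        have key : c * (L v * L w) * c⁻¹ = pick z (φ v + φ w) * (L v * L w) := by
          rw [show c * (L v * L w) * c⁻¹ = c * L v * c⁻¹ * (c * L w * c⁻¹) by group, hφ, hφ,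
            ← pick_add hctx.sq_z, mul_assoc, ← mul_assoc (L v), ← (hzc _ (hLQ v) _).eq]
          simp only [mul_assoc]
        have hvw : L v * L w = L (v + w) ∨ L v * L w = z * L (v + w) :=
          hlift (mul_mem (hLQ v) (hLQ w)) _ (by rw [cls_mul _ (hLQ v) _ (hLQ w), hLc, hLc])
        rw [← key]
        rcases hvw with e | e <;> rw [e]
        · exact (hφ _).symm
        · rw [show c * (z * L (v + w)) * c⁻¹ = c * z * c⁻¹ * (c * L (v + w) * c⁻¹) by group, hc.eq,
            mul_inv_cancel_right, hφ, ← mul_assoc, ← mul_assoc,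
            (pick_comm (Commute.refl z) _).eq]
      let Φ : (ι → ZMod 2) →ₗ[ZMod 2] ZMod 2 :=
        { toFun := φ
          map_add' := hφadd
          map_smul' := fun r v => by
            rcases bit r with rfl | rfl
            · have h := hφadd 0 0
              rw [add_zero] at h
              simp [left_eq_add.1 h]
            · simp }
      obtain ⟨w, hw⟩ := (LinearMap.BilinForm.toDual Bq (nondegenerate S)).surjective Φ
      have hwv : ∀ v, Bq w v = φ v := fun v => LinearMap.congr_fun hw v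
      have hall : ∀ v, c * L v * c⁻¹ = L w * L v * (L w)⁻¹ := fun v => by
        rw [hφ, ← hwv]
        rcases hctx.comm _ (hLQ w) _ (hLQ v) with e | e
        · have hco : Commute (L w) (L v) := mul_inv_eq_iff_eq_mul.1 (mul_inv_eq_one.1 e)
          have h0 := (cls_comm _ (hLQ w) _ (hLQ v)).1 hco
          rw [hLc, hLc] at h0
          rw [h0, pick_zero, one_mul, hco.eq, mul_inv_cancel_right]
        · rcases bit (Bq w v) with h0 | h0
          · have hco := (cls_comm _ (hLQ w) _ (hLQ v)).2 (by rw [hLc, hLc, h0])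
            rw [hco.eq, mul_inv_cancel_right, mul_inv_cancel] at e
            exact absurd e.symm hctx.ne_one
          · rw [h0, pick_one, mul_inv_eq_iff_eq_mul.1 e]
      have hcent : ∀ a ∈ Q, Commute ((L w)⁻¹ * c) a := fun a ha => by
        have key : c * a * c⁻¹ = L w * a * (L w)⁻¹ := by
          rcases hlift ha _ rfl with e | e <;> rw [e]
          · exact hall _
          · rw [show c * (z * L (cls a)) * c⁻¹ = c * z * c⁻¹ * (c * L (cls a) * c⁻¹) by group,
              show L w * (z * L (cls a)) * (L w)⁻¹ =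
                L w * z * (L w)⁻¹ * (L w * L (cls a) * (L w)⁻¹) by group,
              hall, hc.eq, (hctx.central _ (hLQ w)).symm.eq, mul_inv_cancel_right,
              mul_inv_cancel_right]
        refine mul_inv_eq_iff_eq_mul.1 ?_
        calc (L w)⁻¹ * c * a * ((L w)⁻¹ * c)⁻¹ = (L w)⁻¹ * (c * a * c⁻¹) * L w := by group
          _ = a := by rw [key]; group
      have hm : (L w)⁻¹ * c ∈ Q := by
        rcases hctx.cent _ hcent with e | e <;> rw [e]
        exacts [one_mem _, hctx.mem]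
      have := mul_mem (hLQ w) hm
      rwa [mul_inv_cancel_left] at this
    · intro hcQ
      refine gl_ext fun v => ?_
      rw [Units.val_one, Matrix.one_mulVec, hact hc]
      show cls (c * L v * c⁻¹) = v
      rcases hctx.comm c hcQ _ (hLQ v) with e | e
      · rw [mul_inv_eq_one.1 e, hLc]
      · rw [mul_inv_eq_iff_eq_mul.1 e, cls_mul _ hctx.mem _ (hLQ v), (cls_ker z hctx.mem).2 (Or.inr rfl),
          zero_add, hLc]
  have act_iso : ∀ c, Commute c z → act c ∈ isometryGroup (ZMod 2) q := fun c hc => mem_iso.2 fun v => by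
    rw [hact hc]
    show q (cls (c * L v * c⁻¹)) = q v
    have h1 := cls_sq _ (hQn hc (hLQ v))
    have h2 := cls_sq _ (hLQ v)
    rw [hLc] at h2
    have h3 : c * L v * c⁻¹ * (c * L v * c⁻¹) = 1 ↔ L v * L v = 1 := by
      rw [show c * L v * c⁻¹ * (c * L v * c⁻¹) = c * (L v * L v) * c⁻¹ by group, conj_eq_one_iff]
    rcases bit (q v) with e | e <;> rcases bit (q (cls (c * L v * c⁻¹))) with e' | e' <;> rw [e, e']
    · exact absurd (h1.1 (h3.2 (h2.2 e))) (by rw [e']; exact one_ne_zero)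
    · exact absurd (h2.1 (h3.1 (h1.2 e'))) (by rw [e]; exact one_ne_zero)
  have hmem : ∀ {c : G}, c ∈ Subgroup.centralizer ({z} : Set G) ↔ Commute c z := fun {c} =>
    Subgroup.mem_centralizer_singleton_iff
  let A : Subgroup.centralizer ({z} : Set G) →* GL ι (ZMod 2) :=
    { toFun := fun c => act c
      map_one' := (act_ker 1 (Commute.one_left z)).2 (one_mem _)
      map_mul' := fun c d => act_mul _ _ (hmem.1 c.2) (hmem.1 d.2) }
  have hk : A.ker = π.ker := by
    ext c
    rw [MonoidHom.mem_ker, MonoidHom.mem_ker, hker]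
    exact act_ker _ (hmem.1 c.2)
  refine ⟨cls, act, A.range, ?_, ?_, cls_mul, fun v => ⟨L v, hLQ v, hLc v⟩, cls_ker, cls_sq, cls_comm,
    act_mul, fun c hc => ⟨⟨c, hmem.2 hc⟩, rfl⟩, ?_, act_ker, act_cls⟩
  · rw [← Nat.card_congr (QuotientGroup.quotientKerEquivRange A).toEquiv,
      ← Nat.card_congr (QuotientGroup.quotientKerEquivOfSurjective π hπ).toEquiv, hk]
  · rintro _ ⟨c, rfl⟩
    exact act_iso _ (hmem.1 c.2)
  · rintro _ ⟨c, rfl⟩
    exact ⟨c, hmem.1 c.2, rfl⟩

/-- A group of isometries of the order of `Ω` is `Ω`. -/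
theorem eq_omega (S : Space q Bq) (h5 : 5 ≤ Fintype.card ι) {R : Subgroup (GL ι (ZMod 2))}
    (hR : R ≤ isometryGroup (ZMod 2) q)
    (hcard : Nat.card R = Nat.card ↥(Cfsg.Omega (ZMod 2) q)) : R = Cfsg.Geo.omegaGL q := by
  classical
  have hidx := (SmallIso.omega_facts S (by omega) (Or.inr (Or.inr (by omega)))).2.1
    (show (2 : ZMod 2) = 0 by decide)
  set R0 := R.subgroupOf (isometryGroup (ZMod 2) q) with hR0
  have hc0 : Nat.card R0 = Nat.card R := Nat.card_congr (Subgroup.subgroupOfEquivOfLe hR).toEquiv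
  have h1 := Subgroup.card_mul_index (Cfsg.Omega (ZMod 2) q)
  have h2 := Subgroup.card_mul_index R0
  rw [hidx] at h1
  rw [hc0, hcard, ← h1] at h2
  have hi2 : R0.index = 2 := Nat.eq_of_mul_eq_mul_left Nat.card_pos h2
  have hle : Cfsg.Omega (ZMod 2) q ≤ R0 := by
    show commutator _ ≤ R0
    rw [commutator_def, Subgroup.commutator_le]
    intro a _ b _
    simp only [commutatorElement_def, Subgroup.mul_mem_iff_of_index_two hi2, inv_mem_iff]
    tauto
  have heq : Cfsg.Omega (ZMod 2) q = R0 :=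
    Subgroup.eq_of_le_of_card_ge hle (by rw [hc0, hcard])
  rw [Cfsg.Geo.omegaGL, heq, hR0, Subgroup.map_subgroupOf_eq_of_le hR]

/-- Data over a model of either kind, at the given involution. -/
theorem exists_data_eq [Finite G] (z : G) (hz : orderOf z = 2)
    (Q : Subgroup (Subgroup.centralizer ({z} : Set G))) [Q.Normal]
    (hF : Cfsg.generalizedFittingSubgroup (Subgroup.centralizer ({z} : Set G)) = Q)
    (hQ : Cfsg.IsExtraspecial 2 Q)
    (hnd : ∀ v : V, (∀ w, β v w = β w v) → v = 0)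
    (σ : (ι → ZMod 2) ≃ₗ[ZMod 2] V) (hq : ∀ x, q x = β (σ x) (σ x)) (S : Space q Bq)
    (h6 : 6 ≤ Fintype.card ι) (hev : Even (Fintype.card ι))
    (f : Q ≃* Cocycle β) {K : Type} [Group K] [Finite K]
    (e : (Subgroup.centralizer ({z} : Set G)) ⧸ Q ≃* K)
    (hnwc : ∃ g : G, (∃ hq : g * z * g⁻¹ ∈ Subgroup.centralizer ({z} : Set G),
      (⟨g * z * g⁻¹, hq⟩ : Subgroup.centralizer ({z} : Set G)) ∈ Q) ∧ g * z * g⁻¹ ≠ z) :
    Nat.card K ∣ Nat.card ↥(isometryGroup (ZMod 2) q) ∧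
      (Nat.card K = Nat.card ↥(Cfsg.Omega (ZMod 2) q) → ∃ D : Data G ι, D.qf = q ∧ D.z = z ∧
        D.Q = Q.map (Subgroup.centralizer ({z} : Set G)).subtype) := by
  have hctx := ctx_of_hyp z hz Q hF hQ
  obtain ⟨cls, act, R, hRc, hRle, h1, h2, h3, h4, h5, h7, h8, h9, h10, h11⟩ :=
    exists_action hctx hnd σ hq S ((Q.equivMapOfInjective _ (Subgroup.centralizer ({z} : Set G)).subtype_injective).symm.trans f)
      (e.toMonoidHom.comp (QuotientGroup.mk' Q)) (e.surjective.comp (QuotientGroup.mk'_surjective Q))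
      (fun c => by
        simp only [MonoidHom.coe_comp, Function.comp_apply, MulEquiv.coe_toMonoidHom,
          MulEquiv.map_eq_one_iff, QuotientGroup.mk'_apply, QuotientGroup.eq_one_iff]
        exact ⟨fun h => ⟨c, h, rfl⟩, fun ⟨y, hy, e'⟩ => Subtype.ext e' ▸ hy⟩)
  refine ⟨hRc ▸ Subgroup.card_dvd_of_le hRle, fun hK => ?_⟩
  have hR := eq_omega S (by omega) hRle (hRc.trans hK)
  rw [hR] at h8 h9
  obtain ⟨g, ⟨hg, hgm⟩, hne⟩ := hnwc
  exact ⟨⟨z, Q.map (Subgroup.centralizer ({z} : Set G)).subtype, q, Bq, cls, act, hctx, S, h6, hev, h1, h2, h3, h4, h5, h7, h8, h9,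
    h10, h11, g, ⟨_, hgm, rfl⟩, hne⟩, rfl, rfl, rfl⟩

/-- Data over a model of either kind. -/
theorem exists_data [Finite G] (z : G) (hz : orderOf z = 2)
    (Q : Subgroup (Subgroup.centralizer ({z} : Set G))) [Q.Normal]
    (hF : Cfsg.generalizedFittingSubgroup (Subgroup.centralizer ({z} : Set G)) = Q)
    (hQ : Cfsg.IsExtraspecial 2 Q)
    (hnd : ∀ v : V, (∀ w, β v w = β w v) → v = 0)
    (σ : (ι → ZMod 2) ≃ₗ[ZMod 2] V) (hq : ∀ x, q x = β (σ x) (σ x)) (S : Space q Bq)
    (h6 : 6 ≤ Fintype.card ι) (hev : Even (Fintype.card ι))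
    (f : Q ≃* Cocycle β) {K : Type} [Group K] [Finite K]
    (e : (Subgroup.centralizer ({z} : Set G)) ⧸ Q ≃* K)
    (hnwc : ∃ g : G, (∃ hq : g * z * g⁻¹ ∈ Subgroup.centralizer ({z} : Set G),
      (⟨g * z * g⁻¹, hq⟩ : Subgroup.centralizer ({z} : Set G)) ∈ Q) ∧ g * z * g⁻¹ ≠ z) :
    Nat.card K ∣ Nat.card ↥(isometryGroup (ZMod 2) q) ∧
      (Nat.card K = Nat.card ↥(Cfsg.Omega (ZMod 2) q) → ∃ D : Data G ι, D.qf = q) :=
  ⟨(exists_data_eq z hz Q hF hQ hnd σ hq S h6 hev f e hnwc).1, fun hK =>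
    ((exists_data_eq z hz Q hF hQ hnd σ hq S h6 hev f e hnwc).2 hK).imp fun _ h => h.1⟩

end Cfsg.Lib.Extra.Wide
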