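import Cfsg.Agent.Lib.Extra.Wide.FromHyp
import Cfsg.Agent.S0288

/-!
# Orders and halves of the orthogonal spaces of dimensions six and eight over two elements
-/

set_option autoImplicit false
set_option linter.style.haveILetI false

namespace Cfsg.Lib.Extra.Wide

open Cfsg Module Cfsg.Lib.Linear Cfsg.Lib.Linear.Orth

theorem aniso_two : ∀ z₁ z₂ : ZMod 2, z₁ ^ 2 + 1 * z₁ * z₂ + 1 * z₂ ^ 2 = 0 → z₁ = 0 ∧ z₂ = 0 := by
  decide

theorem card_minus_six :
    Nat.card ↥(isometryGroup (ZMod 2) (Cfsg.quadFormMinus 2 (ZMod 2) 1 1)) = 51840 := by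
  have h := Cfsg.Agent.S0288.result (ZMod.card 2) 3 (by norm_num) 1 1 aniso_two
  simp only [show 3 - 1 = 2 from rfl] at h
  rw [h]
  simp [Finset.prod_range_succ]

theorem card_minus_eight :
    Nat.card ↥(isometryGroup (ZMod 2) (Cfsg.quadFormMinus 3 (ZMod 2) 1 1)) = 394813440 := by
  have h := Cfsg.Agent.S0288.result (ZMod.card 2) 4 (by norm_num) 1 1 aniso_two
  simp only [show 4 - 1 = 3 from rfl] at h
  rw [h]
  simp [Finset.prod_range_succ]

theorem card_plus (m : ℕ) :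
    (Nat.card ↥(isometryGroup (ZMod 2) (Cfsg.quadFormPlus m (ZMod 2))) : ℤ) =
      (2 : ℤ) ^ (m * (m - 1)) *
        ∏ i ∈ Finset.range m, ((2 : ℤ) ^ (i + 1) - 1) * ((2 : ℤ) ^ (0 + i) + 1) := by
  haveI : Fact (Nat.Prime 2) := ⟨Nat.prime_two⟩
  simpa [Nat.card_zmod] using (counts_plus (F := ZMod 2) m).2

theorem card_plus_six :
    Nat.card ↥(isometryGroup (ZMod 2) (Cfsg.quadFormPlus 3 (ZMod 2))) = 40320 := by
  have h := card_plus 3
  simp [Finset.prod_range_succ] at h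
  omega

theorem card_plus_eight :
    Nat.card ↥(isometryGroup (ZMod 2) (Cfsg.quadFormPlus 4 (ZMod 2))) = 348364800 := by
  have h := card_plus 4
  simp [Finset.prod_range_succ] at h
  omega

theorem two_mul_card_omega {ι : Type} [Fintype ι] [DecidableEq ι] {q : (ι → ZMod 2) → ZMod 2}
    {B : LinearMap.BilinForm (ZMod 2) (ι → ZMod 2)} (S : Space q B) (hn : 5 ≤ Fintype.card ι) :
    Nat.card ↥(Cfsg.Omega (ZMod 2) q) * 2 = Nat.card ↥(isometryGroup (ZMod 2) q) := by
  haveI : Fact (Nat.Prime 2) := ⟨Nat.prime_two⟩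
  have h := Subgroup.card_mul_index (Cfsg.Omega (ZMod 2) q)
  rwa [(SmallIso.omega_facts S (by omega) (Or.inr (Or.inr (by omega)))).2.1
    (show (2 : ZMod 2) = 0 from rfl)] at h

theorem no_half_minus_six : ¬ ∃ A, IsHalf (Cfsg.quadFormMinus 2 (ZMod 2) 1 1) A := by
  haveI : Fact (Nat.Prime 2) := ⟨Nat.prime_two⟩
  rintro ⟨A, hA, hd⟩
  obtain ⟨B, S⟩ := Orth.exists_space_minus (F := ZMod 2) 2 1 1 aniso_two
  have h1 := ts_half_count S hA (k := 2) (by simp at hd; omega) (by simp)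
  have h2 := (counts_minus (F := ZMod 2) (a := 1) (b := 1) 2 aniso_two).1 (by norm_num)
  rw [h2, Nat.card_zmod] at h1
  norm_num at h1

theorem half_plus_eight : ∃ A, IsHalf (Cfsg.quadFormPlus 4 (ZMod 2)) A := by
  haveI : Fact (Nat.Prime 2) := ⟨Nat.prime_two⟩
  let f : (Fin 4 → ZMod 2) →ₗ[ZMod 2] (Fin 4 ⊕ Fin 4 → ZMod 2) :=
    { toFun := fun x => Sum.elim x 0
      map_add' := fun x y => funext fun i => by cases i <;> simp
      map_smul' := fun c x => funext fun i => by cases i <;> simp }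
  have hf : Function.Injective f := fun x y h => funext fun i => congrFun h (Sum.inl i)
  refine ⟨LinearMap.range f, ?_, ?_⟩
  · rintro _ ⟨x, rfl⟩
    simp [Cfsg.quadFormPlus, f]
  · rw [LinearMap.finrank_range_of_inj hf, finrank_fintype_fun_eq_card]
    simp

end Cfsg.Lib.Extra.Wide
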