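import Cfsg.Agent.Lib.Extra.Wide.Cross

/-!
# Frames of involutions outside the extraspecial subgroup

An involution of `C(z)` acting with rank two lies in the cross radical of some point `t`, where it
is written `q * y` with classes `(u, v)`; the Gram data decide its class in `C(z)`.
-/

set_option autoImplicit false
set_option linter.style.haveILetI false

namespace Cfsg.Lib.Extra.Wide

open Cfsg Module Cfsg.Lib.Linear.Orth
open scoped Matrix

variable {G : Type*} [Group G] {ι : Type} [Fintype ι] [DecidableEq ι] {D : Data G ι}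

theorem bit_eq_of_add : ∀ {a b : ZMod 2}, a + b = 0 → a = b := by decide

/-- `1` or `a`. -/
def pick (a : G) (i : ZMod 2) : G := if i = 0 then 1 else a

@[simp] theorem pick_zero (a : G) : pick a 0 = 1 := if_pos rfl

@[simp] theorem pick_one (a : G) : pick a 1 = a := if_neg one_ne_zero

theorem pick_add {a : G} (ha : a * a = 1) (i j : ZMod 2) : pick a i * pick a j = pick a (i + j) := by
  rcases bit i with rfl | rfl <;> rcases bit j with rfl | rfl <;> simp [ha, bit_self]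

/-- The element `z^i t^j`. -/
def Data.zt (D : Data G ι) (t : G) (i j : ZMod 2) : G := pick D.z i * pick t j

theorem pick_comm {a b : G} (h : Commute a b) (i : ZMod 2) : Commute (pick a i) b := by
  rcases bit i with rfl | rfl <;> simp [h]

theorem Data.cl_of_Qof [Finite G] (D : Data G ι) {a s : G} (hs : D.Cl s) (ha : a ∈ D.Qof s)
    (h2 : a * a = 1) (h1 : a ≠ 1) : D.Cl a := by
  obtain ⟨k, hk⟩ := hs
  rw [D.Qof_eq hk] at ha
  obtain ⟨m, hm⟩ := (D.conj k).cl_of_mem ha h2 h1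
  refine ⟨m * k, ?_⟩
  rw [← hm]
  show m * k * D.z * (m * k)⁻¹ = m * (k * D.z * k⁻¹) * m⁻¹
  group

/-- An involution of `C(z)` with its point and classes. -/
structure Data.Frame (D : Data G ι) (x t : G) (v u : ι → ZMod 2) : Prop where
  pt : D.Point t
  vperp : D.B (D.cls t) v = 0
  uperp : D.B (D.cls t) u = 0
  vind : v ∉ Submodule.span (ZMod 2) {D.cls t}
  uind : u ∉ Submodule.span (ZMod 2) {D.cls t} ⊔ Submodule.span (ZMod 2) {v}
  qu : D.qf u = D.qf v
  buv : D.B u v = D.qf v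
  dec : ∃ q y, x = q * y ∧ D.InCQ t q ∧ D.cls q = u ∧ D.InPQ t y ∧
    D.act y = sGL D.qf D.B (D.cls t) v

namespace Data.Point

variable [Finite G] {t : G} (hp : D.Point t)
include hp

theorem pick_t {a : G} (h : Commute t a) (j : ZMod 2) : Commute (pick t j) a := pick_comm h j

theorem zt_A (i j : ZMod 2) : D.InA t (D.zt t i j) := by
  rcases bit i with rfl | rfl <;> rcases bit j with rfl | rfl <;> simp [Data.InA, Data.zt]

theorem zt_add (i j i' j' : ZMod 2) : D.zt t i j * D.zt t i' j' = D.zt t (i + i') (j + j') := by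
  have h : Commute (pick t j) (pick D.z i') := (pick_comm (pick_comm hp.comm_zt i').symm j)
  unfold Data.zt
  rw [mul_assoc, ← mul_assoc (pick t j), h.eq, mul_assoc, ← mul_assoc, ← pick_add D.ctx.sq_z,
    ← pick_add hp.sq]

theorem zt_eq_one {i j : ZMod 2} (h : D.zt t i j = 1) : i = 0 ∧ j = 0 := by
  rcases bit i with rfl | rfl <;> rcases bit j with rfl | rfl <;>
    simp only [Data.zt, pick_zero, pick_one, one_mul, mul_one] at h
  exacts [⟨rfl, rfl⟩, absurd h hp.ne_one, absurd h D.ctx.ne_one, absurd h hp.z_mul.ne_one]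

theorem inA_zt {a : G} (ha : D.InA t a) : ∃ i j, a = D.zt t i j := by
  rcases ha with rfl | rfl | rfl | rfl
  exacts [⟨0, 0, by simp [Data.zt]⟩, ⟨1, 0, by simp [Data.zt]⟩, ⟨0, 1, by simp [Data.zt]⟩,
    ⟨1, 1, by simp [Data.zt]⟩]

omit [Finite G] in
theorem sq_cq {q : G} (hq : D.InCQ t q) : q * q = D.zt t (D.qf (D.cls q)) 0 := by
  rcases bit (D.qf (D.cls q)) with h | h <;> rw [h]
  · rw [(D.cls_sq q hq.1).2 h]; simp [Data.zt]
  · rcases D.ctx.sq q hq.1 with e | e
    · have := (D.cls_sq q hq.1).1 e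
      rw [h] at this
      exact absurd this one_ne_zero
    · rw [e]; simp [Data.zt]

theorem sq_pq {y : G} {v : ι → ZMod 2} (hy : D.InPQ t y) (hv : D.B (D.cls t) v = 0)
    (hyv : D.act y = sGL D.qf D.B (D.cls t) v) : y * y = D.zt t 0 (D.qf v) := by
  obtain ⟨h0, h1, -⟩ := hp.third hy hv hyv
  rcases bit (D.qf v) with h | h <;> rw [h]
  · rw [h0 h]; simp [Data.zt]
  · rw [h1 h]; simp [Data.zt]

theorem swap_pq_cq {q y : G} {v : ι → ZMod 2} (hq : D.InCQ t q) (hy : D.InPQ t y)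
    (hv : D.B (D.cls t) v = 0) (hyv : D.act y = sGL D.qf D.B (D.cls t) v) :
    y * q = D.zt t (D.B (D.cls q) v) (D.B (D.cls q) v) * (q * y) := by
  obtain ⟨h0, h1⟩ := hp.comm hq hy hv hyv
  rcases bit (D.B (D.cls q) v) with h | h <;> rw [h]
  · rw [(h0 h).eq]; simp [Data.zt]
  · rw [← mul_assoc, ← mul_inv_eq_iff_eq_mul, h1 h]; simp [Data.zt]

theorem swap_cq {q q' : G} (hq : D.InCQ t q) (hq' : D.InCQ t q') :
    q * q' = D.zt t (D.B (D.cls q) (D.cls q')) 0 * (q' * q) := by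
  rcases bit (D.B (D.cls q) (D.cls q')) with h | h <;> rw [h]
  · rw [((D.cls_comm q hq.1 q' hq'.1).2 h).eq]; simp [Data.zt]
  · rw [← mul_assoc, ← mul_inv_eq_iff_eq_mul, D.q_move hq.1 hq'.1 h]; simp [Data.zt]

theorem swap_pq {y y' : G} {v v' : ι → ZMod 2} (hy : D.InPQ t y) (hy' : D.InPQ t y')
    (hv : D.B (D.cls t) v = 0) (hv' : D.B (D.cls t) v' = 0)
    (hyv : D.act y = sGL D.qf D.B (D.cls t) v) (hyv' : D.act y' = sGL D.qf D.B (D.cls t) v') :
    y * y' = D.zt t 0 (D.B v v') * (y' * y) := by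
  have h3 := hp.sq_pq (hp.pq_mul hy hy') (v := v + v') (by rw [map_add, hv, hv', add_zero]) (by
    rw [D.act_mul _ _ hy.2 hy'.2, hyv, hyv', sGL_mul D.space hp.cls_sing hv hv'])
  have h1 := hp.sq_pq hy hv hyv
  have h2 := hp.sq_pq hy' hv' hyv'
  obtain ⟨i, j, hij⟩ : ∃ i j, y' * y * y'⁻¹ * y⁻¹ = D.zt t i j := by
    rcases (D.ctx_Qof hp.cl).comm y' hy'.1 y hy.1 with e | e
    · exact ⟨0, 0, by rw [e]; simp [Data.zt]⟩
    · exact ⟨0, 1, by rw [e]; simp [Data.zt]⟩
  have hcomm : Commute y (D.zt t i j) := (hp.A_commute_pq (hp.zt_A i j) hy).symm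
  have e : y * y' * (y * y') = D.zt t i j * (y * y * (y' * y')) := by
    calc y * y' * (y * y') = y * ((y' * y * y'⁻¹ * y⁻¹) * (y * y')) * y' := by group
      _ = y * D.zt t i j * (y * y') * y' := by rw [hij]; group
      _ = _ := by rw [hcomm.eq]; group
  rw [h3, h1, h2, hp.zt_add, hp.zt_add, D.space.add] at e
  have hinv : ∀ a b, D.zt t a b * D.zt t a b = 1 := fun a b => by
    rw [hp.zt_add, bit_self, bit_self]; simp [Data.zt]
  have e2 : D.zt t i (j + D.B v v') = 1 := by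
    have e' := congrArg (fun w => w * D.zt t 0 (D.qf v + D.qf v' + D.B v v')) e
    simp only [hinv, hp.zt_add] at e'
    rw [e']
    congr 1
    · simp
    · linear_combination - bit_self (D.qf v + D.qf v')
  obtain ⟨hi, hj⟩ := hp.zt_eq_one e2
  calc y * y' = (y' * y * y'⁻¹ * y⁻¹)⁻¹ * (y' * y) := by group
    _ = _ := by
      rw [hij, hi, bit_eq_of_add hj]
      congr 1
      exact inv_eq_of_mul_eq_one_right (hinv _ _)

theorem A_move (a : G) (ha : D.InA t a) {q y : G} (hq : D.InCQ t q) (hy : D.InPQ t y) :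
    Commute a (q * y) := (hp.A_commute_cq ha hq).mul_right (hp.A_commute_pq ha hy)

/-- The product rule in the cross radical. -/
theorem swap_mul {q y q' y' : G} {v v' : ι → ZMod 2} (hq : D.InCQ t q) (hy : D.InPQ t y)
    (hq' : D.InCQ t q') (hy' : D.InPQ t y')
    (hv : D.B (D.cls t) v = 0) (hv' : D.B (D.cls t) v' = 0)
    (hyv : D.act y = sGL D.qf D.B (D.cls t) v) (hyv' : D.act y' = sGL D.qf D.B (D.cls t) v') :
    q * y * (q' * y') =
      D.zt t (D.B (D.cls q) (D.cls q') + (D.B (D.cls q') v + D.B (D.cls q) v'))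
        (D.B v v' + (D.B (D.cls q') v + D.B (D.cls q) v')) * (q' * y' * (q * y)) := by
  have a1 := hp.swap_pq_cq hq' hy hv hyv
  have a2 := hp.swap_pq_cq hq hy' hv' hyv'
  have a3 := hp.swap_cq hq hq'
  have a4 := hp.swap_pq hy hy' hv hv' hyv hyv'
  generalize D.B (D.cls q') v = i1 at a1 ⊢
  generalize D.B (D.cls q) v' = i2 at a2 ⊢
  generalize D.B (D.cls q) (D.cls q') = i3 at a3 ⊢
  generalize D.B v v' = i4 at a4 ⊢
  have cq : ∀ {w} (i j), D.InCQ t w → Commute (D.zt t i j) w := fun i j h =>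
    hp.A_commute_cq (hp.zt_A i j) h
  have cy : ∀ {w} (i j), D.InPQ t w → Commute (D.zt t i j) w := fun i j h =>
    hp.A_commute_pq (hp.zt_A i j) h
  have back : y' * q = D.zt t i2 i2 * (q * y') := a2
  have back' : q * y' = D.zt t i2 i2 * (y' * q) := by
    rw [back, ← mul_assoc, hp.zt_add, bit_self]; simp [Data.zt]
  calc q * y * (q' * y') = q * (y * q') * y' := by group
    _ = D.zt t i1 i1 * (q * q') * (y * y') := by
      rw [a1, ← mul_assoc q, ← (cq i1 i1 hq).eq]; group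
    _ = D.zt t i1 i1 * D.zt t i3 0 * (q' * q * (D.zt t 0 i4 * (y' * y))) := by rw [a3, a4]; group
    _ = D.zt t i1 i1 * D.zt t i3 0 * D.zt t 0 i4 * (q' * (q * y') * y) := by
      rw [← mul_assoc (q' * q), ← ((cq 0 i4 hq').mul_right (cq 0 i4 hq)).eq]; group
    _ = D.zt t i1 i1 * D.zt t i3 0 * D.zt t 0 i4 * D.zt t i2 i2 * (q' * y' * (q * y)) := by
      rw [back', ← mul_assoc q', ← (cq i2 i2 hq').eq]; group
    _ = _ := by
      rw [hp.zt_add, hp.zt_add, hp.zt_add]
      congr 2 <;> ring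

/-- When a product in the radical is an involution. -/
theorem sq_iff {q y : G} {v : ι → ZMod 2} (hq : D.InCQ t q) (hy : D.InPQ t y)
    (hv : D.B (D.cls t) v = 0) (hyv : D.act y = sGL D.qf D.B (D.cls t) v) :
    q * y * (q * y) = 1 ↔ D.qf (D.cls q) = D.B (D.cls q) v ∧ D.qf v = D.B (D.cls q) v := by
  have e : q * y * (q * y) =
      D.zt t (D.qf (D.cls q) + D.B (D.cls q) v) (D.qf v + D.B (D.cls q) v) := by
    calc q * y * (q * y) = q * (y * q) * y := by group
      _ = D.zt t (D.B (D.cls q) v) (D.B (D.cls q) v) * (q * q) * (y * y) := by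
        rw [hp.swap_pq_cq hq hy hv hyv, ← mul_assoc q, ← (hp.A_commute_cq (hp.zt_A _ _) hq).eq]
        group
      _ = _ := by
        rw [hp.sq_cq hq, hp.sq_pq hy hv hyv, hp.zt_add, hp.zt_add]
        congr 1 <;> ring
  rw [e]
  constructor
  · intro h
    obtain ⟨h1, h2⟩ := hp.zt_eq_one h
    exact ⟨bit_eq_of_add h1, bit_eq_of_add h2⟩
  · rintro ⟨h1, h2⟩
    rw [h1, h2, bit_self]; simp [Data.zt]

/-- An element of the radical preimage is a product. -/
theorem decompose {x : G} {v : ι → ZMod 2} (hxz : Commute x D.z) (hxt : Commute x t)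
    (hv : D.B (D.cls t) v = 0) (hxv : D.act x = sGL D.qf D.B (D.cls t) v) :
    ∃ q y, x = q * y ∧ D.InCQ t q ∧ D.InPQ t y ∧ D.act y = sGL D.qf D.B (D.cls t) v := by
  obtain ⟨y, hy, hyv⟩ := hp.exists_label hv
  refine ⟨x * y⁻¹, y, by group, ⟨(D.act_ker _ (hxz.mul_left hy.2.inv_left)).1 ?_,
    hxt.mul_left (hp.pq_commute_t hy).inv_left⟩, hy, hyv⟩
  rw [D.act_mul _ _ hxz hy.2.inv_left, D.act_inv hy.2, hxv, hyv, mul_inv_cancel]

/-- The involutions of the radical: conjugates of `z` in the third subgroups, or frames. -/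
theorem classify {x : G} {v : ι → ZMod 2} (hxz : Commute x D.z) (hxt : Commute x t) (hxx : x * x = 1)
    (hv : D.B (D.cls t) v = 0) (hvn : v ∉ Submodule.span (ZMod 2) {D.cls t})
    (hxv : D.act x = sGL D.qf D.B (D.cls t) v) :
    (D.qf v = 0 ∧ (x ∈ D.Qof t ∨ x ∈ D.Qof (D.z * t)) ∧ D.Cl x) ∨ ∃ u, D.Frame x t v u := by
  obtain ⟨q, y, rfl, hq, hy, hyv⟩ := hp.decompose hxz hxt hv hxv
  obtain ⟨h1, h2⟩ := (hp.sq_iff hq hy hv hyv).1 hxx
  have hx1 : q * y ≠ 1 := fun h => by
    rw [h, D.act_one, ← siegel_zero D.space hp.cls_sing 0] at hxv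
    obtain ⟨α, hα⟩ := siegel_eq D.space hp.cls_sing hp.cls_ne (by rw [zero_smul, map_zero]) hv hxv
    exact hvn (by
      rw [hα, zero_smul, zero_add]
      exact Submodule.smul_mem _ _ (Submodule.mem_span_singleton_self _))
  by_cases hu : D.cls q ∈ Submodule.span (ZMod 2) {D.cls t} ⊔ Submodule.span (ZMod 2) {v}
  · obtain ⟨u1, hu1, u2, hu2, hus⟩ := Submodule.mem_sup.1 hu
    obtain ⟨α, rfl⟩ := Submodule.mem_span_singleton.1 hu1
    obtain ⟨β, rfl⟩ := Submodule.mem_span_singleton.1 hu2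
    have hBv : D.B (D.cls q) v = 0 := by
      rw [← hus]; simp [hv, B_self D.space]
    have hQv : D.qf v = 0 := h2.trans hBv
    refine Or.inl ⟨hQv, ?_⟩
    rcases bit β with rfl | rfl
    · have hA := hp.inA_of_cls hq.1 (α := α) (by rw [← hus, zero_smul, add_zero])
      have hm : q * y ∈ D.Qof t := mul_mem (hp.inA_mem hA).2 hy.1
      exact ⟨Or.inl hm, D.cl_of_Qof hp.cl hm hxx hx1⟩
    · obtain ⟨-, -, w, hw, ⟨α', hα'⟩, hwy, -⟩ := hp.third hy hv hyv
      have hA := hp.inA_of_cls (mul_mem hq.1 (inv_mem hw.1)) (α := α + α') (by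
        rw [D.cls_mul _ hq.1 _ (inv_mem hw.1), D.cls_inv hw.1, hα', ← hus, one_smul, add_smul,
          add_assoc, ← add_assoc v, vadd_self, zero_add])
      have hA' : q * w⁻¹ ∈ D.Qof (D.z * t) := by
        refine (hp.z_mul.inA_mem ?_).2
        have e : D.z * (D.z * t) = t := by rw [← mul_assoc, D.ctx.sq_z, one_mul]
        rcases hA with h | h | h | h
        exacts [Or.inl h, Or.inr (Or.inl h), Or.inr (Or.inr (Or.inr (h.trans e.symm))),
          Or.inr (Or.inr (Or.inl h))]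
      have hm : q * y ∈ D.Qof (D.z * t) := by
        rw [show q * y = q * w⁻¹ * (w * y) by group]
        exact mul_mem hA' hwy
      exact ⟨Or.inr hm, D.cl_of_Qof hp.z_mul.cl hm hxx hx1⟩
  · exact Or.inr ⟨D.cls q, hp, hv, (hp.inCQ_iff hq.1).1 hq, hvn, hu, h1.trans h2.symm, h2.symm,
      q, y, rfl, hq, rfl, hy, hyv⟩

end Data.Point

namespace Data.Frame

variable [Finite G] {x t : G} {v u : ι → ZMod 2} (F : D.Frame x t v u)
include F

theorem comm_z : Commute x D.z := by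
  obtain ⟨q, y, rfl, hq, -, hy, -⟩ := F.dec
  exact (D.ctx.central q hq.1).symm.mul_left hy.2

theorem comm_t : Commute x t := by
  obtain ⟨q, y, rfl, hq, -, hy, -⟩ := F.dec
  exact hq.2.mul_left (F.pt.pq_commute_t hy)

theorem act_eq : D.act x = sGL D.qf D.B (D.cls t) v := by
  obtain ⟨q, y, rfl, hq, -, hy, hyv⟩ := F.dec
  rw [D.act_mul _ _ (D.ctx.central q hq.1).symm hy.2, D.act_q hq.1, one_mul, hyv]

theorem sq : x * x = 1 := by
  obtain ⟨q, y, rfl, hq, hu, hy, hyv⟩ := F.dec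
  exact (F.pt.sq_iff hq hy F.vperp hyv).2 ⟨by rw [hu, F.qu, F.buv], by rw [hu, F.buv]⟩

theorem not_mem : x ∉ D.Q := fun h => by
  have e := (D.act_q h).symm.trans F.act_eq
  rw [← siegel_zero D.space F.pt.cls_sing 0] at e
  obtain ⟨α, hα⟩ := siegel_eq D.space F.pt.cls_sing F.pt.cls_ne
    (by rw [zero_smul, map_zero]) F.vperp e
  exact F.vind (by
    rw [hα, zero_smul, zero_add]
    exact Submodule.smul_mem _ _ (Submodule.mem_span_singleton_self _))

theorem ne_one : x ≠ 1 := fun h => F.not_mem (h ▸ one_mem _)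

theorem v_sep : v ∉ Submodule.span (ZMod 2) {D.cls t} ⊔ Submodule.span (ZMod 2) {u} := by
  intro hm
  obtain ⟨a, ha, b, hb, e⟩ := Submodule.mem_sup.1 hm
  obtain ⟨α, rfl⟩ := Submodule.mem_span_singleton.1 ha
  obtain ⟨β, rfl⟩ := Submodule.mem_span_singleton.1 hb
  rcases bit β with rfl | rfl
  · rw [zero_smul, add_zero] at e
    exact F.vind (e ▸ Submodule.smul_mem _ _ (Submodule.mem_span_singleton_self _))
  · rw [one_smul] at e
    exact F.uind (Submodule.mem_sup.2 ⟨α • D.cls t,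
      Submodule.smul_mem _ _ (Submodule.mem_span_singleton_self _), v,
      Submodule.mem_span_singleton_self v, by rw [← e, ← add_assoc, vadd_self, zero_add]⟩)

/-- Prescribed inner products with the classes. -/
theorem exists_dual (i j : ZMod 2) :
    ∃ b, D.B (D.cls t) b = 0 ∧ D.B u b = i ∧ D.B v b = j := by
  obtain ⟨b1, h1, h1u⟩ := exists_sep D.space _ F.uind
  obtain ⟨b2, h2, h2v⟩ := exists_sep D.space _ F.v_sep
  refine ⟨i • b1 + j • b2, ?_, ?_, ?_⟩
  · simp [h1 _ (Submodule.mem_sup_left (Submodule.mem_span_singleton_self _)),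
      h2 _ (Submodule.mem_sup_left (Submodule.mem_span_singleton_self _))]
  · simp [h1u, h2 _ (Submodule.mem_sup_right (Submodule.mem_span_singleton_self _))]
  · simp [h2v, h1 _ (Submodule.mem_sup_right (Submodule.mem_span_singleton_self _))]

/-- The conjugates under `Q ∩ C(t)`. -/
theorem shift {a : G} (ha : D.InA t a) : ∃ d, D.InCQ t d ∧ d * x * d⁻¹ = a * x := by
  obtain ⟨i, j, rfl⟩ := F.pt.inA_zt ha
  obtain ⟨q, y, rfl, hq, hu, hy, hyv⟩ := F.dec
  obtain ⟨b, hb, hbu, hbv⟩ := F.exists_dual (i + j) j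
  obtain ⟨d, hd, hdb⟩ := F.pt.exists_inCQ hb
  refine ⟨d, hd, mul_inv_eq_iff_eq_mul.2 ?_⟩
  have h := F.pt.swap_mul hd (F.pt.pq_one) hq hy (v := 0) (map_zero _) F.vperp
    (by rw [D.act_one, ← siegel_zero D.space F.pt.cls_sing 0, zero_smul]) hyv
  rw [mul_one] at h
  rw [h, hdb, hu]
  simp only [map_zero, LinearMap.zero_apply, zero_add, D.space.symm b, hbu, hbv]
  rw [mul_assoc (D.zt t i j)]
  congr 2
  linear_combination bit_self j

/-- The frames of one kind are conjugate in `C(z)`. -/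
theorem conj_of {x' t' : G} {v' u' : ι → ZMod 2} (F' : D.Frame x' t' v' u')
    (hk : D.qf v = D.qf v') (hU : D.qf v' ≠ 0 ∨ 8 ≤ Fintype.card ι) :
    ∃ c, Commute c D.z ∧ c * x * c⁻¹ = x' ∧ c * t * c⁻¹ = t' := by
  set p := D.cls t with hpdef
  set p' := D.cls t' with hp'def
  obtain ⟨h1, hh1, -, e1⟩ := witt_step D.space (⊥ : Submodule (ZMod 2) (ι → ZMod 2))
    (x := p) (x' := p') (by simpa using F.pt.cls_ne) (by simpa using F'.pt.cls_ne)
    (F.pt.cls_sing.trans F'.pt.cls_sing.symm) (by simp)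
  have hp'1 : ∀ k ∈ Submodule.span (ZMod 2) {p'}, ∀ w, D.B p w = 0 → D.B k (h1.val *ᵥ w) = 0 := by
    intro k hk w hw
    obtain ⟨α, rfl⟩ := Submodule.mem_span_singleton.1 hk
    rw [map_smul, LinearMap.smul_apply, ← e1, D.space.B_act hh1, hw, smul_zero]
  obtain ⟨h2, hh2, f2, e2⟩ := witt_step D.space (Submodule.span (ZMod 2) {p'})
    (x := h1.val *ᵥ v) (x' := v') (fun hm => F.vind (by
      obtain ⟨α, e⟩ := Submodule.mem_span_singleton.1 hm
      rw [← e1, ← Matrix.mulVec_smul] at e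
      exact Submodule.mem_span_singleton.2 ⟨α, act_injective h1 e⟩)) F'.vind
    (by rw [mem_iso.1 hh1, hk]) (fun k hk => by
      rw [hp'1 k hk v F.vperp]
      obtain ⟨α, rfl⟩ := Submodule.mem_span_singleton.1 hk
      rw [map_smul, LinearMap.smul_apply, F'.vperp, smul_zero])
  · set h21 := h2 * h1 with h21def
    have hh21 : h21 ∈ isometryGroup (ZMod 2) D.qf := mul_mem hh2 hh1
    have e21p : h21.val *ᵥ p = p' := by
      rw [mul_act, e1]; exact f2 p' (Submodule.mem_span_singleton_self p')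
    have e21v : h21.val *ᵥ v = v' := by rw [mul_act, e2]
    set U2 := Submodule.span (ZMod 2) {p'} ⊔ Submodule.span (ZMod 2) {v'} with hU2
    obtain ⟨h3, hh3, f3, e3⟩ := witt_step D.space U2 (x := h21.val *ᵥ u) (x' := u')
      (fun hm => F.uind (by
        obtain ⟨a, ha, b, hb, e⟩ := Submodule.mem_sup.1 hm
        obtain ⟨α, rfl⟩ := Submodule.mem_span_singleton.1 ha
        obtain ⟨β, rfl⟩ := Submodule.mem_span_singleton.1 hb
        rw [← e21p, ← e21v, ← Matrix.mulVec_smul, ← Matrix.mulVec_smul, ← Matrix.mulVec_add] at e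
        exact Submodule.mem_sup.2 ⟨_, Submodule.smul_mem _ α (Submodule.mem_span_singleton_self p),
          _, Submodule.smul_mem _ β (Submodule.mem_span_singleton_self v), act_injective h21 e⟩)) F'.uind (by rw [mem_iso.1 hh21, F.qu, F'.qu, hk]) (fun k hk' => by
        obtain ⟨k1, hk1, k2, hk2, rfl⟩ := Submodule.mem_sup.1 hk'
        obtain ⟨α, rfl⟩ := Submodule.mem_span_singleton.1 hk1
        obtain ⟨β, rfl⟩ := Submodule.mem_span_singleton.1 hk2
        simp only [map_add, map_smul, LinearMap.add_apply, LinearMap.smul_apply]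
        rw [F'.uperp]
        nth_rewrite 1 [← e21p]
        nth_rewrite 1 [← e21v]
        rw [D.space.B_act hh21, D.space.B_act hh21, F.uperp, D.space.symm v u, F.buv,
          D.space.symm v' u', F'.buv, hk])
    · set U := U2 ⊔ Submodule.span (ZMod 2) {u'} with hUdef
      have hp'U : p' ∈ U2 := Submodule.mem_sup_left (Submodule.mem_span_singleton_self p')
      have hv'U : v' ∈ U2 := Submodule.mem_sup_right (Submodule.mem_span_singleton_self v')
      set h := h3 * h21 with hdef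
      have ep : h.val *ᵥ p = p' := by rw [mul_act, e21p, f3 p' hp'U]
      have ev : h.val *ᵥ v = v' := by rw [mul_act, e21v, f3 v' hv'U]
      have eu : h.val *ᵥ u = u' := by rw [mul_act, e3]
      obtain ⟨g, hg, hag⟩ := D.exists_omega U (by
        have h4 := Submodule.finrank_add_le_finrank_add_finrank U2 (Submodule.span (ZMod 2) {u'})
        have h5 := Submodule.finrank_add_le_finrank_add_finrank
          (Submodule.span (ZMod 2) {p'}) (Submodule.span (ZMod 2) {v'})
        have h6 : ∀ w : ι → ZMod 2, finrank (ZMod 2) (Submodule.span (ZMod 2) {w}) ≤ 1 := fun w => by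
          simpa using finrank_span_le_card ({w} : Set (ι → ZMod 2))
        rw [← hU2] at h5
        rw [← hUdef] at h4
        have := h6 p'; have := h6 v'; have := h6 u'; have := D.six
        by_cases he : 2 * finrank (ZMod 2) U = Fintype.card ι
        · rcases hU with h' | h'
          · exact Or.inr ⟨he, v', Submodule.mem_sup_left hv'U, h'⟩
          · omega
        · exact Or.inl (by omega)) (mul_mem hh3 hh21)
      have gp : g.val *ᵥ p = p' := by
        rw [hag p (by rw [ep]; exact Submodule.mem_sup_left hp'U), ep]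
      have gv : g.val *ᵥ v = v' := by
        rw [hag v (by rw [ev]; exact Submodule.mem_sup_left hv'U), ev]
      have gu : g.val *ᵥ u = u' := by
        rw [hag u (by rw [eu]; exact Submodule.mem_sup_right (Submodule.mem_span_singleton_self u')), eu]
      obtain ⟨c0, hc0, rfl⟩ := D.act_surj g hg
      obtain ⟨c, hcz, hca, hct⟩ : ∃ c, Commute c D.z ∧ D.act c = D.act c0 ∧ c * t * c⁻¹ = t' := by
        have hm : c0 * t * c0⁻¹ ∈ D.Q :=
          (Subgroup.mem_normalizer_iff.1 (D.ctx.norm c0 hc0) t).1 F.pt.mem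
        rcases D.cls_eq hm F'.pt.mem (by rw [D.act_cls c0 hc0 t F.pt.mem]; exact gp) with e | e
        · exact ⟨c0, hc0, rfl, e.symm⟩
        · obtain ⟨a, ha, -, hat⟩ := F'.pt.exists_mover
          refine ⟨a * c0, (D.ctx.central a ha).symm.mul_left hc0,
            by rw [D.act_mul _ _ (D.ctx.central a ha).symm hc0, D.act_q ha, one_mul], ?_⟩
          have hc : c0 * t * c0⁻¹ = D.z * t' := by rw [e, ← mul_assoc, D.ctx.sq_z, one_mul]
          calc a * c0 * t * (a * c0)⁻¹ = a * (c0 * t * c0⁻¹) * a⁻¹ := by group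
            _ = a * D.z * a⁻¹ * (a * t' * a⁻¹) := by rw [hc]; group
            _ = t' := by
              rw [hat, mul_inv_eq_iff_eq_mul.2 (D.ctx.central a ha).symm.eq, ← mul_assoc,
                D.ctx.sq_z, one_mul]
      obtain ⟨q, y, rfl, hq, hqu, hy, hyv⟩ := F.dec
      obtain ⟨q', y', rfl, hq', hqu', hy', hyv'⟩ := F'.dec
      have hcyP : D.InPQ t' (c * y * c⁻¹) :=
        ⟨hct ▸ D.Qof_conj F.pt.cl c hy.1, (hcz.mul_left hy.2).mul_left hcz.inv_left⟩
      obtain ⟨e, he, hey⟩ := F'.pt.same_label hy' hcyP (by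
        rw [D.act_mul _ _ (hcz.mul_left hy.2) hcz.inv_left, D.act_mul _ _ hcz hy.2, D.act_inv hcz,
          hyv, sGL_conj D.space F.pt.cls_sing F.vperp (D.act_iso hcz), hca, hyv']
        exact (congrArg₂ (fun a b => sGL D.qf D.B a b) gp gv).symm)
      have hcq : c * q * c⁻¹ ∈ D.Q := (Subgroup.mem_normalizer_iff.1 (D.ctx.norm c hcz) q).1 hq.1
      obtain ⟨e', he', heq⟩ : ∃ e', D.InA t' e' ∧ c * q * c⁻¹ = e' * q' := by
        refine ⟨c * q * c⁻¹ * q'⁻¹, F'.pt.inA_of_cls (mul_mem hcq (inv_mem hq'.1)) (α := 0) ?_,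
          by group⟩
        rw [D.cls_mul _ hcq _ (inv_mem hq'.1), D.cls_inv hq'.1, D.act_cls c hcz q hq.1, hca, hqu,
          gu, hqu', vadd_self, zero_smul]
      obtain ⟨a, ha, hxa⟩ : ∃ a, D.InA t' a ∧ c * (q * y) * c⁻¹ = a * (q' * y') := by
        obtain ⟨i, j, rfl⟩ := F'.pt.inA_zt he
        obtain ⟨i', j', rfl⟩ := F'.pt.inA_zt he'
        refine ⟨D.zt t' (i' + i) (j' + j), F'.pt.zt_A _ _, ?_⟩
        rw [show c * (q * y) * c⁻¹ = c * q * c⁻¹ * (c * y * c⁻¹) by group, heq, hey,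
          ← F'.pt.zt_add, mul_assoc, ← mul_assoc q',
          ← (F'.pt.A_commute_cq (F'.pt.zt_A i j) hq').eq]
        group
      obtain ⟨d, hd, hdx⟩ := F'.shift ha
      refine ⟨d⁻¹ * c, ((D.ctx.central d hd.1).symm.inv_left).mul_left hcz, ?_, ?_⟩
      · rw [show d⁻¹ * c * (q * y) * (d⁻¹ * c)⁻¹ = d⁻¹ * (c * (q * y) * c⁻¹) * d by group, hxa,
          ← hdx]
        group
      · rw [show d⁻¹ * c * t * (d⁻¹ * c)⁻¹ = d⁻¹ * (c * t * c⁻¹) * d by group, hct,
          (hd.2.inv_left).eq, inv_mul_cancel_right]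

/-- Some element of `C(z)` fixes the frame and interchanges `t` and `zt`. -/
theorem exists_swap (hU : D.qf v ≠ 0 ∨ 8 ≤ Fintype.card ι) (hncl : ¬ D.Cl x) :
    ∃ n, Commute n D.z ∧ Commute n x ∧ n * t * n⁻¹ = D.z * t := by
  obtain ⟨a, ha, -, hat⟩ := F.pt.exists_mover
  have haz := (D.ctx.central a ha).symm
  have hx' : Commute (a * x * a⁻¹) t := by
    have h : Commute x (D.z * t) := F.comm_z.mul_right F.comm_t
    have h2 := (Commute.conj_iff a).2 h
    rwa [show a * (D.z * t) * a⁻¹ = a * D.z * a⁻¹ * (a * t * a⁻¹) by group, hat,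
      mul_inv_eq_iff_eq_mul.2 haz.eq, ← mul_assoc, D.ctx.sq_z, one_mul] at h2
  rcases F.pt.classify (x := a * x * a⁻¹) ((haz.mul_left F.comm_z).mul_left haz.inv_left) hx'
      (by rw [show a * x * a⁻¹ * (a * x * a⁻¹) = a * (x * x) * a⁻¹ by group, F.sq]; simp)
      F.vperp F.vind (by
        rw [D.act_mul _ _ (haz.mul_left F.comm_z) haz.inv_left, D.act_mul _ _ haz F.comm_z,
          D.act_inv haz, D.act_q ha, one_mul, inv_one, mul_one, F.act_eq]) with h | ⟨u', F'⟩
  · obtain ⟨k, hk⟩ := h.2.2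
    exact absurd ⟨a⁻¹ * k, by
      calc a⁻¹ * k * D.z * (a⁻¹ * k)⁻¹ = a⁻¹ * (k * D.z * k⁻¹) * a := by group
        _ = x := by rw [hk]; group⟩ hncl
  · obtain ⟨d, hd, hdx, hdt⟩ := F'.conj_of F rfl hU
    refine ⟨d * a, hd.mul_left haz, mul_inv_eq_iff_eq_mul.1 ?_, ?_⟩
    · rw [show d * a * x * (d * a)⁻¹ = d * (a * x * a⁻¹) * d⁻¹ by group, hdx]
    · rw [show d * a * t * (d * a)⁻¹ = d * (a * t * a⁻¹) * d⁻¹ by group, hat,
        show d * (D.z * t) * d⁻¹ = d * D.z * d⁻¹ * (d * t * d⁻¹) by group, hdt,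
        mul_inv_eq_iff_eq_mul.2 hd.eq]

end Data.Frame

/-- A non-trivial conjugate, or an involution of rank two, has a frame or is conjugate to `z`. -/
theorem Data.classify_two [Finite G] (D : Data G ι) {x : G} (hxz : Commute x D.z) (hxx : x * x = 1)
    (hfix : finrank (ZMod 2) (fixSpace (D.act x)) + 2 = Fintype.card ι) :
    D.Cl x ∨ ∃ t v u, D.Frame x t v u := by
  have hg2 : D.act x * D.act x = 1 := by rw [← D.act_mul _ _ hxz hxz, hxx, D.act_one]
  obtain ⟨p, v, a, hp, hp0, hv, hvn, hgv, hap⟩ := rank_two D.space (D.act_iso hxz) hg2 hfix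
  obtain ⟨b, hb, rfl⟩ := D.cls_surj a
  have hxb : x * b * x⁻¹ ∈ D.Q := (Subgroup.mem_normalizer_iff.1 (D.ctx.norm x hxz) b).1 hb
  set t := x * b * x⁻¹ * b⁻¹ with ht
  have htQ : t ∈ D.Q := mul_mem hxb (inv_mem hb)
  have htc : D.cls t = p := by
    rw [ht, D.cls_mul _ hxb _ (inv_mem hb), D.cls_inv hb, D.act_cls x hxz b hb, ← hap, nMap_apply]
  have ht2 : t * t = 1 := (D.cls_sq t htQ).2 (by rw [htc]; exact hp)
  have hpt : D.Point t := ⟨htQ, ht2, fun h => hp0 (by rw [← htc, h, D.cls_one]),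
    fun h => hp0 (by rw [← htc, h, D.cls_z])⟩
  have hxt : Commute x t := by
    have hxi : x⁻¹ = x := inv_eq_of_mul_eq_one_right hxx
    refine mul_inv_eq_iff_eq_mul.1 ?_
    calc x * t * x⁻¹ = x * x * b * x⁻¹ * b⁻¹ * x⁻¹ := by rw [ht]; group
      _ = b * x * b⁻¹ * x⁻¹ := by rw [hxx, hxi, one_mul]
      _ = t⁻¹ := by rw [ht]; group
      _ = t := inv_eq_of_mul_eq_one_right ht2
  rw [← htc] at hv hgv hvn
  rcases hpt.classify hxz hxt hxx hv
    (fun hm => by obtain ⟨α, hα⟩ := Submodule.mem_span_singleton.1 hm; exact hvn α hα.symm) hgv with h | ⟨u, F⟩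
  · exact Or.inl h.2.2
  · exact Or.inr ⟨t, v, u, F⟩

end Cfsg.Lib.Extra.Wide
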