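import Cfsg.Agent.Lib.Extra.Wide.Geo
import Cfsg.Agent.Lib.J2Type.AltFive
import Cfsg.Agent.Lib.Linear.OrthSmallIso

/-!
# Isometries of order five over the field with two elements

An isometry of order five splits the space into its fixed space and its commutator space; on a
four-dimensional commutator space it has one orbit of singular vectors.
-/

set_option autoImplicit false
set_option linter.style.haveILetI false

namespace Cfsg.Lib.Extra.Wide

open Cfsg Module Cfsg.Lib.Linear Cfsg.Lib.Linear.Orth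
open Cfsg.Lib.J2Type (A5 omega_equiv)
open scoped Matrix

/-- The coefficient vector shifted by `j`. -/
def shiftVec (j : Fin 5) (k : Fin 5 → ZMod 2) : Fin 5 → ZMod 2 := fun i => k (i - j)

theorem shift_solve : ∀ k : Fin 5 → ZMod 2, k 4 = 0 → k ≠ 0 → ∃ (c : Fin 5 → ZMod 2) (d : ZMod 2),
    ∀ i, (∑ j, c j * shiftVec j k i) + d = if i = 0 then 1 else 0 := by decide +kernel

theorem orbit_solve : ∀ a : Fin 4 → ZMod 2, a 0 * a 1 + a 0 * a 2 + a 0 * a 3 + a 1 * a 2 + a 1 * a 3 +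
    a 2 * a 3 = 0 → a ≠ 0 → (∀ i, a i = 1) ∨ ∃ j, ∀ i, a i = if i = j then 1 else 0 := by decide +kernel

variable {ι : Type} [Fintype ι] [DecidableEq ι] {Q : (ι → ZMod 2) → ZMod 2}
  {B : LinearMap.BilinForm (ZMod 2) (ι → ZMod 2)}

theorem pow_act (g : GL ι (ZMod 2)) (n : ℕ) (x : ι → ZMod 2) :
    (g ^ (n + 1)).val *ᵥ x = g.val *ᵥ ((g ^ n).val *ᵥ x) := by rw [pow_succ', mul_act]

theorem pow_fix {g : GL ι (ZMod 2)} {w : ι → ZMod 2} (hw : g.val *ᵥ w = w) (n : ℕ) :
    (g ^ n).val *ᵥ w = w := by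
  induction n with
  | zero => rw [pow_zero, Units.val_one, Matrix.one_mulVec]
  | succ n ih => rw [pow_act, ih, hw]

theorem zpow_fix {g : GL ι (ZMod 2)} {w : ι → ZMod 2} (hw : g.val *ᵥ w = w) (n : ℤ) :
    (g ^ n).val *ᵥ w = w := by
  rcases n with n | n
  · rw [Int.ofNat_eq_natCast, zpow_natCast, pow_fix hw]
  · rw [zpow_negSucc]
    conv_lhs => arg 2; rw [← pow_fix hw (n + 1)]
    rw [inv_act]

theorem mem_fix {g : GL ι (ZMod 2)} {x : ι → ZMod 2} : x ∈ fixSpace g ↔ g.val *ᵥ x = x := by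
  rw [← ker_nMap, LinearMap.mem_ker, nMap_eq_zero]

theorem nMap_comm {g k : GL ι (ZMod 2)} (h : Commute g k) (x : ι → ZMod 2) :
    k.val *ᵥ nMap g x = nMap g (k.val *ᵥ x) := by
  rw [nMap_apply, nMap_apply, Matrix.mulVec_add, ← mul_act, ← mul_act, h.eq]

theorem range_inv {g k : GL ι (ZMod 2)} (h : Commute g k) {u : ι → ZMod 2}
    (hu : u ∈ LinearMap.range (nMap g)) : k.val *ᵥ u ∈ LinearMap.range (nMap g) := by
  obtain ⟨x, rfl⟩ := hu
  exact ⟨_, (nMap_comm h x).symm⟩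

theorem fix_inv {g k : GL ι (ZMod 2)} (h : Commute g k) {w : ι → ZMod 2} (hw : g.val *ᵥ w = w) :
    g.val *ᵥ (k.val *ᵥ w) = k.val *ᵥ w := by
  rw [← mul_act, h.eq, mul_act, hw]

theorem exists_sing (C : Space Q B) (U : Submodule (ZMod 2) (ι → ZMod 2)) (hU : 3 ≤ finrank (ZMod 2) U) :
    ∃ u ∈ U, u ≠ 0 ∧ Q u = 0 := by
  by_contra h
  push Not at h
  have hone : ∀ u ∈ U, u ≠ 0 → Q u = 1 := fun u hu h0 => (bit _).resolve_left (h u hu h0)
  obtain ⟨x, hx, hx0⟩ := U.exists_mem_ne_zero_of_ne_bot fun e => by rw [e, finrank_bot] at hU; omega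
  obtain ⟨y, hy, hyx⟩ : ∃ y ∈ U ⊓ LinearMap.ker (B x), y ∉ Submodule.span (ZMod 2) {x} := by
    by_contra hc
    push Not at hc
    have h1 := Submodule.finrank_mono (show U ⊓ LinearMap.ker (B x) ≤ _ from hc)
    have h2 := Submodule.finrank_sup_add_finrank_inf_eq U (LinearMap.ker (B x))
    have h3 := LinearMap.finrank_range_add_finrank_ker (B x)
    have h4 : finrank (ZMod 2) (LinearMap.range (B x)) ≤ 1 :=
      (Submodule.finrank_le _).trans (Module.finrank_self _).le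
    have h5 : finrank (ZMod 2) (Submodule.span (ZMod 2) {x}) ≤ 1 := by
      simpa using finrank_span_le_card ({x} : Set (ι → ZMod 2))
    have h6 := Submodule.finrank_le (U ⊔ LinearMap.ker (B x))
    omega
  have hy0 : y ≠ 0 := fun e => hyx (e ▸ zero_mem _)
  have hxy : x + y ≠ 0 := fun e => hyx (vadd_eq_zero e ▸ Submodule.mem_span_singleton_self x)
  have := hone _ (U.add_mem hx hy.1) hxy
  rw [C.add, hone x hx hx0, hone y hy.1 hy0, show B x y = 0 from hy.2] at this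
  exact absurd this (by decide)

section Five

variable (C : Space Q B) {g : GL ι (ZMod 2)} (hg : g ∈ isometryGroup (ZMod 2) Q) (h5 : g ^ 5 = 1)
include C hg h5

omit C hg in
theorem five_fix_inf {w : ι → ZMod 2} (hw : g.val *ᵥ w = w)
    (hu : w ∈ LinearMap.range (nMap g)) : w = 0 := by
  obtain ⟨x, hx⟩ := hu
  have hk : ∀ n : ℕ, (g ^ n).val *ᵥ x = x + (n : ZMod 2) • w := by
    intro n
    induction n with
    | zero => simp
    | succ n ih =>
      rw [pow_act, ih, Matrix.mulVec_add, Matrix.mulVec_smul, hw, Nat.cast_succ, add_smul, one_smul,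
        show g.val *ᵥ x = x + w by rw [← hx, nMap_apply, add_comm x, add_assoc, vadd_self, add_zero]]
      abel
  have h := hk 5
  rw [h5, Units.val_one, Matrix.one_mulVec, show ((5 : ℕ) : ZMod 2) = 1 from rfl, one_smul] at h
  exact left_eq_add.1 h

omit h5 in
theorem five_orth {w u : ι → ZMod 2} (hw : g.val *ᵥ w = w)
    (hu : u ∈ LinearMap.range (nMap g)) : B w u = 0 := by
  obtain ⟨x, rfl⟩ := hu
  have h := C.B_act hg w x
  rw [hw] at h
  rw [nMap_apply, map_add, h, bit_self]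

omit C hg in
theorem five_decomp (x : ι → ZMod 2) :
    ∃ w u, g.val *ᵥ w = w ∧ u ∈ LinearMap.range (nMap g) ∧ w + u = x := by
  have hinf : fixSpace g ⊓ LinearMap.range (nMap g) = ⊥ := (Submodule.eq_bot_iff _).2
    fun w hw => five_fix_inf h5 (mem_fix.1 hw.1) hw.2
  have h1 := Submodule.finrank_sup_add_finrank_inf_eq (fixSpace g) (LinearMap.range (nMap g))
  rw [hinf, finrank_bot, add_zero] at h1
  have h2 := finrank_range_nMap g
  have htop : fixSpace g ⊔ LinearMap.range (nMap g) = ⊤ := Submodule.eq_top_of_finrank_eq (by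
    rw [finrank_fintype_fun_eq_card]; omega)
  obtain ⟨w, hw, u, hu, e⟩ := Submodule.mem_sup.1 (htop ▸ Submodule.mem_top :
    x ∈ fixSpace g ⊔ LinearMap.range (nMap g))
  exact ⟨w, u, mem_fix.1 hw, hu, e⟩

theorem five_nondeg_fix {w : ι → ZMod 2} (hw : g.val *ᵥ w = w)
    (h : ∀ w', g.val *ᵥ w' = w' → B w w' = 0) : w = 0 :=
  C.nondeg' fun x => by
    obtain ⟨w', u, hw', hu, rfl⟩ := five_decomp h5 x
    rw [map_add, h w' hw', five_orth C hg hw hu, add_zero]

theorem five_nondeg_range {u : ι → ZMod 2} (hu : u ∈ LinearMap.range (nMap g))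
    (h : ∀ u' ∈ LinearMap.range (nMap g), B u u' = 0) : u = 0 :=
  C.nondeg' fun x => by
    obtain ⟨w', u', hw', hu', rfl⟩ := five_decomp h5 x
    rw [map_add, h u' hu', C.symm u w', five_orth C hg hw' hu, add_zero]

open Fin.NatCast in
omit C hg in
theorem five_indep {x : ι → ZMod 2} (hx : x ∈ LinearMap.range (nMap g)) (hx0 : x ≠ 0) :
    (∑ i : Fin 5, (g ^ (i : ℕ)).val *ᵥ x) = 0 ∧
      LinearIndependent (ZMod 2) (fun i : Fin 4 => (g ^ (i : ℕ)).val *ᵥ x) := by
  have hm : ∀ n : ℕ, (g ^ n).val *ᵥ x ∈ LinearMap.range (nMap g) := fun n =>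
    range_inv (Commute.pow_right (Commute.refl g) n) hx
  have hper : ∀ n : ℕ, (g ^ (n % 5)).val *ᵥ x = (g ^ n).val *ᵥ x := fun n => by
    rw [← pow_eq_pow_mod n h5]
  set e : Fin 5 → (ι → ZMod 2) := fun i => (g ^ (i : ℕ)).val *ᵥ x with he
  have hshift : ∀ (j : ℕ) (i : Fin 5), (g ^ j).val *ᵥ e i = e (i + (j : Fin 5)) := fun j i => by
    show (g ^ j).val *ᵥ ((g ^ (i : ℕ)).val *ᵥ x) = (g ^ ((i + (j : Fin 5) : Fin 5) : ℕ)).val *ᵥ x
    rw [← mul_act, ← pow_add, Fin.val_add, Fin.val_natCast, ← hper (j + i)]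
    congr 3
    omega
  have hsum : (∑ i : Fin 5, e i) = 0 := by
    refine five_fix_inf h5 ?_ (Submodule.sum_mem _ fun i _ => hm _)
    rw [Matrix.mulVec_sum]
    have h1 := hshift 1
    simp only [pow_one] at h1
    simp only [h1]
    exact Equiv.sum_comp (Equiv.addRight ((1 : ℕ) : Fin 5)) e
  refine ⟨hsum, Fintype.linearIndependent_iff.2 fun a ha => ?_⟩
  by_contra hne
  push Not at hne
  obtain ⟨i0, hi0⟩ := hne
  let k : Fin 5 → ZMod 2 := Fin.snoc a 0
  have hk : ∀ i : Fin 4, k i.castSucc = a i := fun i => Fin.snoc_castSucc _ _ _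
  obtain ⟨c, d, hcd⟩ := shift_solve k (Fin.snoc_last _ _) fun h =>
    hi0 (by rw [← hk, h]; rfl)
  have hk0 : (∑ i, k i • e i) = 0 := by
    rw [Fin.sum_univ_castSucc]
    simp only [hk, show k (Fin.last 4) = 0 from Fin.snoc_last _ _, zero_smul, add_zero]
    exact ha
  have hkj : ∀ j : Fin 5, (∑ i, shiftVec j k i • e i) = 0 := fun j => by
    have h := congrArg (fun v => (g ^ (j : ℕ)).val *ᵥ v) hk0
    simp only [Matrix.mulVec_sum, Matrix.mulVec_smul, hshift, Matrix.mulVec_zero, Fin.cast_val_eq_self] at h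
    rw [← h, ← Equiv.sum_comp (Equiv.addRight j) (fun i => shiftVec j k i • e i)]
    refine Finset.sum_congr rfl fun i _ => ?_
    simp [shiftVec]
  refine hx0 ?_
  calc x = e 0 := by simp [he]
    _ = ∑ i, (if i = 0 then (1 : ZMod 2) else 0) • e i := by simp
    _ = ∑ i, ((∑ j, c j * shiftVec j k i) + d) • e i := by simp only [hcd]
    _ = (∑ j, c j • ∑ i, shiftVec j k i • e i) + d • ∑ i, e i := by
        simp only [add_smul, Finset.sum_add_distrib, Finset.sum_smul, Finset.smul_sum, smul_smul]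
        rw [Finset.sum_comm]
    _ = 0 := by simp [hkj, hsum]

omit C hg in
theorem five_range_ge (hg1 : g ≠ 1) : 4 ≤ finrank (ZMod 2) (LinearMap.range (nMap g)) := by
  obtain ⟨x, hx⟩ : ∃ x, nMap g x ≠ 0 := by
    by_contra h
    push Not at h
    exact hg1 (gl_ext fun x => by rw [Units.val_one, Matrix.one_mulVec, ← nMap_eq_zero, h x])
  obtain ⟨-, hli⟩ := five_indep h5 (LinearMap.mem_range_self (nMap g) x) hx
  have hli' : LinearIndependent (ZMod 2) (fun i : Fin 4 => (⟨(g ^ (i : ℕ)).val *ᵥ nMap g x,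
      range_inv (Commute.pow_right (Commute.refl g) i) (LinearMap.mem_range_self (nMap g) x)⟩ :
        LinearMap.range (nMap g))) :=
    LinearIndependent.of_comp (LinearMap.range (nMap g)).subtype hli
  simpa using hli'.fintype_card_le_finrank

variable (hU : finrank (ZMod 2) (LinearMap.range (nMap g)) = 4)
include hU

/-- The singular vectors of a four-dimensional commutator space. -/
theorem five_orbit : ∃ x ∈ LinearMap.range (nMap g), x ≠ 0 ∧ Q x = 0 ∧
    Submodule.span (ZMod 2) (Set.range fun i : Fin 4 => (g ^ (i : ℕ)).val *ᵥ x) =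
      LinearMap.range (nMap g) ∧
    (∀ u ∈ LinearMap.range (nMap g), u ≠ 0 → Q u = 0 → ∃ i : ℕ, i < 5 ∧ u = (g ^ i).val *ᵥ x) ∧
    ∀ u ∈ LinearMap.range (nMap g), ∀ w ∈ LinearMap.range (nMap g), u ≠ 0 → w ≠ 0 → Q u = 0 →
      Q w = 0 → B u w = 0 → u = w := by
  obtain ⟨x, hx, hx0, hQx⟩ := exists_sing C (LinearMap.range (nMap g)) (by omega)
  obtain ⟨hsum, hli⟩ := five_indep h5 hx hx0
  have hm : ∀ n : ℕ, (g ^ n).val *ᵥ x ∈ LinearMap.range (nMap g) := fun n =>
    range_inv (Commute.pow_right (Commute.refl g) n) hx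
  have hspan : Submodule.span (ZMod 2) (Set.range fun i : Fin 4 => (g ^ (i : ℕ)).val *ᵥ x) =
      LinearMap.range (nMap g) := by
    refine Submodule.eq_of_le_of_finrank_le (Submodule.span_le.2 ?_) ?_
    · rintro _ ⟨i, rfl⟩; exact hm _
    · rw [finrank_span_eq_card hli, hU]; simp
  have hiso : ∀ n : ℕ, g ^ n ∈ isometryGroup (ZMod 2) Q := fun n => pow_mem hg n
  have hQ : ∀ n : ℕ, Q ((g ^ n).val *ᵥ x) = 0 := fun n => by rw [mem_iso.1 (hiso n), hQx]
  set e0 := (g ^ 0).val *ᵥ x with he0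
  set e1 := (g ^ 1).val *ᵥ x with he1
  set e2 := (g ^ 2).val *ᵥ x with he2
  set e3 := (g ^ 3).val *ᵥ x with he3
  set e4 := (g ^ 4).val *ᵥ x with he4
  have hB : ∀ i j : ℕ, B ((g ^ i).val *ᵥ x) ((g ^ (i + j)).val *ᵥ x) = B x ((g ^ j).val *ᵥ x) :=
    fun i j => by rw [pow_add, mul_act, C.B_act (hiso i)]
  have h4 : e4 = e0 + e1 + e2 + e3 := by
    have h : e0 + e1 + e2 + e3 + e4 = 0 := by rw [Fin.sum_univ_five] at hsum; exact hsum
    exact (vadd_eq_zero h).symm
  have hx' : e0 = x := by rw [he0, pow_zero, Units.val_one, Matrix.one_mulVec]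
  obtain ⟨β1, hβ1⟩ : ∃ β, β = B e0 e1 := ⟨_, rfl⟩
  obtain ⟨β2, hβ2⟩ : ∃ β, β = B e0 e2 := ⟨_, rfl⟩
  have b12 : B e1 e2 = β1 := (hB 1 1).trans (by rw [hβ1, hx'])
  have b23 : B e2 e3 = β1 := (hB 2 1).trans (by rw [hβ1, hx'])
  have b13 : B e1 e3 = β2 := (hB 1 2).trans (by rw [hβ2, hx'])
  have b03 : B e0 e3 = β2 := by
    rw [hx', ← hB 2 3, show g ^ (2 + 3) = 1 from h5, Units.val_one, Matrix.one_mulVec, C.symm, hβ2,
      hx']
  have hq4 : Q e4 = 0 := hQ 4
  rw [h4, C.add, C.add, C.add, hQ 0, hQ 1, hQ 2, hQ 3] at hq4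
  simp only [map_add, LinearMap.add_apply, ← hβ1, ← hβ2, b12, b23, b13, b03, zero_add, add_zero] at hq4
  have hβ : β1 = β2 := by
    linear_combination hq4 - bit_self β1 - bit_self β2 - bit_self β2
  have hβ1' : β1 = 1 := by
    rcases bit β1 with e | e
    · exfalso
      refine hx0 (five_nondeg_range C hg h5 hx fun u hu => ?_)
      rw [← hspan] at hu
      induction hu using Submodule.span_induction with
      | mem u hu =>
        obtain ⟨i, rfl⟩ := hu
        have key : B e0 ((g ^ (i : ℕ)).val *ᵥ x) = 0 := by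
          fin_cases i
          · exact B_self C e0
          · exact hβ1.symm.trans e
          · exact hβ2.symm.trans (hβ ▸ e)
          · exact b03.trans (hβ ▸ e)
        rwa [hx'] at key
      | zero => simp
      | add a b _ _ ha hb => rw [map_add, ha, hb, add_zero]
      | smul c a _ ha => rw [map_smul, ha, smul_zero]
    · exact e
  have hβ2' : β2 = 1 := hβ ▸ hβ1'
  have horb : ∀ u ∈ LinearMap.range (nMap g), u ≠ 0 → Q u = 0 →
      ∃ i : ℕ, i < 5 ∧ u = (g ^ i).val *ᵥ x := by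
    intro u hu hu0 hQu
    rw [← hspan, Submodule.mem_span_range_iff_exists_fun] at hu
    obtain ⟨a, rfl⟩ := hu
    have hsum4 : (∑ i : Fin 4, a i • (g ^ (i : ℕ)).val *ᵥ x) =
        a 0 • e0 + a 1 • e1 + a 2 • e2 + a 3 • e3 := by rw [Fin.sum_univ_four]; rfl
    rw [hsum4] at hQu hu0 ⊢
    rw [C.add, C.add, C.add, C.smul, C.smul, C.smul, C.smul, hQ 0, hQ 1, hQ 2, hQ 3] at hQu
    simp only [map_add, map_smul, LinearMap.add_apply, LinearMap.smul_apply, smul_eq_mul, ← hβ1,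
      ← hβ2, b12, b23, b13, b03, hβ1', hβ2', mul_zero, mul_one, zero_add, add_zero] at hQu
    rcases orbit_solve a (by linear_combination hQu) (fun h => hu0 (by simp [h])) with h | ⟨j, hj⟩
    · refine ⟨4, by norm_num, ?_⟩
      rw [← he4, h4]; simp [h]
    · refine ⟨j, by omega, ?_⟩
      simp only [hj]
      fin_cases j <;> simp [he0, he1, he2, he3]
  refine ⟨x, hx, hx0, hQx, hspan, horb, fun u hu w hw hu0 hw0 hQu hQw hB0 => ?_⟩
  obtain ⟨i, hi, rfl⟩ := horb u hu hu0 hQu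
  obtain ⟨j, hj, rfl⟩ := horb w hw hw0 hQw
  by_contra hne
  have key : ∀ a b : ℕ, a < b → b < 5 → B ((g ^ a).val *ᵥ x) ((g ^ b).val *ᵥ x) = 1 := fun a b hab hb => by
    obtain ⟨d, rfl⟩ := Nat.exists_eq_add_of_le hab.le
    rw [hB a d]
    have e4' : B e0 e4 = 1 := by
      rw [h4]; simp [B_self C, ← hβ1, ← hβ2, b03, hβ1', hβ2', bit_self]
    have : d = 1 ∨ d = 2 ∨ d = 3 ∨ d = 4 := by omega
    suffices B e0 ((g ^ d).val *ᵥ x) = 1 by rwa [hx'] at this
    rcases this with rfl | rfl | rfl | rfl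
    exacts [hβ1.symm.trans hβ1', hβ2.symm.trans hβ2', b03.trans hβ2', e4']
  rcases Nat.lt_trichotomy i j with h | h | h
  · rw [key i j h hj] at hB0; exact one_ne_zero hB0
  · exact hne (by rw [h])
  · rw [C.symm, key j i h hi] at hB0; exact one_ne_zero hB0

/-- A commuting isometry acts on the commutator space as a power. -/
theorem five_centralizer_range {k : GL ι (ZMod 2)} (hk : k ∈ isometryGroup (ZMod 2) Q) (hc : Commute g k) :
    ∃ i : ℕ, ∀ u ∈ LinearMap.range (nMap g), k.val *ᵥ u = (g ^ i).val *ᵥ u := by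
  obtain ⟨x, hx, hx0, hQx, hspan, horb, -⟩ := five_orbit C hg h5 hU
  obtain ⟨i, -, hi⟩ := horb _ (range_inv hc hx) (act_ne_zero hx0) (by rw [mem_iso.1 hk, hQx])
  refine ⟨i, fun u hu => ?_⟩
  rw [← hspan] at hu
  induction hu using Submodule.span_induction with
  | mem u hu =>
    obtain ⟨j, rfl⟩ := hu
    show k.val *ᵥ ((g ^ (j : ℕ)).val *ᵥ x) = (g ^ i).val *ᵥ ((g ^ (j : ℕ)).val *ᵥ x)
    rw [← mul_act, ← mul_act, ← (hc.pow_left j).eq, mul_act, hi, ← mul_act, ← pow_add, ← pow_add,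
      add_comm]
  | zero => simp
  | add a b _ _ ha hb => rw [Matrix.mulVec_add, Matrix.mulVec_add, ha, hb]
  | smul c a _ ha => rw [Matrix.mulVec_smul, Matrix.mulVec_smul, ha]

end Five

/-- Two orthogonal singular vectors of the subspace are equal. -/
def NoPair (Q : (ι → ZMod 2) → ZMod 2) (B : LinearMap.BilinForm (ZMod 2) (ι → ZMod 2))
    (W : Submodule (ZMod 2) (ι → ZMod 2)) : Prop :=
  ∀ u ∈ W, ∀ w ∈ W, u ≠ 0 → w ≠ 0 → Q u = 0 → Q w = 0 → B u w = 0 → u = w

/-- A four-space without orthogonal singular pairs is elliptic. -/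
theorem exists_minus_coords (C : Space Q B) (W : Submodule (ZMod 2) (ι → ZMod 2))
    (hW : finrank (ZMod 2) W = 4) (hnd : ∀ w ∈ W, (∀ w' ∈ W, B w w' = 0) → w = 0)
    (hnp : NoPair Q B W) :
    ∃ σ : ((Fin 1 ⊕ Fin 1) ⊕ Fin 2 → ZMod 2) →ₗ[ZMod 2] (ι → ZMod 2), Function.Injective σ ∧
      LinearMap.range σ = W ∧ ∀ x, Q (σ x) = Cfsg.quadFormMinus 1 (ZMod 2) 1 1 x := by
  obtain ⟨u, hu, hu0, hQu⟩ := exists_sing C W (by omega)
  obtain ⟨v0, hv0, huv0⟩ : ∃ v ∈ W, B u v = 1 := by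
    by_contra h
    push Not at h
    exact hu0 (hnd u hu fun w hw => (bit _).resolve_right (h w hw))
  set v := v0 + Q v0 • u with hvdef
  have hv : v ∈ W := W.add_mem hv0 (W.smul_mem _ hu)
  have huv : B u v = 1 := by simp [hvdef, huv0, B_self C]
  have hQv : Q v = 0 := by
    rw [hvdef, C.add, C.smul, hQu, map_smul, smul_eq_mul, C.symm, huv0]
    simp [bit_self]
  set P := W ⊓ LinearMap.ker (B u) ⊓ LinearMap.ker (B v) with hP
  have hP2 : 2 ≤ finrank (ZMod 2) P := by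
    have r : ∀ (U : Submodule (ZMod 2) (ι → ZMod 2)) (f : (ι → ZMod 2) →ₗ[ZMod 2] ZMod 2),
        finrank (ZMod 2) U ≤ finrank (ZMod 2) (U ⊓ LinearMap.ker f : Submodule _ _) + 1 := fun U f => by
      have h2 := Submodule.finrank_sup_add_finrank_inf_eq U (LinearMap.ker f)
      have h3 := LinearMap.finrank_range_add_finrank_ker f
      have h4 : finrank (ZMod 2) (LinearMap.range f) ≤ 1 :=
        (Submodule.finrank_le _).trans (Module.finrank_self _).le
      have h6 := Submodule.finrank_le (U ⊔ LinearMap.ker f)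
      omega
    have h1 := r W (B u); have h2 := r (W ⊓ LinearMap.ker (B u)) (B v)
    rw [← hP] at h2
    omega
  have hQP : ∀ a ∈ P, a ≠ 0 → Q a = 1 := fun a ha ha0 => (bit _).resolve_left fun e => by
    have h := hnp u hu a ha.1.1 hu0 ha0 hQu e ha.1.2
    have h2 : B v a = 0 := ha.2
    rw [← h, C.symm, huv] at h2
    exact one_ne_zero h2
  obtain ⟨a, ha, ha0⟩ := P.exists_mem_ne_zero_of_ne_bot fun e => by rw [e, finrank_bot] at hP2; omega
  obtain ⟨b, hb, hba⟩ : ∃ b ∈ P, b ∉ Submodule.span (ZMod 2) {a} := by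
    by_contra h
    push Not at h
    have := Submodule.finrank_mono (show P ≤ _ from h)
    rw [finrank_span_singleton ha0] at this
    omega
  have hb0 : b ≠ 0 := fun e => hba (e ▸ zero_mem _)
  have hab : B a b = 1 := by
    have h := hQP _ (P.add_mem ha hb) fun e => hba (vadd_eq_zero e ▸ Submodule.mem_span_singleton_self a)
    rw [C.add, hQP a ha ha0, hQP b hb hb0] at h
    linear_combination h - bit_self (1 : ZMod 2)
  have hua : B u a = 0 := ha.1.2
  have hub : B u b = 0 := hb.1.2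
  have hva : B v a = 0 := ha.2
  have hvb : B v b = 0 := hb.2
  let σ : ((Fin 1 ⊕ Fin 1) ⊕ Fin 2 → ZMod 2) →ₗ[ZMod 2] (ι → ZMod 2) :=
    { toFun := fun x => x (.inl (.inl 0)) • u + x (.inl (.inr 0)) • v + x (.inr 0) • a + x (.inr 1) • b
      map_add' := fun x y => by simp only [Pi.add_apply, add_smul]; abel
      map_smul' := fun c x => by simp only [Pi.smul_apply, smul_eq_mul, mul_smul, smul_add, RingHom.id_apply] }
  have hσ : ∀ x, σ x = x (.inl (.inl 0)) • u + x (.inl (.inr 0)) • v + x (.inr 0) • a + x (.inr 1) • b :=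
    fun x => rfl
  have hinj : Function.Injective σ := by
    rw [← LinearMap.ker_eq_bot, LinearMap.ker_eq_bot']
    intro x hx
    have e1 := congrArg (B v) hx
    have e2 := congrArg (B u) hx
    have e3 := congrArg (B b) hx
    have e4 := congrArg (B a) hx
    simp [hσ, B_self C, C.symm v u, C.symm a u, C.symm a v, C.symm b u, C.symm b v, C.symm b a, huv,
      hua, hub, hva, hvb, hab] at e1 e2 e3 e4
    funext i
    rcases i with (i | i) | i
    · rw [Fin.fin_one_eq_zero i]; exact e1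
    · rw [Fin.fin_one_eq_zero i]; exact e2
    · fin_cases i
      · exact e3
      · exact e4
  refine ⟨σ, hinj, ?_, fun x => ?_⟩
  · refine Submodule.eq_of_le_of_finrank_le ?_ (by
      rw [LinearMap.finrank_range_of_inj hinj, finrank_fintype_fun_eq_card, hW]; simp)
    rintro _ ⟨x, rfl⟩
    exact W.add_mem (W.add_mem (W.add_mem (W.smul_mem _ hu) (W.smul_mem _ hv)) (W.smul_mem _ ha.1.1))
      (W.smul_mem _ hb.1.1)
  · rw [hσ, C.add, C.add, C.add, C.smul, C.smul, C.smul, C.smul, hQu, hQv, hQP a ha ha0, hQP b hb hb0]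
    simp [Cfsg.quadFormMinus, huv, hua, hub, hva, hvb, hab]
    ring

section Quot

variable (C : Space Q B) (hn : 5 ≤ Fintype.card ι) (he : Even (Fintype.card ι)) {g : GL ι (ZMod 2)}
  (hgiso : g ∈ isometryGroup (ZMod 2) Q) (h5 : g ^ 5 = 1)
  (hU : finrank (ZMod 2) (LinearMap.range (nMap g)) = 4)
  (hW : finrank (ZMod 2) (fixSpace g) = 4) (hnp : NoPair Q B (fixSpace g))
include C hn he hgiso h5 hU hW hnp

/-- The centralizer of the isometry in `Ω` is an extension of a five-group by `A₅`. -/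
theorem five_quot : g ∈ Cfsg.Geo.omegaGL Q ∧
    ∃ ψ : ↥(Cfsg.Geo.omegaGL Q ⊓ Subgroup.centralizer ({g} : Set (GL ι (ZMod 2)))) →* A5,
      Function.Surjective ψ ∧ (∀ x, ψ x = 1 ↔ (x : GL ι (ZMod 2)) ∈ Subgroup.zpowers g) ∧
      (∀ x, ψ x = 1 ↔ ∀ w, g.val *ᵥ w = w → (x : GL ι (ZMod 2)).val *ᵥ w = w) ∧
      ∀ a : A5, ∃ x, ψ x = a ∧ ∀ u ∈ LinearMap.range (nMap g), (x : GL ι (ZMod 2)).val *ᵥ u = u := by
  classical
  obtain ⟨σ, hσi, hσr, hσq⟩ := exists_minus_coords C (fixSpace g) hW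
    (fun w hw h => five_nondeg_fix C hgiso h5 (mem_fix.1 hw) fun w' hw' => h w' (mem_fix.2 hw')) hnp
  have hσW : ∀ x, g.val *ᵥ σ x = σ x := fun x => mem_fix.1 (hσr ▸ LinearMap.mem_range_self σ x)
  have hWσ : ∀ w, g.val *ᵥ w = w → ∃ x, σ x = w := fun w hw => LinearMap.mem_range.1 (hσr.symm ▸ mem_fix.2 hw)
  -- the projection to the fixed space
  choose pW pU hpW hpU hdec using five_decomp (g := g) h5
  have huniq : ∀ {w u x}, g.val *ᵥ w = w → u ∈ LinearMap.range (nMap g) → w + u = x → pW x = w := by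
    intro w u x hw hu e
    refine vadd_eq_zero (five_fix_inf h5 (w := pW x + w) (by rw [Matrix.mulVec_add, hpW, hw]) ?_)
    have : pW x + w = pU x + u := by
      refine vadd_eq_zero ?_
      calc pW x + w + (pU x + u) = (pW x + pU x) + (w + u) := by abel
        _ = 0 := by rw [hdec, e, vadd_self]
    rw [this]; exact add_mem (hpU x) hu
  let PW : (ι → ZMod 2) →ₗ[ZMod 2] (ι → ZMod 2) :=
    { toFun := pW
      map_add' := fun x y => huniq (by rw [Matrix.mulVec_add, hpW, hpW]) (add_mem (hpU x) (hpU y))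
        (by rw [show pW x + pW y + (pU x + pU y) = (pW x + pU x) + (pW y + pU y) by abel, hdec, hdec])
      map_smul' := fun c x => huniq (by rw [RingHom.id_apply, Matrix.mulVec_smul, hpW])
        (Submodule.smul_mem _ c (hpU x)) (by rw [RingHom.id_apply, ← smul_add, hdec]) }
  have hPW : ∀ x, PW x = pW x := fun _ => rfl
  obtain ⟨τ, hτ⟩ := σ.exists_leftInverse_of_injective (LinearMap.ker_eq_bot.2 hσi)
  have hτσ : ∀ x, τ (σ x) = x := fun x => LinearMap.congr_fun hτ x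
  have hστ : ∀ w, g.val *ᵥ w = w → σ (τ w) = w := fun w hw => by
    obtain ⟨x, rfl⟩ := hWσ w hw; rw [hτσ]
  have hQsum : ∀ x, Q x = Q (pW x) + Q (pU x) := fun x => by
    conv_lhs => rw [← hdec x, C.add, five_orth C hgiso (hpW x) (hpU x), add_zero]
  -- restriction
  set R := Subgroup.centralizer ({g} : Set (GL ι (ZMod 2))) ⊓ isometryGroup (ZMod 2) Q with hR
  have hmR : ∀ {k}, k ∈ R → Commute g k := fun hk =>
    (Subgroup.mem_centralizer_singleton_iff.1 hk.1).symm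
  let T : GL ((Fin 1 ⊕ Fin 1) ⊕ Fin 2) (ZMod 2) ≃* _ :=
    Matrix.GeneralLinearGroup.toLin.trans
      (LinearMap.GeneralLinearGroup.generalLinearEquiv (ZMod 2) ((Fin 1 ⊕ Fin 1) ⊕ Fin 2 → ZMod 2))
  have hT : ∀ k x, T k x = k.val *ᵥ x := fun _ _ => rfl
  let S : GL ι (ZMod 2) ≃* _ :=
    Matrix.GeneralLinearGroup.toLin.trans
      (LinearMap.GeneralLinearGroup.generalLinearEquiv (ZMod 2) (ι → ZMod 2))
  have hS : ∀ k x, S k x = k.val *ᵥ x := fun _ _ => rfl
  let res : ∀ k : R, ((Fin 1 ⊕ Fin 1) ⊕ Fin 2 → ZMod 2) ≃ₗ[ZMod 2] ((Fin 1 ⊕ Fin 1) ⊕ Fin 2 → ZMod 2) :=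
    fun k =>
    { toFun := fun x => τ ((k : GL ι (ZMod 2)).val *ᵥ σ x)
      invFun := fun x => τ ((k⁻¹ : GL ι (ZMod 2)).val *ᵥ σ x)
      map_add' := fun x y => by rw [map_add, Matrix.mulVec_add, map_add]
      map_smul' := fun c x => by rw [map_smul, Matrix.mulVec_smul, map_smul, RingHom.id_apply]
      left_inv := fun x => by
        show τ ((k⁻¹ : GL ι (ZMod 2)).val *ᵥ σ (τ ((k : GL ι (ZMod 2)).val *ᵥ σ x))) = x
        rw [hστ _ (fix_inv (hmR k.2) (hσW x)), inv_act, hτσ]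
      right_inv := fun x => by
        show τ ((k : GL ι (ZMod 2)).val *ᵥ σ (τ ((k⁻¹ : GL ι (ZMod 2)).val *ᵥ σ x))) = x
        rw [hστ _ (fix_inv (hmR k.2).inv_right (hσW x)), act_inv, hτσ] }
  have hresiso : ∀ k : R, T.symm (res k) ∈ isometryGroup (ZMod 2) (Cfsg.quadFormMinus 1 (ZMod 2) 1 1) :=
    fun k => mem_iso.2 fun x => by
      rw [← hT, T.apply_symm_apply, ← hσq, ← hσq]
      show Q (σ (τ ((k : GL ι (ZMod 2)).val *ᵥ σ x))) = _
      rw [hστ _ (fix_inv (hmR k.2) (hσW x)), mem_iso.1 k.2.2]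
  let ρ : R →* ↥(isometryGroup (ZMod 2) (Cfsg.quadFormMinus 1 (ZMod 2) 1 1)) :=
    MonoidHom.mk' (fun k => ⟨T.symm (res k), hresiso k⟩) fun j k => Subtype.ext (T.injective (by
      show T (T.symm (res (j * k))) = T (T.symm (res j) * T.symm (res k))
      rw [map_mul, T.apply_symm_apply, T.apply_symm_apply, T.apply_symm_apply]
      refine LinearEquiv.ext fun x => ?_
      show τ (((j : GL ι (ZMod 2)) * k).val *ᵥ σ x) = τ ((j : GL ι (ZMod 2)).val *ᵥ σ (τ _))
      rw [hστ _ (fix_inv (hmR k.2) (hσW x)), mul_act]))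
  have hρ : ∀ (k : R) x, σ ((ρ k).1.val *ᵥ x) = (k : GL ι (ZMod 2)).val *ᵥ σ x := fun k x => by
    show σ ((T.symm (res k)).val *ᵥ x) = _
    rw [← hT, T.apply_symm_apply]
    exact hστ _ (fix_inv (hmR k.2) (hσW x))
  -- extension
  let ext : ↥(isometryGroup (ZMod 2) (Cfsg.quadFormMinus 1 (ZMod 2) 1 1)) →
      (ι → ZMod 2) →ₗ[ZMod 2] (ι → ZMod 2) := fun h =>
    σ.comp ((Matrix.mulVecLin h.1.val).comp (τ.comp PW)) + (LinearMap.id + PW)
  have hext : ∀ h x, ext h x = σ (h.1.val *ᵥ τ (pW x)) + pU x := fun h x => by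
    show σ (h.1.val *ᵥ τ (pW x)) + (x + pW x) = _
    congr 1
    nth_rewrite 1 [← hdec x]
    rw [add_comm (pW x), add_assoc, vadd_self, add_zero]
  have hextW : ∀ h x, pW (ext h x) = σ (h.1.val *ᵥ τ (pW x)) ∧ pU (ext h x) = pU x := fun h x => by
    have e1 := huniq (hσW _) (hpU x) (hext h x).symm
    refine ⟨e1, ?_⟩
    have := hdec (ext h x)
    rw [e1] at this
    conv_rhs at this => rw [hext]
    exact add_left_cancel this
  have hextc : ∀ h k x, ext (h * k) x = ext h (ext k x) := fun h k x => by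
    rw [hext, hext h, (hextW k x).1, (hextW k x).2, hτσ, Subgroup.coe_mul, mul_act]
  have hext1 : ∀ x, ext 1 x = x := fun x => by
    rw [hext, OneMemClass.coe_one, Units.val_one, Matrix.one_mulVec, hστ _ (hpW x), hdec]
  let extE : ↥(isometryGroup (ZMod 2) (Cfsg.quadFormMinus 1 (ZMod 2) 1 1)) →
      ((ι → ZMod 2) ≃ₗ[ZMod 2] (ι → ZMod 2)) := fun h =>
    { ext h with
      invFun := ext h⁻¹
      left_inv := fun x => by
        show ext h⁻¹ (ext h x) = x
        rw [← hextc, inv_mul_cancel, hext1]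
      right_inv := fun x => by
        show ext h (ext h⁻¹ x) = x
        rw [← hextc, mul_inv_cancel, hext1] }
  let E : ↥(isometryGroup (ZMod 2) (Cfsg.quadFormMinus 1 (ZMod 2) 1 1)) →* GL ι (ZMod 2) :=
    MonoidHom.mk' (fun h => S.symm (extE h)) fun h k => S.injective (by
      rw [map_mul, S.apply_symm_apply, S.apply_symm_apply, S.apply_symm_apply]
      exact LinearEquiv.ext fun x => hextc h k x)
  have hE : ∀ h x, (E h).val *ᵥ x = ext h x := fun h x => by
    rw [← hS, show E h = S.symm (extE h) from rfl, S.apply_symm_apply]; rfl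
  have hEiso : ∀ h, E h ∈ isometryGroup (ZMod 2) Q := fun h => mem_iso.2 fun x => by
    rw [hE, hQsum, (hextW h x).1, (hextW h x).2, hσq, mem_iso.1 h.2, ← hσq, hστ _ (hpW x), ← hQsum]
  have hEU : ∀ h u, u ∈ LinearMap.range (nMap g) → (E h).val *ᵥ u = u := fun h u hu => by
    have e := huniq (w := 0) (Matrix.mulVec_zero _) hu (zero_add u)
    rw [hE, hext, e, map_zero, Matrix.mulVec_zero, map_zero, zero_add]
    have := hdec u
    rwa [e, zero_add] at this
  have hEc : ∀ h, Commute g (E h) := fun h => gl_ext fun x => by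
    rw [mul_act, mul_act, hE, hE, hext, hext, Matrix.mulVec_add, hσW]
    have e1 := huniq (x := g.val *ᵥ x) (hpW x) (range_inv (Commute.refl g) (hpU x)) (by
      conv_rhs => rw [← hdec x, Matrix.mulVec_add, hpW])
    have e2 : pU (g.val *ᵥ x) = g.val *ᵥ pU x := by
      have := hdec (g.val *ᵥ x)
      rw [e1] at this
      conv_rhs at this => rw [← hdec x, Matrix.mulVec_add, hpW]
      exact add_left_cancel this
    rw [e1, e2]
  let E' : ↥(isometryGroup (ZMod 2) (Cfsg.quadFormMinus 1 (ZMod 2) 1 1)) →* R :=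
    E.codRestrict R fun h => ⟨Subgroup.mem_centralizer_singleton_iff.2 (hEc h).eq.symm, hEiso h⟩
  have hρE : ∀ h, ρ (E' h) = h := fun h => Subtype.ext (gl_ext fun x => hσi (by
    rw [hρ]
    show (E h).val *ᵥ σ x = _
    have e := huniq (hσW x) (Submodule.zero_mem _) (add_zero (σ x))
    rw [hE, hext, e, hτσ]
    have := hdec (σ x)
    rw [e, add_eq_left] at this
    rw [this, add_zero]))
  -- `g` lies in `Ω`
  have hgΩ : g ∈ Cfsg.Geo.omegaGL Q := by
    have h := (SmallIso.omega_facts C (by omega) (Or.inr (Or.inr (by omega)))).1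
      (⟨g, hgiso⟩ ^ 3)
    refine ⟨_, h, ?_⟩
    show g ^ 3 * g ^ 3 = g
    rw [← pow_add, show 3 + 3 = 5 + 1 from rfl, pow_succ, h5, one_mul]
  -- the image of the centralizer in `Ω`
  set H := Cfsg.Geo.omegaGL Q ⊓ Subgroup.centralizer ({g} : Set (GL ι (ZMod 2))) with hH
  have hHR : H ≤ R := fun k hk => ⟨hk.2, omegaGL_le_iso hk.1⟩
  let ρH := ρ.comp (Subgroup.inclusion hHR)
  have hΩle : Cfsg.Omega (ZMod 2) (Cfsg.quadFormMinus 1 (ZMod 2) 1 1) ≤ ρH.range := by
    intro h hh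
    have hm : E h ∈ Cfsg.Geo.omegaGL Q := by
      let Ei := E.codRestrict (isometryGroup (ZMod 2) Q) hEiso
      exact ⟨Ei h, (Subgroup.map_commutator _ _ Ei).le.trans
        (Subgroup.commutator_mono le_top le_top) ⟨h, hh, rfl⟩, rfl⟩
    exact ⟨⟨E h, hm, (E' h).2.1⟩, hρE h⟩
  obtain ⟨e5⟩ := Cfsg.Agent.S0824.result (F := ZMod 2) (ZMod.card 2)
  have hidx : (Cfsg.Omega (ZMod 2) (Cfsg.quadFormMinus 1 (ZMod 2) 1 1)).index = 2 := by
    obtain ⟨eA⟩ := omega_equiv
    have h := Subgroup.card_mul_index (Cfsg.Omega (ZMod 2) (Cfsg.quadFormMinus 1 (ZMod 2) 1 1))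
    rw [Nat.card_congr eA.toEquiv, Cfsg.Lib.J2Type.a5_card, Nat.card_congr e5.toEquiv,
      Nat.card_perm] at h
    simp [Nat.factorial] at h
    omega
  have hne : ρH.range ≠ ⊤ := by
    intro htop
    obtain ⟨x0, hx0⟩ : ∃ x0, Cfsg.quadFormMinus 1 (ZMod 2) 1 1 x0 = 1 := ⟨Pi.single (.inr 0) 1, by decide⟩
    obtain ⟨Bm, Sm⟩ := Orth.exists_space_minus (F := ZMod 2) 1 1 1 (by decide)
    have hr : rGL (Cfsg.quadFormMinus 1 (ZMod 2) 1 1) x0 ∈
        isometryGroup (ZMod 2) (Cfsg.quadFormMinus 1 (ZMod 2) 1 1) := rGL_mem' Sm hx0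
    obtain ⟨k, hk⟩ := MonoidHom.mem_range.1 (htop ▸ Subgroup.mem_top (⟨_, hr⟩ :
      ↥(isometryGroup (ZMod 2) (Cfsg.quadFormMinus 1 (ZMod 2) 1 1))))
    obtain ⟨i, hi⟩ := five_centralizer_range C hgiso h5 hU (omegaGL_le_iso k.2.1) (hmR (hHR k.2))
    have hQw : Q (σ x0) = 1 := by rw [hσq, hx0]
    have hk' : ((g ^ i)⁻¹ : GL ι (ZMod 2)) * k = rGL Q (σ x0) := by
      refine gl_ext fun x => ?_
      rw [mul_act, rGL_apply C hQw, ← hdec x, Matrix.mulVec_add, Matrix.mulVec_add, map_add,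
        five_orth C hgiso (hσW x0) (hpU x), add_zero, hi _ (hpU x), inv_act]
      obtain ⟨y, hy⟩ := hWσ _ (hpW x)
      rw [← hy, show (k : GL ι (ZMod 2)).val *ᵥ σ y = σ ((ρH k).1.val *ᵥ y) from (hρ (Subgroup.inclusion hHR k) y).symm, hk,
        rGL_apply Sm hx0, map_add, map_smul, Matrix.mulVec_add, Matrix.mulVec_smul,
        show ∀ v, g.val *ᵥ v = v → ((g ^ i)⁻¹ : GL ι (ZMod 2)).val *ᵥ v = v from fun v hv => by
          rw [← zpow_natCast, ← zpow_neg, zpow_fix hv] ]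
      · rw [show Bm x0 y = B (σ x0) (σ y) by
          have a1 := C.add (σ x0) (σ y)
          rw [← map_add, hσq, hσq, hσq, Sm.add] at a1
          exact add_left_cancel a1,
          show ∀ v, g.val *ᵥ v = v → ((g ^ i)⁻¹ : GL ι (ZMod 2)).val *ᵥ v = v from fun v hv => by
            rw [← zpow_natCast, ← zpow_neg, zpow_fix hv] ]
        · abel
        · exact hσW _
      · exact hσW _
    have hrΩ : rGL Q (σ x0) ∈ Cfsg.Geo.omegaGL Q :=
      hk' ▸ mul_mem (inv_mem (pow_mem hgΩ i)) k.2.1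
    obtain ⟨m, hm⟩ := (mem_omega_iff C hn he (rGL_mem' C hQw)).1 hrΩ
    obtain ⟨n, hn'⟩ := he
    have := fix_rGL_card C hQw
    omega
  have hrange : ρH.range = Cfsg.Omega (ZMod 2) (Cfsg.quadFormMinus 1 (ZMod 2) 1 1) := by
    have h1 := Subgroup.index_dvd_of_le hΩle
    rw [hidx] at h1
    rcases (Nat.dvd_prime Nat.prime_two).1 h1 with h | h
    · exact absurd (Subgroup.index_eq_one.1 h) hne
    · refine (Subgroup.eq_of_le_of_card_ge hΩle ?_).symm
      have e1 := Subgroup.card_mul_index ρH.range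
      have e2 := Subgroup.card_mul_index (Cfsg.Omega (ZMod 2) (Cfsg.quadFormMinus 1 (ZMod 2) 1 1))
      rw [h] at e1
      rw [hidx] at e2
      omega
  obtain ⟨eA⟩ := omega_equiv
  let ψ : H →* A5 := eA.toMonoidHom.comp (ρH.codRestrict _ fun k => hrange ▸ ⟨k, rfl⟩)
  have hψfix : ∀ k, ψ k = 1 ↔ ∀ w, g.val *ᵥ w = w → (k : GL ι (ZMod 2)).val *ᵥ w = w := by
    intro k
    constructor
    · intro h w hw
      obtain ⟨x, rfl⟩ := hWσ w hw
      have h1 : ρH k = 1 := congrArg Subtype.val (eA.map_eq_one_iff.1 h)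
      rw [show (k : GL ι (ZMod 2)).val *ᵥ σ x = σ ((ρH k).1.val *ᵥ x) from (hρ (Subgroup.inclusion hHR k) x).symm, h1,
        OneMemClass.coe_one, Units.val_one, Matrix.one_mulVec]
    · intro h
      refine eA.map_eq_one_iff.2 (Subtype.ext (Subtype.ext (gl_ext fun x => hσi ?_)))
      show σ ((ρH k).1.val *ᵥ x) = σ ((1 : GL _ (ZMod 2)).val *ᵥ x)
      rw [show σ ((ρH k).1.val *ᵥ x) = (k : GL ι (ZMod 2)).val *ᵥ σ x from hρ _ x, h _ (hσW x),
        Units.val_one, Matrix.one_mulVec]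
  have hsur : ∀ a : A5, ∃ k, ψ k = a ∧ ∀ u ∈ LinearMap.range (nMap g),
      (k : GL ι (ZMod 2)).val *ᵥ u = u := fun a => by
    obtain ⟨h, hha⟩ := eA.surjective a
    have hm : E h.1 ∈ Cfsg.Geo.omegaGL Q := by
      let Ei := E.codRestrict (isometryGroup (ZMod 2) Q) hEiso
      exact ⟨Ei h.1, (Subgroup.map_commutator _ _ Ei).le.trans
        (Subgroup.commutator_mono le_top le_top) ⟨h.1, h.2, rfl⟩, rfl⟩
    refine ⟨⟨E h.1, hm, (E' h.1).2.1⟩, ?_, hEU _⟩
    rw [← hha]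
    exact congrArg eA (Subtype.ext (hρE h.1))
  refine ⟨hgΩ, ψ, fun a => ⟨(hsur a).choose, (hsur a).choose_spec.1⟩, fun k => ?_, hψfix, hsur⟩
  constructor
  · intro h
    obtain ⟨i, hi⟩ := five_centralizer_range C hgiso h5 hU (omegaGL_le_iso k.2.1) (hmR (hHR k.2))
    refine Subgroup.mem_zpowers_iff.2 ⟨i, ?_⟩
    rw [zpow_natCast]
    refine gl_ext fun x => ?_
    rw [← hdec x, Matrix.mulVec_add, Matrix.mulVec_add, hi _ (hpU x), (hψfix k).1 h _ (hpW x),
      pow_fix (hpW x)]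
  · intro h
    refine (hψfix k).2 fun w hw => ?_
    obtain ⟨i, hi⟩ := Subgroup.mem_zpowers_iff.1 h
    rw [← hi, zpow_fix hw]

end Quot

end Cfsg.Lib.Extra.Wide
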