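import Cfsg.Agent.Lib.Extra.Wide.Main
import Cfsg.Agent.Lib.Extra.Wide.FiveFix

/-!
# The centralizer of an element of order five with a four-dimensional fixed space

Inside the centralizer of `z` it is a product of the five-group and an extension of `A₅` by the
fixed part of the extraspecial subgroup, and it contains a class of involutions other than that
of `z`.
-/

set_option autoImplicit false
set_option linter.style.haveILetI false

namespace Cfsg.Lib.Extra.Wide

open Cfsg Module Cfsg.Lib.Linear Cfsg.Lib.Linear.Orth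
open Cfsg.Lib.J2Type (A5)
open scoped Matrix

variable {G : Type*} [Group G] {ι : Type} [Fintype ι] [DecidableEq ι]

/-- An element of order dividing five is trivial when a coprime power of it is. -/
theorem coprime_kill {H : Type*} [Group H] {x : H} {n : ℕ} (hn : Nat.Coprime n 5) (h : x ^ n = 1)
    (h5 : x ^ 5 = 1) : x = 1 := by
  rw [← orderOf_eq_one_iff]
  exact Nat.eq_one_of_dvd_coprimes hn (orderOf_dvd_of_pow_eq_one h) (orderOf_dvd_of_pow_eq_one h5)

variable (D : Data G ι)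

theorem Data.act_pow {c : G} (hc : Commute c D.z) (n : ℕ) : D.act (c ^ n) = D.act c ^ n := by
  induction n with
  | zero => rw [pow_zero, pow_zero, D.act_one]
  | succ n ih => rw [pow_succ, pow_succ, D.act_mul _ _ (hc.pow_left n) hc, ih]

theorem Data.act_five {b : G} (hb : b ^ 5 = 1) (hbz : Commute b D.z) : D.act b ^ 5 = 1 := by
  rw [← D.act_pow hbz, hb, D.act_one]

theorem Data.conj_mem {c q : G} (hc : Commute c D.z) (hq : q ∈ D.Q) : c * q * c⁻¹ ∈ D.Q :=
  (Subgroup.mem_normalizer_iff.1 (D.ctx.norm c hc) q).1 hq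

theorem Data.fix_of_commute {b q : G} (hbz : Commute b D.z) (hq : q ∈ D.Q) (h : Commute b q) :
    (D.act b).val *ᵥ D.cls q = D.cls q := by
  rw [← D.act_cls b hbz q hq, h.eq, mul_inv_cancel_right]

theorem Data.commute_of_fix {b q : G} (hb : b ^ 5 = 1) (hbz : Commute b D.z) (hq : q ∈ D.Q)
    (h : (D.act b).val *ᵥ D.cls q = D.cls q) : Commute b q := by
  rcases D.cls_eq hq (D.conj_mem hbz hq) (by rw [D.act_cls b hbz q hq, h]) with e | e
  · exact mul_inv_eq_iff_eq_mul.1 e
  · exfalso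
    have hn : ∀ n : ℕ, b ^ n * q * (b ^ n)⁻¹ = D.z ^ n * q := by
      intro n
      induction n with
      | zero => simp
      | succ n ih =>
        calc b ^ (n + 1) * q * (b ^ (n + 1))⁻¹ = b * (b ^ n * q * (b ^ n)⁻¹) * b⁻¹ := by
              rw [pow_succ']; group
          _ = b * D.z ^ n * b⁻¹ * (b * q * b⁻¹) := by rw [ih]; group
          _ = D.z ^ n * (D.z * q) := by rw [e, (hbz.pow_right n).eq, mul_inv_cancel_right]
          _ = _ := by rw [pow_succ, mul_assoc]
    have h5 := hn 5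
    rw [hb, one_mul, inv_one, mul_one, right_eq_mul] at h5
    refine D.ctx.ne_one ?_
    calc D.z = D.z ^ 5 := by
          rw [pow_succ, show D.z ^ 4 = 1 by rw [pow_succ, pow_succ, pow_two, mul_assoc, D.ctx.sq_z]; simp,
            one_mul]
      _ = 1 := h5

/-- The hypotheses on the element of order five. -/
structure Data.Fiver (D : Data G ι) (b : G) : Prop where
  eight : Fintype.card ι = 8
  order : orderOf b = 5
  comm : Commute b D.z
  fix4 : finrank (ZMod 2) (fixSpace (D.act b)) = 4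
  np : NoPair D.qf D.B (fixSpace (D.act b))

namespace Data.Fiver

variable {D} {b : G} (h : D.Fiver b)
include h

theorem pow5 : b ^ 5 = 1 := h.order ▸ pow_orderOf_eq_one b

theorem act5 : D.act b ^ 5 = 1 := D.act_five h.pow5 h.comm

theorem iso : D.act b ∈ isometryGroup (ZMod 2) D.qf := D.act_iso h.comm

theorem range4 : finrank (ZMod 2) (LinearMap.range (nMap (D.act b))) = 4 := by
  have := finrank_range_nMap (D.act b)
  rw [h.fix4, h.eight] at this
  omega

theorem act_ne : D.act b ≠ 1 := fun e => by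
  have h4 := h.range4
  rw [show LinearMap.range (nMap (D.act b)) = ⊥ from (Submodule.eq_bot_iff _).2 (by
    rintro _ ⟨x, rfl⟩
    rw [nMap_eq_zero, e, Units.val_one, Matrix.one_mulVec]), finrank_bot] at h4
  norm_num at h4

theorem order_act : orderOf (D.act b) = 5 := by
  haveI : Fact (Nat.Prime 5) := ⟨by norm_num⟩
  exact orderOf_eq_prime h.act5 h.act_ne

theorem exists_fixed {w : ι → ZMod 2} (hw : (D.act b).val *ᵥ w = w) :
    ∃ q ∈ D.Q, Commute b q ∧ D.cls q = w := by
  obtain ⟨q, hq, rfl⟩ := D.cls_surj w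
  exact ⟨q, hq, D.commute_of_fix h.pow5 h.comm hq hw, rfl⟩

/-- Elements of `Ω` commuting with the action lift to the centralizer. -/
theorem lift {k : GL ι (ZMod 2)} (hk : k ∈ Cfsg.Geo.omegaGL D.qf) (hc : Commute (D.act b) k) :
    ∃ c, Commute c D.z ∧ Commute c b ∧ D.act c = k := by
  obtain ⟨c0, hc0, rfl⟩ := D.act_surj k hk
  set b' := c0 * b * c0⁻¹ with hb'
  have hb'z : Commute b' D.z := (hc0.mul_left h.comm).mul_left hc0.inv_left
  set r := b' * b⁻¹ with hr
  have hrQ : r ∈ D.Q := (D.act_ker r (hb'z.mul_left h.comm.inv_left)).1 (by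
    rw [hr, D.act_mul _ _ hb'z h.comm.inv_left, hb',
      D.act_mul _ _ (hc0.mul_left h.comm) hc0.inv_left, D.act_mul _ _ hc0 h.comm,
      D.act_inv hc0, D.act_inv h.comm, ← hc.eq]
    group)
  obtain ⟨w, u, hw, hu, hwu⟩ := five_decomp h.act5 (D.cls r)
  have hn : ∀ n : ℕ, (r * b) ^ n * (b ^ n)⁻¹ ∈ D.Q ∧ ∃ u' ∈ LinearMap.range (nMap (D.act b)),
      D.cls ((r * b) ^ n * (b ^ n)⁻¹) = (n : ZMod 2) • w + u' := by
    intro n
    induction n with
    | zero => exact ⟨by simp, 0, zero_mem _, by simp [D.cls_one]⟩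
    | succ n ih =>
      obtain ⟨hm, u', hu', e⟩ := ih
      have e1 : (r * b) ^ (n + 1) * (b ^ (n + 1))⁻¹ =
          r * (b * ((r * b) ^ n * (b ^ n)⁻¹) * b⁻¹) := by
        rw [pow_succ' (r * b), pow_succ' b]; group
      have hm' := D.conj_mem h.comm hm
      rw [e1]
      refine ⟨mul_mem hrQ hm', u + (D.act b).val *ᵥ u', add_mem hu (range_inv (Commute.refl _) hu'), ?_⟩
      rw [D.cls_mul _ hrQ _ hm', D.act_cls b h.comm _ hm, e, Matrix.mulVec_add, Matrix.mulVec_smul,
        hw, ← hwu, Nat.cast_succ, add_smul, one_smul]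
      abel
  have hrb : r * b = b' := by rw [hr, inv_mul_cancel_right]
  have hb'5 : b' ^ 5 = 1 := by rw [hb', conj_pow, h.pow5]; simp
  obtain ⟨-, u5, hu5, e5⟩ := hn 5
  rw [hrb, hb'5, h.pow5, inv_one, mul_one, D.cls_one,
    show ((5 : ℕ) : ZMod 2) = 1 from rfl, one_smul] at e5
  have hw0 : w = 0 := five_fix_inf h.act5 hw (vadd_eq_zero e5.symm ▸ hu5)
  rw [hw0, zero_add] at hwu
  obtain ⟨v, hv⟩ := hu
  obtain ⟨q, hq, rfl⟩ := D.cls_surj v
  set s := q * (b * q⁻¹ * b⁻¹) with hs
  have hsQ : s ∈ D.Q := mul_mem hq (D.conj_mem h.comm (inv_mem hq))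
  have hscls : D.cls r = D.cls s := by
    rw [hs, D.cls_mul _ hq _ (D.conj_mem h.comm (inv_mem hq)), D.act_cls b h.comm _ (inv_mem hq),
      D.cls_inv hq, ← hwu, ← hv, nMap_apply, add_comm]
  have hsq : s * b = q * b * q⁻¹ := by rw [hs]; group
  have hsr : s = r := (D.cls_eq hrQ hsQ hscls).resolve_right fun e => by
    have hz : Commute D.z b' := hb'z.symm
    have h1 : (D.z * b') ^ 5 = 1 := by
      rw [← hrb, ← mul_assoc, ← e, hsq, conj_pow, h.pow5]; simp
    rw [hz.mul_pow, hb'5, mul_one] at h1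
    exact D.ctx.ne_one (coprime_kill (n := 2) (by norm_num) (by rw [pow_two, D.ctx.sq_z]) h1)
  have hqz : Commute q D.z := (D.ctx.central q hq).symm
  refine ⟨q⁻¹ * c0, hqz.inv_left.mul_left hc0, ?_, ?_⟩
  · rw [hsr, hrb, hb'] at hsq
    show q⁻¹ * c0 * b = b * (q⁻¹ * c0)
    calc q⁻¹ * c0 * b = q⁻¹ * (c0 * b * c0⁻¹) * c0 := by group
      _ = _ := by rw [hsq]; group
  · rw [D.act_mul _ _ hqz.inv_left hc0, D.act_inv hqz, D.act_q hq, inv_one, one_mul]

/-- The quotient onto the alternating group. -/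
theorem quot : ∃ φ : G → A5,
    (∀ c d, Commute c D.z → Commute c b → Commute d D.z → Commute d b → φ (c * d) = φ c * φ d) ∧
    (∀ a, ∃ c, Commute c D.z ∧ Commute c b ∧ φ c = a) ∧
    ∀ c, Commute c D.z → Commute c b → (φ c = 1 ↔ ∃ i : ℕ, c * (b ^ i)⁻¹ ∈ D.Q) := by
  classical
  obtain ⟨-, ψ, hψ, hker, -, -⟩ := five_quot D.space (by rw [h.eight]; norm_num) D.ev h.iso h.act5
    h.range4 h.fix4 h.np
  have hm : ∀ {c}, Commute c D.z → Commute c b →
      D.act c ∈ Cfsg.Geo.omegaGL D.qf ⊓ Subgroup.centralizer ({D.act b} : Set (GL ι (ZMod 2))) :=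
    fun {c} hc hcb => ⟨D.act_mem c hc, Subgroup.mem_centralizer_singleton_iff.2 (by
      rw [← D.act_mul _ _ hc h.comm, ← D.act_mul _ _ h.comm hc, hcb.eq])⟩
  let φ : G → A5 := fun c => if hh : Commute c D.z ∧ Commute c b then ψ ⟨_, hm hh.1 hh.2⟩ else 1
  have hφ : ∀ {c} (h1 : Commute c D.z) (h2 : Commute c b), φ c = ψ ⟨_, hm h1 h2⟩ :=
    fun h1 h2 => dif_pos ⟨h1, h2⟩
  refine ⟨φ, fun c d h1 h2 h3 h4 => ?_, fun a => ?_, fun c h1 h2 => ?_⟩
  · rw [hφ h1 h2, hφ h3 h4, hφ (h1.mul_left h3) (h2.mul_left h4), ← map_mul]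
    exact congrArg ψ (Subtype.ext (D.act_mul c d h1 h3))
  · obtain ⟨⟨k, hk, hkc⟩, rfl⟩ := hψ a
    obtain ⟨c, h1, h2, rfl⟩ := h.lift hk (Subgroup.mem_centralizer_singleton_iff.1 hkc).symm
    exact ⟨c, h1, h2, hφ h1 h2⟩
  · rw [hφ h1 h2, hker]
    have hbi : ∀ i : ℕ, Commute ((b ^ i)⁻¹) D.z := fun i => (h.comm.pow_left i).inv_left
    have he : ∀ i : ℕ, D.act (c * (b ^ i)⁻¹) = D.act c * (D.act b ^ i)⁻¹ := fun i => by
      rw [D.act_mul _ _ h1 (hbi i), D.act_inv (h.comm.pow_left i), D.act_pow h.comm]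
    constructor
    · intro hz
      obtain ⟨i, hi⟩ := (mem_powers_iff_mem_zpowers.2 hz :
        D.act c ∈ Submonoid.powers (D.act b))
      simp only at hi
      exact ⟨i, (D.act_ker _ (h1.mul_left (hbi i))).1 (by rw [he, hi, mul_inv_cancel])⟩
    · rintro ⟨i, hi⟩
      have := (D.act_ker _ (h1.mul_left (hbi i))).2 hi
      rw [he, mul_inv_eq_one] at this
      show D.act c ∈ _
      rw [this]
      exact pow_mem (Subgroup.mem_zpowers _) i

variable [Finite G]

/-- A point and an involution outside the class of `z`, both centralizing the element of order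
five. -/
theorem exists_frame : ∃ x t, D.Point t ∧ Commute t b ∧ Commute x b ∧ Commute x D.z ∧
    x * x = 1 ∧ x ≠ 1 ∧ ¬ IsConj D.z x := by
  classical
  obtain ⟨σ, hσi, hσr, hσq⟩ := exists_minus_coords D.space (fixSpace (D.act b)) h.fix4
    (fun w hw hw' => five_nondeg_fix D.space h.iso h.act5 (mem_fix.1 hw)
      fun w' h' => hw' w' (mem_fix.2 h')) h.np
  have hfix : ∀ x, (D.act b).val *ᵥ σ x = σ x := fun x =>
    mem_fix.1 (hσr ▸ LinearMap.mem_range_self σ x)
  have hB : ∀ x y, D.B (σ x) (σ y) = Cfsg.quadFormMinus 1 (ZMod 2) 1 1 (x + y) -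
      Cfsg.quadFormMinus 1 (ZMod 2) 1 1 x - Cfsg.quadFormMinus 1 (ZMod 2) 1 1 y := fun x y => by
    rw [← hσq, ← hσq, ← hσq, map_add, D.space.add]
    ring
  set p := σ (Pi.single (.inl (.inl 0)) 1) with hp
  set v := σ (Pi.single (.inr 0) 1) with hv
  set u := σ (Pi.single (.inr 1) 1) with hu
  have qp : D.qf p = 0 := by rw [hp, hσq]; decide
  have qv : D.qf v = 1 := by rw [hv, hσq]; decide
  have qu : D.qf u = 1 := by rw [hu, hσq]; decide
  have bpv : D.B p v = 0 := by rw [hp, hv, hB]; decide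
  have bpu : D.B p u = 0 := by rw [hp, hu, hB]; decide
  have buv : D.B u v = 1 := by rw [hu, hv, hB]; decide
  have hp0 : p ≠ 0 := fun e => by
    have := congrArg (fun y => D.B y (σ (Pi.single (.inl (.inr 0)) 1))) e
    simp only [map_zero, LinearMap.zero_apply, hp, hB] at this
    exact absurd this (by decide)
  obtain ⟨t, ht, htp⟩ := D.exists_point_of qp hp0
  have htb : Commute b t :=
    D.commute_of_fix h.pow5 h.comm ht.mem (by rw [htp]; exact hfix _)
  obtain ⟨q, hq, hqu⟩ := ht.exists_inCQ (u := u) (by rw [htp]; exact bpu)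
  obtain ⟨y, hy, hyv⟩ := ht.exists_label (v := v) (by rw [htp]; exact bpv)
  have hvn : v ∉ Submodule.span (ZMod 2) {D.cls t} := fun hm => by
    obtain ⟨α, e⟩ := Submodule.mem_span_singleton.1 hm
    rw [← e, D.space.smul, htp, qp, mul_zero] at qv
    exact zero_ne_one qv
  have hun : u ∉ Submodule.span (ZMod 2) {D.cls t} ⊔ Submodule.span (ZMod 2) {v} := fun hm => by
    obtain ⟨_, h2, _, h3, e⟩ := Submodule.mem_sup.1 hm
    obtain ⟨α, rfl⟩ := Submodule.mem_span_singleton.1 h2
    obtain ⟨β, rfl⟩ := Submodule.mem_span_singleton.1 h3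
    rw [← e, map_add, map_smul, map_smul, LinearMap.add_apply, LinearMap.smul_apply,
      LinearMap.smul_apply, htp, bpv, B_self D.space, smul_zero, smul_zero, add_zero] at buv
    exact zero_ne_one buv
  have F : D.Frame (q * y) t v u :=
    ⟨ht, by rw [htp]; exact bpv, by rw [htp]; exact bpu, hvn, hun, qu.trans qv.symm,
      buv.trans qv.symm, q, y, rfl, hq, hqu, hy, hyv⟩
  have hyb : Commute b y := by
    have hy' := ht.pq_conj h.comm htb hy
    obtain ⟨e, he, hey⟩ := ht.same_label hy hy' (by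
      rw [D.act_mul _ _ (h.comm.mul_left hy.2) h.comm.inv_left, D.act_mul _ _ h.comm hy.2,
        D.act_inv h.comm, eq_mul_inv_iff_mul_eq, hyv]
      refine gl_ext fun x => ?_
      rw [mul_act, mul_act, sGL_apply D.space ht.cls_sing (by rw [htp]; exact bpv),
        sGL_apply D.space ht.cls_sing (by rw [htp]; exact bpv)]
      have e1 : D.B (D.cls t) ((D.act b).val *ᵥ x) = D.B (D.cls t) x := by
        conv_lhs => rw [htp, hp, ← hfix, D.space.B_act h.iso]
        rw [htp, hp]
      have e2 : D.B v ((D.act b).val *ᵥ x) = D.B v x := by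
        conv_lhs => rw [hv, ← hfix, D.space.B_act h.iso]
      rw [e1, e2]
      simp only [Matrix.mulVec_add, Matrix.mulVec_smul, hfix, htp, hp, hv])
    have hz : Commute b e := by
      rcases he with rfl | rfl | rfl | rfl
      exacts [Commute.one_right _, h.comm, htb, h.comm.mul_right htb]
    have hn : ∀ n : ℕ, b ^ n * y * (b ^ n)⁻¹ = e ^ n * y := by
      intro n
      induction n with
      | zero => simp
      | succ n ih =>
        calc b ^ (n + 1) * y * (b ^ (n + 1))⁻¹ = b * (b ^ n * y * (b ^ n)⁻¹) * b⁻¹ := by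
              rw [pow_succ']; group
          _ = b * e ^ n * b⁻¹ * (b * y * b⁻¹) := by rw [ih]; group
          _ = e ^ n * (e * y) := by rw [hey, (hz.pow_right n).eq, mul_inv_cancel_right]
          _ = _ := by rw [pow_succ, mul_assoc]
    have h5 := hn 5
    rw [h.pow5, one_mul, inv_one, mul_one, right_eq_mul] at h5
    have he2 : e ^ 2 = 1 := by
      obtain ⟨i, j, rfl⟩ := ht.inA_zt he
      rw [pow_two, ht.zt_add, bit_self, bit_self]; simp [Data.zt]
    rw [coprime_kill (by norm_num) he2 h5, one_mul] at hey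
    exact mul_inv_eq_iff_eq_mul.1 hey
  have hqb : Commute b q := D.commute_of_fix h.pow5 h.comm hq.1 (by rw [hqu]; exact hfix _)
  exact ⟨q * y, t, ht, htb.symm, (hqb.mul_right hyb).symm, F.comm_z, F.sq, F.ne_one,
    F.not_isConj_z⟩

/-- Some other conjugate of `z` under the centralizer lies in `Q`. -/
theorem fused : ∃ r, Commute r b ∧ r * D.z * r⁻¹ ∈ D.Q ∧ r * D.z * r⁻¹ ≠ D.z ∧
    Commute (r * D.z * r⁻¹) b := by
  obtain ⟨-, t, ht, htb, -, -, -, -, -⟩ := h.exists_frame
  obtain ⟨k, hk⟩ := ht.cl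
  set D' := D.conj k with hD'
  have hz' : D'.z = t := hk
  have hzQ : D.z ∈ D'.Q := by
    show D.z ∈ D.Q.map (MulAut.conj k).toMonoidHom
    rw [← D.Qof_eq hk]; exact ht.mem_snd
  have hbt : Commute b D'.z := by rw [hz']; exact htb.symm
  have hfixz : (D'.act b).val *ᵥ D'.cls D.z = D'.cls D.z := D'.fix_of_commute hbt hzQ h.comm
  have hne : D'.cls D.z ≠ 0 := fun e =>
    ((D'.cls_ker _ hzQ).1 e).elim D.ctx.ne_one fun e' => ht.ne_z (hz' ▸ e'.symm)
  obtain ⟨w, hw, hw1⟩ : ∃ w, (D'.act b).val *ᵥ w = w ∧ D'.B (D'.cls D.z) w = 1 := by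
    by_contra hcon
    push Not at hcon
    exact hne (five_nondeg_fix D'.space (D'.act_iso hbt) (D'.act_five h.pow5 hbt) hfixz
      fun w hw => (bit _).resolve_right (hcon w hw))
  obtain ⟨r, hr, rfl⟩ := D'.cls_surj w
  have e : r * D.z * r⁻¹ = t * D.z := by
    rw [← hz']; exact D'.q_move hr hzQ (by rw [D'.space.symm]; exact hw1)
  refine ⟨r, (D'.commute_of_fix h.pow5 hbt hr hw).symm, ?_, ?_, ?_⟩
  · rw [e]; exact mul_mem ht.mem D.ctx.mem
  · rw [e]; exact fun h' => ht.ne_one (mul_eq_right.1 h')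
  · rw [e]; exact htb.mul_left h.comm.symm

end Data.Fiver

end Cfsg.Lib.Extra.Wide
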