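import Cfsg.Agent.Lib.Extra.Wide.Setting

/-!
# The cross radical of two commuting conjugates

For a conjugate `t ≠ z` in `Q` the group `Qof t ∩ C(z)` acts on `Q/Z` as the full radical of the
point of `t`, and the commutators and squares are read off the form.
-/

set_option autoImplicit false
set_option linter.style.haveILetI false

namespace Cfsg.Lib.Extra.Wide

open Cfsg Module Cfsg.Lib.Linear.Orth
open scoped Matrix

variable {G : Type*} [Group G] {ι : Type} [Fintype ι] [DecidableEq ι] {D : Data G ι}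

/-- A second conjugate of `z` in `Q`. -/
structure Data.Point (D : Data G ι) (t : G) : Prop where
  mem : t ∈ D.Q
  sq : t * t = 1
  ne_one : t ≠ 1
  ne_z : t ≠ D.z

/-- The elements of `Q` centralizing `t`. -/
def Data.InCQ (D : Data G ι) (t q : G) : Prop := q ∈ D.Q ∧ Commute q t

/-- The elements of the subgroup at `t` centralizing `z`. -/
def Data.InPQ (D : Data G ι) (t y : G) : Prop := y ∈ D.Qof t ∧ Commute y D.z

/-- The four group of `z` and `t`. -/
def Data.InA (D : Data G ι) (t a : G) : Prop := a = 1 ∨ a = D.z ∨ a = t ∨ a = D.z * t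

theorem Data.conj_Qof (D : Data G ι) (k : G) {a : G} (ha : D.Cl a) :
    (D.conj k).Qof a = D.Qof a := by
  obtain ⟨m, hm⟩ := ha
  have h1 : m * k⁻¹ * (k * D.z * k⁻¹) * (m * k⁻¹)⁻¹ = a := by rw [← hm]; group
  rw [(D.conj k).Qof_eq h1, D.Qof_eq hm]
  ext x
  rw [mem_map_conj, mem_map_conj]
  show (m * k⁻¹)⁻¹ * x * (m * k⁻¹) ∈ D.Q.map (MulAut.conj k).toMonoidHom ↔ _
  rw [mem_map_conj, show k⁻¹ * ((m * k⁻¹)⁻¹ * x * (m * k⁻¹)) * k = m⁻¹ * x * m by group]

theorem commute_of_mul_mul {a b : G} (h : a * b * a⁻¹ * b⁻¹ = 1) : Commute a b :=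
  mul_inv_eq_iff_eq_mul.1 (mul_inv_eq_one.1 h)

namespace Data.Point

variable [Finite G] {t : G} (hp : D.Point t)

include hp

theorem cl : D.Cl t := D.cl_of_mem hp.mem hp.sq hp.ne_one

theorem mem_snd : D.z ∈ D.Qof t := D.Qof_symm D.cl_z hp.cl (by rw [D.Qof_self]; exact hp.mem)

theorem comm_zt : Commute D.z t := D.ctx.central t hp.mem

theorem cls_ne : D.cls t ≠ 0 := fun h => ((D.cls_ker t hp.mem).1 h).elim hp.ne_one hp.ne_z

theorem cls_sing : D.qf (D.cls t) = 0 := (D.cls_sq t hp.mem).1 hp.sq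

theorem cls_zt : D.cls (D.z * t) = D.cls t := by
  rw [D.cls_mul _ D.ctx.mem _ hp.mem, D.cls_z, zero_add]

theorem z_mul : D.Point (D.z * t) := by
  refine ⟨mul_mem D.ctx.mem hp.mem, ?_, fun h => hp.ne_z ?_, fun h => hp.ne_one (mul_eq_left.1 h)⟩
  · rw [mul_assoc, ← mul_assoc t, ← hp.comm_zt.eq, mul_assoc D.z t t, hp.sq, mul_one, D.ctx.sq_z]
  · rw [eq_inv_of_mul_eq_one_right h, D.ctx.inv_z]

theorem inA_mem {a : G} (ha : D.InA t a) : a ∈ D.Q ∧ a ∈ D.Qof t := by
  rcases ha with rfl | rfl | rfl | rfl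
  exacts [⟨one_mem _, one_mem _⟩, ⟨D.ctx.mem, hp.mem_snd⟩, ⟨hp.mem, (D.ctx_Qof hp.cl).mem⟩,
    ⟨mul_mem D.ctx.mem hp.mem, mul_mem hp.mem_snd (D.ctx_Qof hp.cl).mem⟩]

theorem inA_of_cls {a : G} (ha : a ∈ D.Q) {α : ZMod 2} (h : D.cls a = α • D.cls t) : D.InA t a := by
  rcases bit α with rfl | rfl
  · rw [zero_smul] at h
    rcases (D.cls_ker a ha).1 h with e | e
    exacts [Or.inl e, Or.inr (Or.inl e)]
  · rw [one_smul] at h
    rcases D.cls_eq hp.mem ha h.symm with e | e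
    exacts [Or.inr (Or.inr (Or.inl e)), Or.inr (Or.inr (Or.inr e))]

theorem cls_inA {a : G} (ha : D.InA t a) : ∃ α : ZMod 2, D.cls a = α • D.cls t := by
  rcases ha with rfl | rfl | rfl | rfl
  exacts [⟨0, by rw [D.cls_one, zero_smul]⟩, ⟨0, by rw [D.cls_z, zero_smul]⟩,
    ⟨1, by rw [one_smul]⟩, ⟨1, by rw [hp.cls_zt, one_smul]⟩]

theorem inCQ_iff {q : G} (hq : q ∈ D.Q) : D.InCQ t q ↔ D.B (D.cls t) (D.cls q) = 0 := by
  rw [D.space.symm, ← D.cls_comm q hq t hp.mem]
  exact ⟨fun h => h.2, fun h => ⟨hq, h⟩⟩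

theorem exists_inCQ {u : ι → ZMod 2} (hu : D.B (D.cls t) u = 0) : ∃ q, D.InCQ t q ∧ D.cls q = u := by
  obtain ⟨q, hq, rfl⟩ := D.cls_surj u
  exact ⟨q, (hp.inCQ_iff hq).2 hu, rfl⟩

theorem exists_mover : ∃ a ∈ D.Q, D.B (D.cls t) (D.cls a) = 1 ∧ a * t * a⁻¹ = D.z * t := by
  obtain ⟨b, -, hb⟩ := exists_sep D.space (⊥ : Submodule (ZMod 2) (ι → ZMod 2))
    (show D.cls t ∉ (⊥ : Submodule (ZMod 2) (ι → ZMod 2)) by simpa using hp.cls_ne)
  obtain ⟨a, ha, rfl⟩ := D.cls_surj b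
  exact ⟨a, ha, hb, D.q_move ha hp.mem (by rw [D.space.symm]; exact hb)⟩

omit [Finite G] in
theorem act_fix {c : G} (hcz : Commute c D.z) (hct : Commute c t) :
    (D.act c).val *ᵥ D.cls t = D.cls t := by
  rw [← D.act_cls c hcz t hp.mem, hct.eq, mul_inv_cancel_right]

theorem exists_lift {h : GL ι (ZMod 2)} (hh : h ∈ Cfsg.Geo.omegaGL D.qf)
    (hfix : h.val *ᵥ D.cls t = D.cls t) : ∃ c, Commute c D.z ∧ Commute c t ∧ D.act c = h := by
  obtain ⟨c, hc, rfl⟩ := D.act_surj h hh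
  have hct : c * t * c⁻¹ ∈ D.Q := (Subgroup.mem_normalizer_iff.1 (D.ctx.norm c hc) t).1 hp.mem
  rcases D.cls_eq hct hp.mem (by rw [D.act_cls c hc t hp.mem, hfix]) with e | e
  · exact ⟨c, hc, mul_inv_eq_iff_eq_mul.1 e.symm, rfl⟩
  · obtain ⟨a, ha, -, hat⟩ := hp.exists_mover
    have hct' : c * t * c⁻¹ = D.z * t := by
      conv_rhs => rw [e, ← mul_assoc, D.ctx.sq_z, one_mul]
    refine ⟨a * c, (D.ctx.central a ha).symm.mul_left hc, mul_inv_eq_iff_eq_mul.1 ?_,
      by rw [D.act_mul _ _ (D.ctx.central a ha).symm hc, D.act_q ha, one_mul]⟩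
    calc a * c * t * (a * c)⁻¹ = a * (c * t * c⁻¹) * a⁻¹ := by group
      _ = a * D.z * a⁻¹ * (a * t * a⁻¹) := by rw [hct']; group
      _ = t := by
        rw [hat, mul_inv_eq_iff_eq_mul.2 (D.ctx.central a ha).symm.eq, ← mul_assoc, D.ctx.sq_z,
          one_mul]

/-- `Q` meets the subgroup at `t` in the four group. -/
theorem inter {a : G} (ha : a ∈ D.Q) (ha' : a ∈ D.Qof t) : D.InA t a := by
  by_cases hsp : D.cls a ∈ Submodule.span (ZMod 2) {D.cls t}
  · obtain ⟨α, hα⟩ := Submodule.mem_span_singleton.1 hsp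
    exact hp.inA_of_cls ha hα.symm
  exfalso
  set u := D.cls a with hu
  set p := D.cls t with hpdef
  have hat : Commute a t := ((D.ctx_Qof hp.cl).central a ha').symm
  have hpu : D.B p u = 0 := (hp.inCQ_iff ha).1 ⟨ha, hat⟩
  have hQu : D.qf u = 0 := by
    rw [hu, ← D.cls_sq a ha]
    rcases D.ctx.sq a ha with e | e
    · exact e
    rcases (D.ctx_Qof hp.cl).sq a ha' with e' | e'
    · exact e'
    · exact absurd (e'.symm.trans e) hp.ne_z
  obtain ⟨w, hw, hpw, huw⟩ : ∃ w, D.qf w = 1 ∧ D.B p w = 0 ∧ D.B u w = 1 := by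
    obtain ⟨b, hb, hub⟩ := exists_sep D.space _ hsp
    have hpb := hb p (Submodule.mem_span_singleton_self p)
    rcases bit (D.qf b) with e | e
    · refine ⟨b + u, ?_, by rw [map_add, hpb, hpu, add_zero], by rw [map_add, hub, B_self D.space, add_zero]⟩
      rw [D.space.add, e, hQu, D.space.symm, hub, zero_add, zero_add]
    · exact ⟨b, e, hpb, hub⟩
  have hx' : u + w ∉ Submodule.span (ZMod 2) {p} := fun hm => by
    obtain ⟨α, hα⟩ := Submodule.mem_span_singleton.1 hm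
    have := congrArg (D.B u) hα
    rw [map_smul, map_add, B_self D.space, huw, D.space.symm, hpu, smul_zero, zero_add] at this
    exact zero_ne_one this
  obtain ⟨h, hh, hfix, hhu⟩ := witt_step D.space (Submodule.span (ZMod 2) {p}) hsp hx'
    (by rw [D.space.add, hQu, hw, huw, zero_add, bit_self])
    (fun k hk => by
      obtain ⟨α, rfl⟩ := Submodule.mem_span_singleton.1 hk
      simp [hpu, hpw])
  obtain ⟨h', hh', hagree⟩ := D.exists_omega
    (Submodule.span (ZMod 2) {p} ⊔ Submodule.span (ZMod 2) {u + w}) (Or.inl (by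
      have h1 := Submodule.finrank_add_le_finrank_add_finrank
        (Submodule.span (ZMod 2) {p}) (Submodule.span (ZMod 2) {u + w})
      have h2 : ∀ v : ι → ZMod 2, finrank (ZMod 2) (Submodule.span (ZMod 2) {v}) ≤ 1 := fun v => by
        simpa using finrank_span_le_card ({v} : Set (ι → ZMod 2))
      have := h2 p; have := h2 (u + w); have := D.six; omega)) hh
  have hhp := hfix p (Submodule.mem_span_singleton_self p)
  obtain ⟨c, hcz, hct, hce⟩ := hp.exists_lift hh' (by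
    rw [hagree p (by rw [hhp]; exact Submodule.mem_sup_left (Submodule.mem_span_singleton_self p))]
    exact hhp)
  have hb : c * a * c⁻¹ ∈ D.Q := (Subgroup.mem_normalizer_iff.1 (D.ctx.norm c hcz) a).1 ha
  have hb' : c * a * c⁻¹ ∈ D.Qof t := by
    have := D.Qof_conj hp.cl c ha'
    rwa [hct.eq, mul_inv_cancel_right] at this
  have hclsb : D.cls (c * a * c⁻¹) = u + w := by
    rw [D.act_cls c hcz a ha, hce, ← hu,
      hagree u (by rw [hhu]; exact Submodule.mem_sup_right (Submodule.mem_span_singleton_self _)), hhu]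
  have hcomm : Commute a (c * a * c⁻¹) := by
    rcases D.ctx.comm a ha _ hb with e | e
    · exact commute_of_mul_mul e
    rcases (D.ctx_Qof hp.cl).comm a ha' _ hb' with e' | e'
    · exact commute_of_mul_mul e'
    · exact absurd (e'.symm.trans e) hp.ne_z
  have := (D.cls_comm a ha _ hb).1 hcomm
  rw [hclsb, map_add, B_self D.space, huw, zero_add] at this
  exact one_ne_zero this

theorem pq_one : D.InPQ t 1 := ⟨one_mem _, Commute.one_left _⟩

theorem pq_commute_t {y : G} (hy : D.InPQ t y) : Commute y t :=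
  ((D.ctx_Qof hp.cl).central y hy.1).symm

theorem pq_mul {y y' : G} (hy : D.InPQ t y) (hy' : D.InPQ t y') : D.InPQ t (y * y') :=
  ⟨mul_mem hy.1 hy'.1, hy.2.mul_left hy'.2⟩

theorem pq_conj {c y : G} (hcz : Commute c D.z) (hct : Commute c t) (hy : D.InPQ t y) :
    D.InPQ t (c * y * c⁻¹) := by
  refine ⟨?_, (hcz.mul_left hy.2).mul_left hcz.inv_left⟩
  have := D.Qof_conj hp.cl c hy.1
  rwa [hct.eq, mul_inv_cancel_right] at this

omit [Finite G] in
theorem cq_conj {c q : G} (hcz : Commute c D.z) (hct : Commute c t) (hq : D.InCQ t q) :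
    D.InCQ t (c * q * c⁻¹) :=
  ⟨(Subgroup.mem_normalizer_iff.1 (D.ctx.norm c hcz) q).1 hq.1,
    (hct.mul_left hq.2).mul_left hct.inv_left⟩

theorem cq_A {a : G} (ha : D.InA t a) : D.InCQ t a := by
  refine ⟨(hp.inA_mem ha).1, ?_⟩
  rcases ha with rfl | rfl | rfl | rfl
  exacts [Commute.one_left _, hp.comm_zt, Commute.refl _, hp.comm_zt.mul_left (Commute.refl _)]

theorem pq_A {a : G} (ha : D.InA t a) : D.InPQ t a :=
  ⟨(hp.inA_mem ha).2, (D.ctx.central a (hp.inA_mem ha).1).symm⟩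

theorem A_commute_cq {a q : G} (ha : D.InA t a) (hq : D.InCQ t q) : Commute a q := by
  rcases ha with rfl | rfl | rfl | rfl
  exacts [Commute.one_left _, D.ctx.central q hq.1, hq.2.symm,
    (D.ctx.central q hq.1).mul_left hq.2.symm]

theorem A_commute_pq {a y : G} (ha : D.InA t a) (hy : D.InPQ t y) : Commute a y := by
  rcases ha with rfl | rfl | rfl | rfl
  exacts [Commute.one_left _, hy.2.symm, (hp.pq_commute_t hy).symm,
    hy.2.symm.mul_left (hp.pq_commute_t hy).symm]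

/-- The commutators of the two cross centralizers lie in the four group. -/
theorem comm_inA {q y : G} (hq : D.InCQ t q) (hy : D.InPQ t y) :
    D.InA t (y * q * y⁻¹ * q⁻¹) := by
  refine hp.inter (mul_mem ((Subgroup.mem_normalizer_iff.1 (D.ctx.norm y hy.2) q).1 hq.1)
    (inv_mem hq.1)) ?_
  rw [show y * q * y⁻¹ * q⁻¹ = y * (q * y⁻¹ * q⁻¹) by group]
  exact mul_mem hy.1
    ((Subgroup.mem_normalizer_iff.1 ((D.ctx_Qof hp.cl).norm q hq.2) _).1 (inv_mem hy.1))

theorem label {y : G} (hy : D.InPQ t y) :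
    ∃ v, D.B (D.cls t) v = 0 ∧ D.act y = sGL D.qf D.B (D.cls t) v := by
  refine exists_siegel D.space (D.act_iso hy.2) hp.cls_sing hp.cls_ne
    (hp.act_fix hy.2 (hp.pq_commute_t hy)) fun x hx => ?_
  obtain ⟨q, hq, rfl⟩ := hp.exists_inCQ hx
  have hA := hp.comm_inA hq hy
  obtain ⟨α, hα⟩ := hp.cls_inA hA
  refine ⟨α, ?_⟩
  rw [← D.act_cls y hy.2 q hq.1,
    show y * q * y⁻¹ = y * q * y⁻¹ * q⁻¹ * q by group, D.cls_mul _ (hp.inA_mem hA).1 _ hq.1, hα,
    add_comm]

theorem inA_of_act {y : G} (hy : D.InPQ t y) (h : D.act y = 1) : D.InA t y :=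
  hp.inter ((D.act_ker y hy.2).1 h) hy.1

theorem same_label {y y' : G} (hy : D.InPQ t y) (hy' : D.InPQ t y') (h : D.act y = D.act y') :
    ∃ e, D.InA t e ∧ y' = e * y := by
  refine ⟨y' * y⁻¹, hp.inA_of_act ⟨mul_mem hy'.1 (inv_mem hy.1), hy'.2.mul_left hy.2.inv_left⟩ ?_,
    by group⟩
  rw [D.act_mul _ _ hy'.2 hy.2.inv_left, D.act_inv hy.2, h, mul_inv_cancel]

theorem card_Q : Nat.card D.Q = 2 * 2 ^ Fintype.card ι := by
  classical
  let φ : D.Q →* Multiplicative (ι → ZMod 2) :=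
    MonoidHom.mk' (fun a => Multiplicative.ofAdd (D.cls a)) fun a b => by
      rw [← ofAdd_add, ← D.cls_mul a a.2 b b.2]; rfl
  have hsurj : Function.Surjective φ := fun v => by
    obtain ⟨a, ha, e⟩ := D.cls_surj (Multiplicative.toAdd v)
    exact ⟨⟨a, ha⟩, congrArg Multiplicative.ofAdd e⟩
  have hk : Nat.card φ.ker = 2 := by
    rw [Nat.card_eq_two_iff]
    have hm : ∀ a : D.Q, a ∈ φ.ker ↔ (a : G) = 1 ∨ (a : G) = D.z := fun a =>
      ⟨fun h => (D.cls_ker a a.2).1 (ofAdd_eq_one.1 h),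
        fun h => ofAdd_eq_one.2 ((D.cls_ker a a.2).2 h)⟩
    refine ⟨⟨1, one_mem _⟩, ⟨⟨D.z, D.ctx.mem⟩, (hm _).2 (Or.inr rfl)⟩,
      fun h => D.ctx.ne_one (congrArg (fun x : φ.ker => ((x : D.Q) : G)) h).symm, ?_⟩
    refine Set.eq_univ_iff_forall.2 fun x => ?_
    rcases (hm x.1).1 x.2 with e | e
    · exact Or.inl (Subtype.ext (Subtype.ext e))
    · exact Or.inr (Subtype.ext (Subtype.ext e))
  rw [Subgroup.card_eq_card_quotient_mul_card_subgroup φ.ker,
    Nat.card_congr (QuotientGroup.quotientKerEquivOfSurjective φ hsurj).toEquiv, hk,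
    Nat.card_congr (Multiplicative.toAdd), Nat.card_fun, Nat.card_zmod, Nat.card_eq_fintype_card,
    mul_comm]

/-- Every vector perpendicular to the point is a label. -/
theorem exists_label {v : ι → ZMod 2} (hv : D.B (D.cls t) v = 0) :
    ∃ y, D.InPQ t y ∧ D.act y = sGL D.qf D.B (D.cls t) v := by
  classical
  set p := D.cls t with hpdef
  let H := LinearMap.ker (D.B p)
  let ψ : Multiplicative ↥H →* GL ι (ZMod 2) :=
    MonoidHom.mk' (fun v => sGL D.qf D.B p (Multiplicative.toAdd v : ↥H).1) fun a b =>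
      (sGL_mul D.space hp.cls_sing (LinearMap.mem_ker.1 (Multiplicative.toAdd a : ↥H).2)
        (LinearMap.mem_ker.1 (Multiplicative.toAdd b : ↥H).2)).symm
  let P : Subgroup G := D.Qof t ⊓ Subgroup.centralizer ({D.z} : Set G)
  have hPm : ∀ {y : G}, y ∈ P ↔ D.InPQ t y := fun {y} =>
    ⟨fun h => ⟨h.1, Subgroup.mem_centralizer_singleton_iff.1 h.2⟩,
      fun h => ⟨h.1, Subgroup.mem_centralizer_singleton_iff.2 h.2.eq⟩⟩
  let φ : P →* GL ι (ZMod 2) := MonoidHom.mk' (fun y => D.act y)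
    fun a b => D.act_mul _ _ (hPm.1 a.2).2 (hPm.1 b.2).2
  have hle : φ.range ≤ ψ.range := by
    rintro _ ⟨y, rfl⟩
    obtain ⟨w, hw, e⟩ := hp.label (hPm.1 y.2)
    exact ⟨Multiplicative.ofAdd ⟨w, hw⟩, e.symm⟩
  have hψ : Nat.card ψ.range * 2 ≤ Nat.card ↥H := by
    have h2 : 2 ≤ Nat.card ψ.ker := by
      have hpm : Multiplicative.ofAdd (⟨p, B_self D.space p⟩ : ↥H) ∈ ψ.ker := by
        show sGL D.qf D.B p p = 1
        have := siegel_zero D.space hp.cls_sing (p := p) 1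
        rwa [one_smul] at this
      haveI : Nontrivial ψ.ker := ⟨⟨⟨_, hpm⟩, 1, fun h => hp.cls_ne
        (congrArg (fun x : ψ.ker => (Multiplicative.toAdd (x : Multiplicative ↥H) : ↥H).1) h)⟩⟩
      exact Finite.one_lt_card
    have h := Subgroup.card_eq_card_quotient_mul_card_subgroup ψ.ker
    rw [Nat.card_congr (QuotientGroup.quotientKerEquivRange ψ).toEquiv,
      Nat.card_congr Multiplicative.toAdd] at h
    rw [h]
    exact Nat.mul_le_mul_left _ h2
  have hH : Nat.card ↥H * 2 ≤ 2 ^ Fintype.card ι := by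
    rw [Module.natCard_eq_pow_finrank (K := ZMod 2) (V := ↥H), Nat.card_zmod, ← pow_succ]
    refine Nat.pow_le_pow_right (by norm_num) ?_
    have : H ≠ ⊤ := fun h => hp.cls_ne (D.space.nondeg' fun u => LinearMap.congr_fun
      (LinearMap.ker_eq_top.1 h) u)
    have := Submodule.finrank_lt this
    rwa [finrank_fintype_fun_eq_card, Nat.lt_iff_add_one_le] at this
  obtain ⟨a0, ha0, ha0t⟩ := (D.ctx_Qof hp.cl).exists_move hp.mem_snd D.ctx.ne_one hp.ne_z.symm
  have hP : 2 ^ Fintype.card ι ≤ Nat.card P := by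
    have hsub : (D.Qof t : Set G) ⊆ (P : Set G) ∪ (fun x => a0⁻¹ * x) '' (P : Set G) := by
      intro x hx
      rcases (D.ctx_Qof hp.cl).commute_or ha0 ha0t hx hp.mem_snd with h | h
      · exact Or.inl (hPm.2 ⟨hx, h⟩)
      · exact Or.inr ⟨a0 * x, hPm.2 ⟨mul_mem ha0 hx, h⟩, by group⟩
    have h1 := (Set.ncard_le_ncard hsub (Set.toFinite _)).trans (Set.ncard_union_le _ _)
    have h2 := Set.ncard_image_le (f := fun x => a0⁻¹ * x) (Set.toFinite (P : Set G))
    have e1 : (D.Qof t : Set G).ncard = Nat.card D.Q := by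
      rw [← Nat.card_coe_set_eq]
      obtain ⟨k, hk⟩ := hp.cl
      rw [SetLike.coe_sort_coe, D.Qof_eq hk, Subgroup.card_map_of_injective (MulAut.conj k).injective]
    have e2 : (P : Set G).ncard = Nat.card P := (Nat.card_coe_set_eq (P : Set G)).symm
    rw [e1, hp.card_Q] at h1
    omega
  have hker : Nat.card φ.ker ≤ 4 := by
    have hmem : ∀ x : φ.ker, ((x : P) : G) ∈ ({1, D.z, t, D.z * t} : Finset G) := fun x => by
      have := hp.inA_of_act (hPm.1 x.1.2) x.2
      simpa [Data.InA] using this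
    refine (Nat.card_le_card_of_injective (fun x : φ.ker =>
      (⟨_, hmem x⟩ : ↥({1, D.z, t, D.z * t} : Finset G)))
        fun a b h => Subtype.ext (Subtype.ext (congrArg (fun z : ↥({1, D.z, t, D.z * t} : Finset G) => (z : G)) h))).trans ?_
    rw [Nat.card_eq_finsetCard]
    exact le_trans (Finset.card_insert_le _ _) (Nat.succ_le_succ (le_trans (Finset.card_insert_le _ _)
      (Nat.succ_le_succ (le_trans (Finset.card_insert_le _ _) (Nat.succ_le_succ
        (Finset.card_singleton _).le)))))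
  have hφ : 2 ^ Fintype.card ι ≤ Nat.card φ.range * 4 := by
    have h := Subgroup.card_eq_card_quotient_mul_card_subgroup φ.ker
    rw [Nat.card_congr (QuotientGroup.quotientKerEquivRange φ).toEquiv] at h
    calc 2 ^ Fintype.card ι ≤ Nat.card P := hP
      _ = _ := h
      _ ≤ _ := Nat.mul_le_mul_left _ hker
  have heq : φ.range = ψ.range := Subgroup.eq_of_le_of_card_ge hle (by omega)
  obtain ⟨y, hy⟩ := heq.ge ⟨Multiplicative.ofAdd (⟨v, hv⟩ : ↥H), rfl⟩
  exact ⟨y, hPm.1 y.2, hy⟩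

theorem act_label_apply {y v : ι → ZMod 2} (hv : D.B (D.cls t) v = 0)
    (hy : D.B (D.cls t) y = 0) :
    (sGL D.qf D.B (D.cls t) v).val *ᵥ y = y + D.B v y • D.cls t :=
  sGL_perp D.space hp.cls_sing hv hy

theorem cls_comm_elt {q y : G} {v : ι → ZMod 2} (hq : D.InCQ t q) (hy : D.InPQ t y)
    (hv : D.B (D.cls t) v = 0) (hyv : D.act y = sGL D.qf D.B (D.cls t) v) :
    D.cls (y * q * y⁻¹ * q⁻¹) = D.B v (D.cls q) • D.cls t := by
  rw [D.cls_mul _ ((Subgroup.mem_normalizer_iff.1 (D.ctx.norm y hy.2) q).1 hq.1) _ (inv_mem hq.1),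
    D.cls_inv hq.1, D.act_cls y hy.2 q hq.1, hyv, hp.act_label_apply hv ((hp.inCQ_iff hq.1).1 hq),
    add_comm (D.cls q), add_assoc, vadd_self, add_zero]

/-- No element of the radical that commutes with `Q ∩ C(t)` modulo `t` is outside `Q`. -/
theorem not_all_mod_t {y : G} (hy : D.InPQ t y)
    (h : ∀ q, D.InCQ t q → y * q * y⁻¹ * q⁻¹ = 1 ∨ y * q * y⁻¹ * q⁻¹ = t) : D.InA t y := by
  obtain ⟨k, hk⟩ := hp.cl
  set D' := D.conj k with hD'
  have hz' : D'.z = t := hk
  have hQ' : D'.Q = D.Qof t := (D.Qof_eq hk).symm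
  have hQz : D'.Qof D.z = D.Q := (D.conj_Qof k D.cl_z).trans D.Qof_self
  have hp' : D'.Point D.z :=
    ⟨hQ' ▸ hp.mem_snd, D.ctx.sq_z, D.ctx.ne_one, fun e => hp.ne_z (hz'.symm.trans e.symm)⟩
  have hy' : D'.InCQ D.z y := ⟨hQ' ▸ hy.1, hy.2⟩
  have key : D'.cls y ∈ Submodule.span (ZMod 2) {D'.cls D.z} := by
    refine mem_of_perp D'.space _ fun b hb => ?_
    obtain ⟨q, hq, hqb⟩ := hp'.exists_label (hb _ (Submodule.mem_span_singleton_self _))
    have hqD : D.InCQ t q := ⟨hQz ▸ hq.1, hz' ▸ hq.2⟩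
    have e := hp'.cls_comm_elt hy' hq (hb _ (Submodule.mem_span_singleton_self _)) hqb
    have he : D'.cls (q * y * q⁻¹ * y⁻¹) = 0 := by
      rw [show q * y * q⁻¹ * y⁻¹ = (y * q * y⁻¹ * q⁻¹)⁻¹ by group]
      have hmem : ∀ w, w = 1 ∨ w = t → D'.cls w⁻¹ = 0 := by
        rintro w (rfl | rfl)
        · rw [inv_one, D'.cls_one]
        · rw [inv_eq_of_mul_eq_one_right hp.sq, ← hz', D'.cls_z]
      exact hmem _ (h q hqD)
    rw [he, eq_comm, smul_eq_zero] at e
    rw [D'.space.symm]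
    exact e.resolve_right hp'.cls_ne
  obtain ⟨α, hα⟩ := Submodule.mem_span_singleton.1 key
  have h' := hp'.inA_of_cls (hQ' ▸ hy.1) hα.symm
  rw [Data.InA, hz'] at h'
  rcases h' with e | e | e | e
  exacts [Or.inl e, Or.inr (Or.inr (Or.inl e)), Or.inr (Or.inl e),
    Or.inr (Or.inr (Or.inr (e.trans hp.comm_zt.eq.symm)))]

theorem t_not (a : G) : ¬ (a = 1 ∧ a = t) ∧ ¬ (a = D.z ∧ a = D.z * t) :=
  ⟨fun h => hp.ne_one (h.2.symm.trans h.1), fun h => hp.ne_one (mul_eq_left.1 (h.2.symm.trans h.1))⟩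

/-- Whether a commutator involves `z`. -/
theorem zpart_exists {y : G} (hy : D.InPQ t y) :
    ∃ w, D.B (D.cls t) w = 0 ∧ ∀ q, D.InCQ t q →
      ((D.B w (D.cls q) = 0 ↔ (y * q * y⁻¹ * q⁻¹ = 1 ∨ y * q * y⁻¹ * q⁻¹ = t))) := by
  classical
  set p := D.cls t with hpdef
  let good : G → Prop := fun a => a = 1 ∨ a = t
  let zc : G → ZMod 2 := fun a => if good a then 0 else 1
  have hzt : D.z * t ≠ 1 := hp.z_mul.ne_one
  have hzt' : D.z * t ≠ t := fun h => D.ctx.ne_one (mul_eq_right.1 h)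
  have hzc : ∀ a b, D.InA t a → D.InA t b → zc (a * b) = zc a + zc b := by
    have e1 : D.z * (D.z * t) = t := by rw [← mul_assoc, D.ctx.sq_z, one_mul]
    have e2 : t * (D.z * t) = D.z := by
      rw [← mul_assoc, ← hp.comm_zt.eq, mul_assoc, hp.sq, mul_one]
    have e3 : t * D.z = D.z * t := hp.comm_zt.eq.symm
    have e4 : D.z * t * D.z = t := by rw [mul_assoc, e3, e1]
    have e5 : D.z * t * t = D.z := by rw [mul_assoc, hp.sq, mul_one]
    have e6 : D.z * t * (D.z * t) = 1 := hp.z_mul.sq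
    have g0 : zc 1 = 0 := if_pos (Or.inl rfl)
    have g1 : zc t = 0 := if_pos (Or.inr rfl)
    have g2 : zc D.z = 1 := if_neg (not_or.2 ⟨D.ctx.ne_one, hp.ne_z.symm⟩)
    have g3 : zc (D.z * t) = 1 := if_neg (not_or.2 ⟨hzt, hzt'⟩)
    rintro a b (rfl | rfl | rfl | rfl) (rfl | rfl | rfl | rfl) <;>
      simp only [one_mul, mul_one, D.ctx.sq_z, hp.sq, e1, e2, e3, e4, e5, e6, g0, g1, g2, g3,
        zero_add, add_zero, bit_self]
  choose L hL using fun x : LinearMap.ker (D.B p) => hp.exists_inCQ (LinearMap.mem_ker.1 x.2)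
  have hwell : ∀ q q', D.InCQ t q → D.InCQ t q' → D.cls q = D.cls q' →
      y * q * y⁻¹ * q⁻¹ = y * q' * y⁻¹ * q'⁻¹ := by
    intro q q' hq hq' e
    rcases D.cls_eq hq.1 hq'.1 e with rfl | rfl
    · rfl
    · symm
      calc y * (D.z * q) * y⁻¹ * (D.z * q)⁻¹ = y * D.z * y⁻¹ * (y * q * y⁻¹ * q⁻¹) * D.z⁻¹ := by group
        _ = D.z * (y * q * y⁻¹ * q⁻¹) * D.z⁻¹ := by rw [mul_inv_eq_iff_eq_mul.2 hy.2.eq]
        _ = _ := by rw [((hy.2.symm.mul_right (D.ctx.central q hq.1)).mul_right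
            hy.2.symm.inv_right).mul_right (D.ctx.central q hq.1).inv_right |>.eq, mul_inv_cancel_right]
  have hadd : ∀ q q', D.InCQ t q → D.InCQ t q' →
      y * (q * q') * y⁻¹ * (q * q')⁻¹ = y * q * y⁻¹ * q⁻¹ * (y * q' * y⁻¹ * q'⁻¹) := by
    intro q q' hq hq'
    calc y * (q * q') * y⁻¹ * (q * q')⁻¹
        = y * q * y⁻¹ * q⁻¹ * (q * (y * q' * y⁻¹ * q'⁻¹) * q⁻¹) := by group
      _ = _ := by rw [mul_inv_eq_iff_eq_mul.2 (hp.A_commute_cq (hp.comm_inA hq' hy) hq).symm.eq]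
  let ζ : LinearMap.ker (D.B p) →+ ZMod 2 := AddMonoidHom.mk'
    (fun x => zc (y * L x * y⁻¹ * (L x)⁻¹)) fun a b => by
      rw [← hzc _ _ (hp.comm_inA (hL a).1 hy) (hp.comm_inA (hL b).1 hy), ← hadd _ _ (hL a).1 (hL b).1,
        hwell (L (a + b)) (L a * L b) (hL _).1 ⟨mul_mem (hL a).1.1 (hL b).1.1,
          (hL a).1.2.mul_left (hL b).1.2⟩
          (by rw [D.cls_mul _ (hL a).1.1 _ (hL b).1.1, (hL a).2, (hL b).2, (hL _).2]; rfl)]
  obtain ⟨Z, hZ⟩ := LinearMap.exists_extend (ζ.toZModLinearMap 2)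
  obtain ⟨w, hw⟩ := (LinearMap.BilinForm.toDual D.B (nondegenerate D.space)).surjective Z
  have hval : ∀ q, D.InCQ t q → D.B w (D.cls q) = zc (y * q * y⁻¹ * q⁻¹) := by
    intro q hq
    have hm : D.cls q ∈ LinearMap.ker (D.B p) := (hp.inCQ_iff hq.1).1 hq
    have h1 : D.B w (D.cls q) = Z (D.cls q) := LinearMap.congr_fun hw _
    have h2 : Z (D.cls q) = ζ ⟨_, hm⟩ := LinearMap.congr_fun hZ ⟨_, hm⟩
    rw [h1, h2]
    show zc _ = _
    rw [hwell _ q (hL ⟨_, hm⟩).1 hq (hL ⟨_, hm⟩).2]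
  refine ⟨w, ?_, fun q hq => ?_⟩
  · rw [D.space.symm, hpdef, hval t ⟨hp.mem, Commute.refl t⟩]
    exact if_pos (Or.inl (by rw [(hp.pq_commute_t hy).eq]; group))
  · rw [hval q hq]
    by_cases h : good (y * q * y⁻¹ * q⁻¹)
    · exact ⟨fun _ => h, fun _ => if_pos h⟩
    · exact ⟨fun e => absurd e (by simp [zc, h]), fun e => absurd e h⟩

/-- An element of `Ω` fixing the point and `v`, moving `w` away from `w + ⟨p⟩`. -/
theorem exists_moving {v w : ι → ZMod 2} (hv : D.B (D.cls t) v = 0)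
    (hvn : v ∉ Submodule.span (ZMod 2) {D.cls t}) (hw : D.B (D.cls t) w = 0)
    (hwn : w ∉ Submodule.span (ZMod 2) {D.cls t} ⊔ Submodule.span (ZMod 2) {v}) :
    ∃ h ∈ Cfsg.Geo.omegaGL D.qf, h.val *ᵥ D.cls t = D.cls t ∧ h.val *ᵥ v = v ∧
      h.val *ᵥ w + w ∉ Submodule.span (ZMod 2) {D.cls t} := by
  set p := D.cls t with hpdef
  set U := Submodule.span (ZMod 2) {p} ⊔ Submodule.span (ZMod 2) {v} with hU
  have hpU : p ∈ U := Submodule.mem_sup_left (Submodule.mem_span_singleton_self p)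
  have hvU : v ∈ U := Submodule.mem_sup_right (Submodule.mem_span_singleton_self v)
  have h1 : ∀ x : ι → ZMod 2, finrank (ZMod 2) (Submodule.span (ZMod 2) {x}) ≤ 1 := fun x => by
    simpa using finrank_span_le_card ({x} : Set (ι → ZMod 2))
  have hUle : finrank (ZMod 2) U ≤ 2 := by
    refine (Submodule.finrank_add_le_finrank_add_finrank _ _).trans ?_
    have := h1 p; have := h1 v; omega
  rcases bit (D.qf v) with hQv | hQv
  · have hΩ : ∀ b, D.B v b = 0 → sGL D.qf D.B v b ∈ Cfsg.Geo.omegaGL D.qf := fun b hb => by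
      rw [Cfsg.Geo.omegaGL, Subgroup.map_subtype_commutator]
      exact sGL_mem_comm D.space (by have := D.six; omega) hQv hb
    rcases bit (D.B v w) with hvw | hvw
    · obtain ⟨b, hb, hwb⟩ := exists_sep D.space U hwn
      have hvb := hb v hvU
      refine ⟨_, hΩ b hvb, ?_, sGL_self D.space hQv hvb, ?_⟩
      · rw [sGL_apply D.space hQv hvb, D.space.symm v p, hv, D.space.symm b p, hb p hpU]; simp
      · rw [sGL_apply D.space hQv hvb, hvw, D.space.symm b w, hwb]
        simpa [add_comm w, add_assoc, vadd_self] using hvn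
    · obtain ⟨b, hb, hbn⟩ : ∃ b ∈ D.B.orthogonal (U ⊔ Submodule.span (ZMod 2) {w}), b ∉ U := by
        by_contra hne
        push Not at hne
        have h2 := Submodule.finrank_mono
          (show D.B.orthogonal (U ⊔ Submodule.span (ZMod 2) {w}) ≤ U from hne)
        have h3 := finrank_orth D.space (U ⊔ Submodule.span (ZMod 2) {w})
        have h4 := Submodule.finrank_add_le_finrank_add_finrank U (Submodule.span (ZMod 2) {w})
        have := h1 w; have := D.six; omega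
      have hpb : D.B p b = 0 := hb p (Submodule.mem_sup_left hpU)
      have hvb : D.B v b = 0 := hb v (Submodule.mem_sup_left hvU)
      have hwb : D.B w b = 0 := hb w (Submodule.mem_sup_right (Submodule.mem_span_singleton_self w))
      refine ⟨_, hΩ b hvb, ?_, sGL_self D.space hQv hvb, fun hm => hbn ?_⟩
      · rw [sGL_apply D.space hQv hvb, D.space.symm v p, hv, D.space.symm b p, hpb]; simp
      · rw [sGL_apply D.space hQv hvb, hvw, one_smul, D.space.symm b w, hwb, zero_add, mul_one,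
          add_assoc w, add_comm w, add_assoc, vadd_self, add_zero] at hm
        have := add_mem (le_sup_left (a := Submodule.span (ZMod 2) {p})
          (b := Submodule.span (ZMod 2) {v}) hm)
          (Submodule.smul_mem U (D.qf b) hvU)
        rwa [add_assoc, vadd_self, add_zero] at this
  · obtain ⟨a, ha, hpa, hva, hwa⟩ : ∃ a, D.qf a = 1 ∧ D.B p a = 0 ∧ D.B v a = 0 ∧ D.B w a = 1 := by
      rcases bit (D.B v w) with hvw | hvw
      · obtain ⟨b, hb, hwb⟩ := exists_sep D.space U hwn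
        rcases bit (D.qf b) with e | e
        · refine ⟨b + v, ?_, by rw [map_add, hb p hpU, hv, add_zero],
            by rw [map_add, hb v hvU, B_self D.space, add_zero], ?_⟩
          · rw [D.space.add, e, hQv, D.space.symm, hb v hvU, zero_add, add_zero]
          · rw [map_add, hwb, D.space.symm, hvw, add_zero]
        · exact ⟨b, e, hb p hpU, hb v hvU, hwb⟩
      · exact ⟨v, hQv, hv, B_self D.space v, by rw [D.space.symm]; exact hvw⟩
    obtain ⟨h', hh', hag⟩ := D.exists_omega (U ⊔ Submodule.span (ZMod 2) {w + a}) (by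
      have h4 := Submodule.finrank_add_le_finrank_add_finrank U (Submodule.span (ZMod 2) {w + a})
      have := h1 (w + a); have := D.six
      by_cases he : 2 * finrank (ZMod 2)
          (U ⊔ Submodule.span (ZMod 2) {w + a} : Submodule (ZMod 2) (ι → ZMod 2)) = Fintype.card ι
      · exact Or.inr ⟨he, v, Submodule.mem_sup_left hvU, by rw [hQv]; exact one_ne_zero⟩
      · exact Or.inl (by omega)) (rGL_mem' D.space ha)
    have hrp : (rGL D.qf a).val *ᵥ p = p := by
      rw [rGL_apply D.space ha, D.space.symm, hpa]; simp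
    have hrv : (rGL D.qf a).val *ᵥ v = v := by
      rw [rGL_apply D.space ha, D.space.symm, hva]; simp
    have hrw : (rGL D.qf a).val *ᵥ w = w + a := by
      rw [rGL_apply D.space ha, D.space.symm, hwa, one_smul]
    refine ⟨h', hh', ?_, ?_, ?_⟩
    · rw [hag p (by rw [hrp]; exact Submodule.mem_sup_left hpU), hrp]
    · rw [hag v (by rw [hrv]; exact Submodule.mem_sup_left hvU), hrv]
    · rw [hag w (by rw [hrw]; exact Submodule.mem_sup_right (Submodule.mem_span_singleton_self _)),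
        hrw, add_comm w, add_assoc, vadd_self, add_zero]
      intro hm
      obtain ⟨α, rfl⟩ := Submodule.mem_span_singleton.1 hm
      rw [map_smul, D.space.symm, hw, smul_zero] at hwa
      exact zero_ne_one hwa

/-- The commutator pairing. -/
theorem comm {q y : G} {v : ι → ZMod 2} (hq : D.InCQ t q) (hy : D.InPQ t y)
    (hv : D.B (D.cls t) v = 0) (hyv : D.act y = sGL D.qf D.B (D.cls t) v) :
    (D.B (D.cls q) v = 0 → Commute y q) ∧
      (D.B (D.cls q) v = 1 → y * q * y⁻¹ = D.z * t * q) := by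
  set p := D.cls t with hpdef
  by_cases hvn : v ∈ Submodule.span (ZMod 2) {p}
  · obtain ⟨α, rfl⟩ := Submodule.mem_span_singleton.1 hvn
    rw [siegel_zero D.space hp.cls_sing] at hyv
    refine ⟨fun _ => hp.A_commute_cq (hp.inA_of_act hy hyv) hq, fun h => ?_⟩
    rw [map_smul, D.space.symm, (hp.inCQ_iff hq.1).1 hq, smul_zero] at h
    exact absurd h zero_ne_one
  obtain ⟨w, hpw, hw⟩ := hp.zpart_exists hy
  have hwU : w ∈ Submodule.span (ZMod 2) {p} ⊔ Submodule.span (ZMod 2) {v} := by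
    by_contra hwn
    obtain ⟨h, hh, hhp, hhv, hhw⟩ := hp.exists_moving hv hvn hpw hwn
    obtain ⟨c, hcz, hct, rfl⟩ := hp.exists_lift hh hhp
    have hiso := D.act_iso hcz
    obtain ⟨e, he, hey⟩ := hp.same_label hy (hp.pq_conj hcz hct hy) (by
      rw [D.act_mul _ _ (hcz.mul_left hy.2) hcz.inv_left, D.act_mul _ _ hcz hy.2, D.act_inv hcz,
        hyv, sGL_conj D.space hp.cls_sing hv hiso, hhp, hhv])
    refine hhw (mem_of_perp D.space _ fun b hb => ?_)
    have hpb := hb p (Submodule.mem_span_singleton_self p)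
    set b0 := ((D.act c)⁻¹ : GL ι (ZMod 2)).val *ᵥ b with hb0
    have hb1 : (D.act c).val *ᵥ b0 = b := Cfsg.Lib.Linear.Orth.act_inv _ b
    have hpb0 : D.B p b0 = 0 := by
      rw [← D.space.B_act hiso, hhp, hb1]; exact hpb
    obtain ⟨q0, hq0, hq0b⟩ := hp.exists_inCQ hpb0
    have hq1 := hp.cq_conj hcz hct hq0
    have hcls : D.cls (c * q0 * c⁻¹) = b := by rw [D.act_cls c hcz q0 hq0.1, hq0b, hb1]
    have hδ : y * (c * q0 * c⁻¹) * y⁻¹ * (c * q0 * c⁻¹)⁻¹ = y * q0 * y⁻¹ * q0⁻¹ := by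
      have hA := hp.comm_inA hq0 hy
      have hcomm : Commute c (y * q0 * y⁻¹ * q0⁻¹) := by
        rcases hA with e' | e' | e' | e' <;> rw [e']
        exacts [Commute.one_right c, hcz, hct, hcz.mul_right hct]
      have hec : Commute e (y * (c * q0 * c⁻¹) * y⁻¹) :=
        ((hp.A_commute_pq he hy).mul_right (hp.A_commute_cq he hq1)).mul_right
          (hp.A_commute_pq he hy).inv_right
      calc y * (c * q0 * c⁻¹) * y⁻¹ * (c * q0 * c⁻¹)⁻¹
          = e * (y * (c * q0 * c⁻¹) * y⁻¹) * e⁻¹ * (c * q0 * c⁻¹)⁻¹ := by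
            rw [hec.eq, mul_inv_cancel_right]
        _ = e * y * (c * q0 * c⁻¹) * (e * y)⁻¹ * (c * q0 * c⁻¹)⁻¹ := by group
        _ = c * y * c⁻¹ * (c * q0 * c⁻¹) * (c * y * c⁻¹)⁻¹ * (c * q0 * c⁻¹)⁻¹ := by rw [← hey]
        _ = c * (y * q0 * y⁻¹ * q0⁻¹) * c⁻¹ := by group
        _ = _ := by rw [hcomm.eq, mul_inv_cancel_right]
    have h2 : D.B w b = D.B w b0 := by
      have i1 := hw _ hq1
      have i2 := hw _ hq0
      rw [hδ, hcls, ← i2, hq0b] at i1
      rcases bit (D.B w b) with h | h <;> rcases bit (D.B w b0) with h' | h' <;>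
        simp only [h, h'] at i1 ⊢
      · exact absurd (i1.1 trivial) one_ne_zero
      · exact absurd (i1.2 trivial) one_ne_zero
    have h3 : D.B ((D.act c).val *ᵥ w) b = D.B w b0 := by
      rw [← hb1, D.space.B_act hiso]
    rw [map_add, LinearMap.add_apply, h3, h2, bit_self]
  obtain ⟨u1, h1, u2, h2, rfl⟩ := Submodule.mem_sup.1 hwU
  obtain ⟨α, rfl⟩ := Submodule.mem_span_singleton.1 h1
  obtain ⟨β, rfl⟩ := Submodule.mem_span_singleton.1 h2
  have hval : ∀ q', D.InCQ t q' → D.B (α • p + β • v) (D.cls q') = β * D.B v (D.cls q') :=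
    fun q' hq' => by simp [show D.B p (D.cls q') = 0 from (hp.inCQ_iff hq'.1).1 hq']
  rcases bit β with rfl | rfl
  · exfalso
    have hA := hp.not_all_mod_t hy fun q' hq' => (hw q' hq').1 (by rw [hval q' hq', zero_mul])
    have hy1 : D.act y = 1 := D.act_q (hp.inA_mem hA).1
    rw [hyv, ← siegel_zero D.space hp.cls_sing 0] at hy1
    obtain ⟨α', hα'⟩ := siegel_eq D.space hp.cls_sing hp.cls_ne
      (by rw [zero_smul, map_zero]) hv hy1.symm
    exact hvn (by
      rw [hα', zero_smul, zero_add]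
      exact Submodule.smul_mem _ _ (Submodule.mem_span_singleton_self p))
  · have hA := hp.comm_inA hq hy
    have hc := hp.cls_comm_elt hq hy hv hyv
    have hwq := hw q hq
    rw [hval q hq, one_mul, D.space.symm] at hwq
    rw [D.space.symm v] at hc
    have hzt' : D.z * t ≠ t := fun h => D.ctx.ne_one (mul_eq_right.1 h)
    constructor
    · intro h0
      rw [h0, zero_smul] at hc
      rcases hA with e | e | e | e
      · exact commute_of_mul_mul e
      · exfalso
        rcases hwq.1 h0 with e' | e'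
        exacts [D.ctx.ne_one (e.symm.trans e'), hp.ne_z (e'.symm.trans e)]
      · rw [e] at hc; exact absurd hc hp.cls_ne
      · rw [e, hp.cls_zt] at hc; exact absurd hc hp.cls_ne
    · intro h1
      rw [h1, one_smul] at hc
      rcases hA with e | e | e | e
      · rw [e, D.cls_one] at hc; exact absurd hc.symm hp.cls_ne
      · rw [e, D.cls_z] at hc; exact absurd hc.symm hp.cls_ne
      · exact absurd (hwq.2 (Or.inr e)) (by rw [h1]; exact one_ne_zero)
      · exact mul_inv_eq_iff_eq_mul.1 e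

/-- The squares and the third radical. -/
theorem third {y : G} {v : ι → ZMod 2} (hy : D.InPQ t y)
    (hv : D.B (D.cls t) v = 0) (hyv : D.act y = sGL D.qf D.B (D.cls t) v) :
    (D.qf v = 0 → y * y = 1) ∧ (D.qf v = 1 → y * y = t) ∧
      ∃ w, D.InCQ t w ∧ (∃ α : ZMod 2, D.cls w = v + α • D.cls t) ∧
        w * y ∈ D.Qof (D.z * t) ∧ Commute w y := by
  set p := D.cls t with hpdef
  obtain ⟨a, ha, hpa, hat⟩ := hp.exists_mover
  set w0 := y * a * y⁻¹ * a⁻¹ with hw0
  have hw0Q : w0 ∈ D.Q :=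
    mul_mem ((Subgroup.mem_normalizer_iff.1 (D.ctx.norm y hy.2) a).1 ha) (inv_mem ha)
  have hcls : D.cls w0 = v + (D.B v (D.cls a) + D.qf v) • p := by
    rw [hw0, D.cls_mul _ ((Subgroup.mem_normalizer_iff.1 (D.ctx.norm y hy.2) a).1 ha) _ (inv_mem ha),
      D.cls_inv ha, D.act_cls y hy.2 a ha, hyv, sGL_apply D.space hp.cls_sing hv, hpa, one_smul,
      mul_one, add_comm (D.cls a + v + _), ← add_assoc, ← add_assoc, vadd_self, zero_add]
  have hw0c : D.InCQ t w0 := (hp.inCQ_iff hw0Q).2 (by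
    rw [hcls, map_add, hv, map_smul, B_self D.space, smul_zero, add_zero])
  have hwy : Commute y w0 := (hp.comm hw0c hy hv hyv).1 (by
    rw [hcls, map_add, LinearMap.add_apply, B_self D.space, map_smul, LinearMap.smul_apply, hv,
      smul_zero, add_zero])
  have hsq : y * y * a * (y * y)⁻¹ = w0 * w0 * a := by
    calc y * y * a * (y * y)⁻¹ = y * (y * a * y⁻¹) * y⁻¹ := by group
      _ = y * (w0 * a) * y⁻¹ := by rw [show y * a * y⁻¹ = w0 * a by rw [hw0]; group]
      _ = y * w0 * y⁻¹ * (y * a * y⁻¹) := by group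
      _ = w0 * (w0 * a) := by
        rw [mul_inv_eq_iff_eq_mul.2 hwy.eq, show y * a * y⁻¹ = w0 * a by rw [hw0]; group]
      _ = _ := (mul_assoc _ _ _).symm
  have hQw : D.qf (D.cls w0) = D.qf v := by
    rw [hcls, D.space.add, D.space.smul, hp.cls_sing, mul_zero, add_zero, map_smul,
      D.space.symm v p, hv, smul_zero, add_zero]
  refine ⟨fun h => ?_, fun h => ?_, w0⁻¹, ⟨inv_mem hw0Q, hw0c.2.inv_left⟩,
    ⟨D.B v (D.cls a) + D.qf v, by rw [D.cls_inv hw0Q, hcls]⟩, ?_, hwy.symm.inv_left⟩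
  · rcases (D.ctx_Qof hp.cl).sq y hy.1 with e | e
    · exact e
    exfalso
    rw [e, (D.cls_sq w0 hw0Q).2 (hQw.trans h), one_mul] at hsq
    have h' : Commute t a := mul_inv_eq_iff_eq_mul.1 hsq
    rw [show a * t * a⁻¹ = t from mul_inv_eq_iff_eq_mul.2 h'.symm.eq] at hat
    exact D.ctx.ne_one (mul_eq_right.1 hat.symm)
  · rcases (D.ctx_Qof hp.cl).sq y hy.1 with e | e
    · exfalso
      rw [e, one_mul, inv_one, mul_one] at hsq
      have := (D.cls_sq w0 hw0Q).1 (mul_eq_right.1 hsq.symm)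
      rw [hQw, h] at this
      exact one_ne_zero this
    · exact e
  · have h1 := D.Qof_conj hp.cl a hy.1
    rw [hat] at h1
    have e : a * y * a⁻¹ = w0⁻¹ * y := by rw [hw0]; group
    rwa [← e]

end Data.Point

end Cfsg.Lib.Extra.Wide
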