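import Cfsg.Agent.Lib.Extra.Wide.Bound
import Mathlib.GroupTheory.Nilpotent
import Mathlib.GroupTheory.Sylow

/-!
# Frames of different kinds are not conjugate

The Sylow 2-subgroup of the centralizer of a frame in `C(z)` is a Sylow 2-subgroup of the whole
centralizer, and `z` is the only conjugate of `z` centralizing it.
-/

set_option autoImplicit false
set_option linter.style.haveILetI false

namespace Cfsg.Lib.Extra.Wide

open Cfsg Module Cfsg.Lib.Linear.Orth
open scoped Matrix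

variable {G : Type*} [Group G] {ι : Type} [Fintype ι] [DecidableEq ι] {D : Data G ι}

theorem coef_solve : ∀ i j k l : ZMod 2, i + k + j = 0 → l + k + j = 0 → j + k + l = 0 →
    l + i = 0 → j = k + i ∧ l = i := by
  intro i j k l
  rcases bit i with rfl | rfl <;> rcases bit j with rfl | rfl <;> rcases bit k with rfl | rfl <;>
    rcases bit l with rfl | rfl <;> decide

namespace Data.Frame

variable [Finite G] {x t : G} {v u : ι → ZMod 2} (F : D.Frame x t v u)
include F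

/-- The part of the cross radical centralizing the frame. -/
def InKR (_F : D.Frame x t v u) (c : G) : Prop :=
  Commute c D.z ∧ Commute c t ∧ Commute c x ∧
    ∃ b, D.B (D.cls t) b = 0 ∧ D.act c = sGL D.qf D.B (D.cls t) b

theorem coef_zero {i j k : ZMod 2} (h : i • D.cls t + j • v + k • u = 0) : j = 0 ∧ k = 0 := by
  obtain ⟨e2, he2p, he2u, he2v⟩ := F.exists_dual 0 1
  obtain ⟨e3, he3p, he3u, he3v⟩ := F.exists_dual 1 0
  have h2 := congrArg (fun w => D.B w e2) h
  have h3 := congrArg (fun w => D.B w e3) h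
  simp [he2p, he2u, he2v, he3p, he3u, he3v] at h2 h3
  exact ⟨h2, h3⟩

/-- A conjugate of `z` centralizing the radical part and a swapping element is `z`. -/
theorem center_unique {w n : G} (hw : D.Cl w) (hwz : Commute w D.z)
    (hK : ∀ c, F.InKR c → Commute w c) (hnz : Commute n D.z) (hnt : n * t * n⁻¹ = D.z * t)
    (hwn : Commute w n) : w = D.z := by
  have hp := F.pt
  set p := D.cls t with hpdef
  have hwt : Commute w t := hK t ⟨hp.comm_zt.symm, Commute.refl t, F.comm_t.symm, 0, map_zero _, by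
    rw [D.act_q hp.mem, ← siegel_zero D.space hp.cls_sing 0, zero_smul]⟩
  obtain ⟨q, y, hxe, hq, hqu, hy, hyv⟩ := F.dec
  have hradical : ∀ b, D.B p b = 0 → ∀ a, D.B p a = 0 → D.B u a = D.B v b →
      D.B v a = D.B v b + D.B u b →
      ∃ q' y', D.InCQ t q' ∧ D.cls q' = a ∧ D.InPQ t y' ∧
        D.act y' = sGL D.qf D.B p b ∧ F.InKR (q' * y') := by
    intro b hb a ha h1 h2
    obtain ⟨q', hq', hqa⟩ := hp.exists_inCQ ha
    obtain ⟨y', hy', hyb⟩ := hp.exists_label hb
    refine ⟨q', y', hq', hqa, hy', hyb, (D.ctx.central q' hq'.1).symm.mul_left hy'.2,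
      hq'.2.mul_left (hp.pq_commute_t hy'), ?_, b, hb,
      by rw [D.act_mul _ _ (D.ctx.central q' hq'.1).symm hy'.2, D.act_q hq'.1, one_mul, hyb]⟩
    have h := hp.swap_mul hq' hy' hq hy hb F.vperp hyb hyv
    rw [hqa, hqu, D.space.symm a u, D.space.symm a v, D.space.symm b v, h1, h2] at h
    rw [show D.B v b + (D.B u b + (D.B v b + D.B u b)) = 0 by
      linear_combination bit_self (D.B v b) + bit_self (D.B u b)] at h
    rw [hxe, show Commute (q' * y') (q * y) ↔ q' * y' * (q * y) = q * y * (q' * y') from Iff.rfl, h]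
    simp [Data.zt]
  -- the action is in the radical
  have hwiso := D.act_iso hwz
  have hwp : (D.act w).val *ᵥ p = p := hp.act_fix hwz hwt
  obtain ⟨b0, hb0, hwb0⟩ : ∃ b0, D.B p b0 = 0 ∧ D.act w = sGL D.qf D.B p b0 := by
    refine exists_siegel D.space hwiso hp.cls_sing hp.cls_ne hwp fun b hb => ?_
    obtain ⟨a, hap, hau, hav⟩ := F.exists_dual (D.B v b) (D.B v b + D.B u b)
    obtain ⟨q2, y2, hq2, -, hy2, hy2b, hKR2⟩ := hradical b hb a hap hau hav
    have hcomm2 := hK _ hKR2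
    have e : D.act (q2 * y2) = sGL D.qf D.B p b := by
      rw [D.act_mul _ _ (D.ctx.central q2 hq2.1).symm hy2.2, D.act_q hq2.1, one_mul, hy2b]
    have h1 : D.act w * D.act (q2 * y2) * (D.act w)⁻¹ = D.act (q2 * y2) := by
      rw [← D.act_inv hwz, ← D.act_mul _ _ hwz hKR2.1,
        ← D.act_mul _ _ (hwz.mul_left hKR2.1) hwz.inv_left, hcomm2.eq, mul_inv_cancel_right]
    rw [e, sGL_conj D.space hp.cls_sing hb hwiso, hwp] at h1
    have hpb : D.B p ((D.act w).val *ᵥ b) = 0 := by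
      nth_rewrite 1 [← hwp]
      rw [D.space.B_act hwiso]; exact hb
    obtain ⟨α, hα⟩ := siegel_eq D.space hp.cls_sing hp.cls_ne hpb hb h1
    exact ⟨α, by nth_rewrite 2 [hα]; rw [add_assoc, vadd_self, add_zero]⟩
  obtain ⟨q0, y0, rfl, hq0, hy0, hy0b⟩ := hp.decompose hwz hwt hb0 hwb0
  set a0 := D.cls q0 with ha0
  have ha0p : D.B p a0 = 0 := (hp.inCQ_iff hq0.1).1 hq0
  have heq : ∀ b, D.B p b = 0 → ∀ a, D.B p a = 0 → D.B u a = D.B v b →
      D.B v a = D.B v b + D.B u b →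
      D.B a0 a + (D.B a b0 + D.B a0 b) = 0 ∧ D.B b0 b + (D.B a b0 + D.B a0 b) = 0 := by
    intro b hb a ha h1 h2
    obtain ⟨q', y', hq', hqa, hy', hyb, hKR⟩ := hradical b hb a ha h1 h2
    have h := hp.swap_mul hq0 hy0 hq' hy' hb0 hb hy0b hyb
    rw [(hK _ hKR).eq, hqa] at h
    exact hp.zt_eq_one (mul_eq_right.1 h.symm)
  have hspan : ∀ z0, (∀ a, D.B p a = 0 → D.B u a = 0 → D.B v a = 0 → D.B z0 a = 0) →
      ∃ i j k : ZMod 2, z0 = i • p + j • v + k • u := by
    intro z0 hz0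
    have hm : z0 ∈ Submodule.span (ZMod 2) {p} ⊔ Submodule.span (ZMod 2) {v} ⊔
        Submodule.span (ZMod 2) {u} := mem_of_perp D.space _ fun s hs => hz0 s
      (hs p (Submodule.mem_sup_left (Submodule.mem_sup_left (Submodule.mem_span_singleton_self p))))
      (hs u (Submodule.mem_sup_right (Submodule.mem_span_singleton_self u)))
      (hs v (Submodule.mem_sup_left (Submodule.mem_sup_right (Submodule.mem_span_singleton_self v))))
    obtain ⟨w', hw', c', hc', hsum⟩ := Submodule.mem_sup.1 hm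
    obtain ⟨a', ha', b', hb', rfl⟩ := Submodule.mem_sup.1 hw'
    obtain ⟨α, rfl⟩ := Submodule.mem_span_singleton.1 ha'
    obtain ⟨β, rfl⟩ := Submodule.mem_span_singleton.1 hb'
    obtain ⟨γ, rfl⟩ := Submodule.mem_span_singleton.1 hc'
    exact ⟨α, β, γ, hsum.symm⟩
  obtain ⟨α, i, j, ha0e⟩ := hspan a0 fun a ha hau hav => by
    obtain ⟨h1, h2⟩ := heq 0 (map_zero _) a ha (by rw [hau, map_zero])
      (by rw [hav, map_zero, map_zero, add_zero])
    simp only [map_zero, add_zero, zero_add] at h1 h2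
    rwa [h2, add_zero] at h1
  obtain ⟨α', k, l, hb0e⟩ := hspan b0 fun a ha hau hav => by
    obtain ⟨h1, h2⟩ := heq 0 (map_zero _) a ha (by rw [hau, map_zero])
      (by rw [hav, map_zero, map_zero, add_zero])
    simp only [map_zero, add_zero, zero_add] at h2
    rwa [D.space.symm]
  obtain ⟨b1, hb1p, hb1u, hb1v⟩ := F.exists_dual 1 0
  obtain ⟨a1, ha1p, ha1u, ha1v⟩ := F.exists_dual 0 1
  obtain ⟨a2, ha2p, ha2u, ha2v⟩ := F.exists_dual 1 1
  obtain ⟨h11, h12⟩ := heq b1 hb1p a1 ha1p (by rw [ha1u, hb1v]) (by rw [ha1v, hb1v, hb1u, zero_add])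
  obtain ⟨h21, h22⟩ := heq a1 ha1p a2 ha2p (by rw [ha2u, ha1v]) (by rw [ha2v, ha1v, ha1u, add_zero])
  rw [D.space.symm _ b0, ha0e, hb0e] at h11 h12 h21 h22
  simp only [map_add, map_smul, LinearMap.add_apply, LinearMap.smul_apply, smul_eq_mul,
    show D.B p a1 = 0 from ha1p, show D.B p a2 = 0 from ha2p, show D.B p b1 = 0 from hb1p,
    ha1u, ha1v, ha2u, ha2v, hb1u, hb1v, mul_zero, mul_one, add_zero, zero_add] at h11 h12 h21 h22
  obtain ⟨rfl, hl⟩ := coef_solve i j k l (by linear_combination h11) (by linear_combination h12)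
    (by linear_combination h21 - bit_self i) (by linear_combination h22 - bit_self k)
  subst l
  by_cases h00 : i = 0 ∧ k = 0
  · obtain ⟨rfl, rfl⟩ := h00
    simp only [zero_smul, add_zero] at ha0e hb0e
    have hy0A : D.InA t y0 := hp.inA_of_act hy0 (by rw [hy0b, hb0e, siegel_zero D.space hp.cls_sing])
    have hq0A : D.InA t q0 := hp.inA_of_cls hq0.1 ha0e
    obtain ⟨i1, j1, rfl⟩ := hp.inA_zt hq0A
    obtain ⟨i2, j2, rfl⟩ := hp.inA_zt hy0A
    rw [hp.zt_add] at hw hwn ⊢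
    generalize i1 + i2 = I at hw hwn ⊢
    generalize j1 + j2 = J at hw hwn ⊢
    rcases bit J with rfl | rfl
    · rcases bit I with rfl | rfl
      · exact absurd (by simp [Data.zt]) (hw.ne_one D)
      · simp [Data.zt]
    · exfalso
      have hfix : n * t * n⁻¹ = t := by
        rcases bit I with rfl | rfl <;> simp only [Data.zt, pick_zero, pick_one, one_mul] at hwn
        · rw [← hwn.eq, mul_inv_cancel_right]
        · have h1 : Commute (D.z * (D.z * t)) n := hnz.symm.mul_left hwn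
          rw [← mul_assoc, D.ctx.sq_z, one_mul] at h1
          rw [← h1.eq, mul_inv_cancel_right]
      exact D.ctx.ne_one (mul_eq_right.1 (hnt.symm.trans hfix))
  · exfalso
    have hsq : q0 * y0 * (q0 * y0) = 1 := hw.sq D
    obtain ⟨hs1, hs2⟩ := (hp.sq_iff hq0 hy0 hb0 hy0b).1 hsq
    have hvind : b0 ∉ Submodule.span (ZMod 2) {p} := fun hm => by
      obtain ⟨β, hβ⟩ := Submodule.mem_span_singleton.1 hm
      obtain ⟨h2, h3⟩ := F.coef_zero (i := α' + β) (j := k) (k := i) (by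
        rw [add_smul, add_right_comm (α' • p) (β • p), add_right_comm (α' • p + k • v), ← hb0e,
          hβ, vadd_self])
      exact h00 ⟨h3, h2⟩
    have huind : a0 ∉ Submodule.span (ZMod 2) {p} ⊔ Submodule.span (ZMod 2) {b0} := fun hm => by
      obtain ⟨w1, hw1, w2, hw2, hsum⟩ := Submodule.mem_sup.1 hm
      obtain ⟨β, rfl⟩ := Submodule.mem_span_singleton.1 hw1
      obtain ⟨γ, rfl⟩ := Submodule.mem_span_singleton.1 hw2
      obtain ⟨h2, h3⟩ := F.coef_zero (i := α + β + γ * α') (j := i + γ * k) (k := k + i + γ * i) (by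
        calc (α + β + γ * α') • p + (i + γ * k) • v + (k + i + γ * i) • u
            = (α • p + i • v + (k + i) • u) + (β • p + γ • (α' • p + k • v + i • u)) := by module
          _ = 0 := by rw [← hb0e, hsum, ← ha0e, vadd_self])
      rcases bit i with e | e <;> rcases bit k with e' | e' <;> rcases bit γ with e'' | e'' <;>
        rw [e, e'] at h00 <;> rw [e, e', e''] at h2 h3 <;>
        first | exact h00 ⟨rfl, rfl⟩ | exact absurd h2 (by decide) | exact absurd h3 (by decide)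
    exact Data.Frame.not_cl (D := D) (t := t) (v := b0) (u := a0)
      ⟨hp, hb0, ha0p, hvind, huind, hs1.trans hs2.symm, hs2.symm, q0, y0, rfl, hq0, rfl, hy0, hy0b⟩ hw

/-- A Sylow subgroup of the centralizer of a frame inside `C(z)`. -/
theorem exists_sylow (hU : D.qf v ≠ 0 ∨ 8 ≤ Fintype.card ι) :
    ∃ S : Subgroup G, IsPGroup 2 S ∧ S ≤ Subgroup.centralizer ({x} : Set G) ∧
      S ≤ Subgroup.centralizer ({D.z} : Set G) ∧ D.z ∈ S ∧
      (∀ w, D.Cl w → (∀ s ∈ S, Commute w s) → w = D.z) ∧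
      ∀ P : Subgroup G, IsPGroup 2 P → S ≤ P → P ≤ Subgroup.centralizer ({x} : Set G) → P = S := by
  classical
  haveI : Fact (Nat.Prime 2) := ⟨Nat.prime_two⟩
  have hp := F.pt
  have hmc : ∀ {a b : G}, a ∈ Subgroup.centralizer ({b} : Set G) ↔ Commute a b := fun {a b} =>
    Subgroup.mem_centralizer_singleton_iff
  let N2 : Subgroup G :=
    { carrier := {c | F.InKR c}
      one_mem' := ⟨Commute.one_left _, Commute.one_left _, Commute.one_left _, 0, map_zero _, by
        rw [D.act_one, ← siegel_zero D.space hp.cls_sing 0, zero_smul]⟩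
      mul_mem' := by
        rintro c d ⟨h1, h2, h3, b, hb, hcb⟩ ⟨k1, k2, k3, b', hb', hdb⟩
        exact ⟨h1.mul_left k1, h2.mul_left k2, h3.mul_left k3, b + b', by rw [map_add, hb, hb', add_zero],
          by rw [D.act_mul _ _ h1 k1, hcb, hdb, sGL_mul D.space hp.cls_sing hb hb']⟩
      inv_mem' := by
        rintro c ⟨h1, h2, h3, b, hb, hcb⟩
        refine ⟨h1.inv_left, h2.inv_left, h3.inv_left, b, hb, ?_⟩
        rw [D.act_inv h1, hcb]
        refine inv_eq_of_mul_eq_one_right ?_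
        rw [sGL_mul D.space hp.cls_sing hb hb, vadd_self, ← siegel_zero D.space hp.cls_sing 0,
          zero_smul] }
  have hN2 : IsPGroup 2 N2 := fun ⟨c, hc⟩ => by
    obtain ⟨h1, -, -, b, hb, hcb⟩ := hc
    have hc2 : c * c ∈ D.Q := (D.act_ker _ (h1.mul_left h1)).1 (by
      rw [D.act_mul _ _ h1 h1, hcb, sGL_mul D.space hp.cls_sing hb hb, vadd_self,
        ← siegel_zero D.space hp.cls_sing 0, zero_smul])
    obtain ⟨k, hk⟩ := D.ctx.two ⟨c * c, hc2⟩
    refine ⟨k + 1, Subtype.ext ?_⟩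
    have hk' : (c * c) ^ 2 ^ k = 1 := congrArg Subtype.val hk
    show c ^ 2 ^ (k + 1) = 1
    rw [pow_succ', pow_mul, pow_two, hk']
  obtain ⟨n, hnz, hnx, hnt⟩ := F.exists_swap hU F.not_cl
  obtain ⟨a2, m, hm, hord⟩ : ∃ a2 m, Odd m ∧ orderOf n = 2 ^ a2 * m := by
    obtain ⟨a, m, hm, e⟩ := Nat.exists_eq_pow_mul_and_not_dvd (orderOf_pos n).ne' 2 (by norm_num)
    exact ⟨a, m, Nat.not_even_iff_odd.1 fun he => hm (even_iff_two_dvd.1 he), e⟩
  have hn2t : Commute (n * n) t := by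
    refine mul_inv_eq_iff_eq_mul.1 ?_
    calc n * n * t * (n * n)⁻¹ = n * (n * t * n⁻¹) * n⁻¹ := by group
      _ = n * D.z * n⁻¹ * (n * t * n⁻¹) := by
        conv_lhs => rw [hnt]
        group
      _ = t := by rw [hnt, mul_inv_eq_iff_eq_mul.2 hnz.eq, ← mul_assoc, D.ctx.sq_z, one_mul]
  set n' := n ^ m with hn'
  have hn'z : Commute n' D.z := hnz.pow_left m
  have hn'x : Commute n' x := hnx.pow_left m
  have hn't : n' * t * n'⁻¹ = D.z * t := by
    obtain ⟨l, rfl⟩ := hm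
    rw [hn', pow_succ', pow_mul, pow_two,
      show n * (n * n) ^ l * t * (n * (n * n) ^ l)⁻¹ = n * ((n * n) ^ l * t * ((n * n) ^ l)⁻¹) * n⁻¹ by
        group,
      (hn2t.pow_left l).eq, mul_inv_cancel_right, hnt]
  have hn'2 : IsPGroup 2 (Subgroup.zpowers n') := by
    have hpow : n' ^ 2 ^ a2 = 1 := by
      rw [hn', ← pow_mul, mul_comm, ← hord, pow_orderOf_eq_one]
    rintro ⟨g, hg⟩
    obtain ⟨i, rfl⟩ := Subgroup.mem_zpowers_iff.1 hg
    refine ⟨a2, Subtype.ext ?_⟩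
    show (n' ^ i) ^ 2 ^ a2 = 1
    rw [← zpow_natCast, ← zpow_mul, mul_comm, zpow_mul, zpow_natCast, hpow, one_zpow]
  have hn'N : n' ∈ Subgroup.normalizer (N2 : Set G) := by
    refine Subgroup.mem_normalizer_fintype ?_
    rintro c ⟨h1, h2, h3, b, hb, hcb⟩
    have hiso := D.act_iso hn'z
    have e : (D.act n').val *ᵥ D.cls t = D.cls t := by
      rw [← D.act_cls n' hn'z t hp.mem, hn't, hp.cls_zt]
    have hcz' : Commute (n' * c * n'⁻¹) D.z := (hn'z.mul_left h1).mul_left hn'z.inv_left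
    refine ⟨hcz', ?_, (hn'x.mul_left h3).mul_left hn'x.inv_left, (D.act n').val *ᵥ b, ?_, ?_⟩
    · have h := (Commute.conj_iff n').2 h2
      rw [hn't] at h
      have h' := hcz'.mul_right h
      rwa [← mul_assoc, D.ctx.sq_z, one_mul] at h'
    · nth_rewrite 1 [← e]
      rw [D.space.B_act hiso, hb]
    · rw [D.act_mul _ _ (hn'z.mul_left h1) hn'z.inv_left, D.act_mul _ _ hn'z h1, D.act_inv hn'z,
        hcb, sGL_conj D.space hp.cls_sing hb hiso, e]
  set T := Subgroup.centralizer ({x} : Set G) ⊓ Subgroup.centralizer ({D.z} : Set G) with hT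
  set P0 := N2 ⊔ Subgroup.zpowers n' with hP0
  have hP0T : P0 ≤ T := sup_le (fun c hc => ⟨hmc.2 hc.2.2.1, hmc.2 hc.1⟩)
    ((Subgroup.zpowers_le (g := n')).2 ⟨hmc.2 hn'x, hmc.2 hn'z⟩)
  have hP02 : IsPGroup 2 P0 := by
    rw [hP0, sup_comm]
    exact hn'2.to_sup_of_normal_right' hN2 ((Subgroup.zpowers_le (g := n')).2 hn'N)
  obtain ⟨S0, hS0⟩ := (hP02.of_equiv (Subgroup.subgroupOfEquivOfLe hP0T).symm).exists_le_sylow
  set S := (S0 : Subgroup T).map T.subtype with hS
  have hST : S ≤ T := Subgroup.map_subtype_le _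
  have hP0S : P0 ≤ S := fun c hc =>
    ⟨⟨c, hP0T hc⟩, hS0 (show (⟨c, hP0T hc⟩ : T) ∈ P0.subgroupOf T from hc), rfl⟩
  have hzN : D.z ∈ N2 := by
    refine ⟨Commute.refl _, hp.comm_zt, F.comm_z.symm, 0, map_zero _, ?_⟩
    rw [D.act_q D.ctx.mem, ← siegel_zero D.space hp.cls_sing 0, zero_smul]
  have hzS : D.z ∈ S := hP0S (Subgroup.mem_sup_left hzN)
  have hu : ∀ w, D.Cl w → (∀ s ∈ S, Commute w s) → w = D.z := fun w hw hc =>
    F.center_unique hw (hc _ hzS) (fun c hcK => hc c (hP0S (Subgroup.mem_sup_left (show c ∈ N2 from hcK))))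
      hn'z hn't (hc _ (hP0S (Subgroup.mem_sup_right (Subgroup.mem_zpowers n'))))
  refine ⟨S, S0.2.map _, hST.trans inf_le_left, hST.trans inf_le_right, hzS, hu, fun P hP hle hPx => ?_⟩
  by_contra hne
  haveI := hP.isNilpotent
  have hlt : S.subgroupOf P < ⊤ := lt_top_iff_ne_top.2 fun h => hne
    (le_antisymm (Subgroup.subgroupOf_eq_top.1 h) hle)
  obtain ⟨g, hg, hgn⟩ := SetLike.exists_of_lt (Group.normalizerCondition_of_isNilpotent _ hlt)
  have hgn' : (g : G) ∉ S := hgn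
  have hgs : ∀ s ∈ S, (g : G)⁻¹ * s * g ∈ S := fun s hs => by
    have h := (Subgroup.mem_normalizer_iff''.1 hg (⟨s, hle hs⟩ : P)).1 (show (⟨s, hle hs⟩ : P) ∈ S.subgroupOf P from hs)
    exact h
  have hw : (g : G) * D.z * (g : G)⁻¹ = D.z := hu _ (D.cl_z.conj D g) fun s hs => by
    have h := (Commute.conj_iff (g : G)).2 (hmc.1 ((hST (hgs s hs)).2)).symm
    rwa [show (g : G) * ((g : G)⁻¹ * s * g) * (g : G)⁻¹ = s by group] at h
  have hgT : (g : G) ∈ T := ⟨hPx g.2, hmc.2 (mul_inv_eq_iff_eq_mul.1 hw)⟩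
  have hPT : (P.subgroupOf T) = S0 := by
    refine S0.3 ?_ fun s hs => hle ⟨s, hs, rfl⟩
    exact IsPGroup.comap_of_injective hP T.subtype T.subtype_injective
  exact hgn' ⟨⟨g, hgT⟩, hPT ▸ (show (⟨(g : G), hgT⟩ : T) ∈ P.subgroupOf T from g.2), rfl⟩

/-- The norm of the second class is an invariant of the action. -/
theorem qv_iff : D.qf v = 1 ↔ ∃ y, D.qf (nMap (D.act x) y) = 1 := by
  have h : ∀ y, D.qf (nMap (D.act x) y) = D.B (D.cls t) y * D.qf v := fun y => by
    rw [F.nMap_act, D.space.add, D.space.smul, D.space.smul, F.pt.cls_sing]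
    simp [D.space.symm v (D.cls t), F.vperp]
  constructor
  · intro hv
    obtain ⟨e, hpe, -, -⟩ := F.exists_first
    exact ⟨e, by rw [h, hpe, hv, one_mul]⟩
  · rintro ⟨y, hy⟩
    rw [h] at hy
    rcases bit (D.qf v) with e | e
    · rw [e, mul_zero] at hy; exact absurd hy zero_ne_one
    · exact e

/-- Frames of different kinds are not conjugate. -/
theorem not_conj {x' t' : G} {v' u' : ι → ZMod 2} (F' : D.Frame x' t' v' u')
    (h8 : 8 ≤ Fintype.card ι) (hne : D.qf v ≠ D.qf v') : ¬ IsConj x x' := by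
  haveI : Fact (Nat.Prime 2) := ⟨Nat.prime_two⟩
  intro hc
  obtain ⟨k, hk⟩ := isConj_iff.1 hc
  obtain ⟨S, hS2, hSx, hSz, hzS, -, hSmax⟩ := F.exists_sylow (Or.inr h8)
  obtain ⟨S', hS'2, hS'x, hS'z, hzS', huniq, hS'max⟩ := F'.exists_sylow (Or.inr h8)
  set C' := Subgroup.centralizer ({x'} : Set G)
  set Sk := S.map (MulAut.conj k).toMonoidHom with hSk
  have hSkx : Sk ≤ C' := by
    rintro _ ⟨s, hs, rfl⟩
    refine Subgroup.mem_centralizer_singleton_iff.2 ?_
    rw [← hk]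
    exact ((Commute.conj_iff k).2 (Subgroup.mem_centralizer_singleton_iff.1 (hSx hs))).eq
  let A : Sylow 2 C' :=
    { toSubgroup := Sk.subgroupOf C'
      isPGroup' := (hS2.map _).of_equiv (Subgroup.subgroupOfEquivOfLe hSkx).symm
      is_maximal' := fun {P} hP hle => by
        have h1 : S ≤ (P.map C'.subtype).map (MulAut.conj k⁻¹).toMonoidHom := fun s hs => by
          refine ⟨k * s * k⁻¹, ⟨⟨k * s * k⁻¹, hSkx ⟨s, hs, rfl⟩⟩, hle ⟨s, hs, rfl⟩, rfl⟩, ?_⟩
          show k⁻¹ * (k * s * k⁻¹) * k⁻¹⁻¹ = s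
          group
        have e := hSmax _ ((hP.map _).map _) h1 (by
          rintro _ ⟨_, ⟨⟨a, ha⟩, -, rfl⟩, rfl⟩
          refine Subgroup.mem_centralizer_singleton_iff.2 ?_
          show k⁻¹ * a * k⁻¹⁻¹ * x = x * (k⁻¹ * a * k⁻¹⁻¹)
          have h2 : a * x' = x' * a := Subgroup.mem_centralizer_singleton_iff.1 ha
          rw [← hk] at h2
          calc k⁻¹ * a * k⁻¹⁻¹ * x = k⁻¹ * (a * (k * x * k⁻¹)) * k := by group
            _ = k⁻¹ * (k * x * k⁻¹ * a) * k := by rw [h2]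
            _ = _ := by group)
        refine le_antisymm (fun w hw => ?_) hle
        have hm : k⁻¹ * (w : G) * k⁻¹⁻¹ ∈ S := e ▸ ⟨(w : G), ⟨w, hw, rfl⟩, rfl⟩
        exact ⟨_, hm, show k * (k⁻¹ * (w : G) * k⁻¹⁻¹) * k⁻¹ = (w : G) by group⟩ }
  let B : Sylow 2 C' :=
    { toSubgroup := S'.subgroupOf C'
      isPGroup' := hS'2.of_equiv (Subgroup.subgroupOfEquivOfLe hS'x).symm
      is_maximal' := fun {P} hP hle => by
        have h1 : S' ≤ P.map C'.subtype := fun s hs => ⟨⟨s, hS'x hs⟩, hle hs, rfl⟩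
        have e := hS'max _ (hP.map _) h1 (Subgroup.map_subtype_le _)
        refine le_antisymm (fun w hw => ?_) hle
        show (w : G) ∈ S'
        exact e ▸ ⟨w, hw, rfl⟩ }
  obtain ⟨m, hm⟩ := MulAction.exists_smul_eq C' A B
  set r := (m : G) * k with hr
  have hw : r * D.z * r⁻¹ = D.z := huniq _ (D.cl_z.conj D r) fun s hs => by
    have h1 : (⟨s, hS'x hs⟩ : C') ∈ ((m • A : Sylow 2 C') : Subgroup C') := by rw [hm]; exact hs
    rw [Sylow.coe_subgroup_smul] at h1
    obtain ⟨a, ⟨s0, hs0, ha⟩, ha'⟩ := h1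
    have e : (m : G) * (k * s0 * k⁻¹) * (m : G)⁻¹ = s := by
      have e1 : (m : G) * (a : G) * (m : G)⁻¹ = s := congrArg Subtype.val ha'
      rw [← e1, ← show k * s0 * k⁻¹ = (a : G) from ha]
    rw [← e, show (m : G) * (k * s0 * k⁻¹) * (m : G)⁻¹ = r * s0 * r⁻¹ by rw [hr]; group]
    exact (Commute.conj_iff r).2 (Subgroup.mem_centralizer_singleton_iff.1 (hSz hs0)).symm
  have hrz : Commute r D.z := mul_inv_eq_iff_eq_mul.1 hw
  have hrx : r * x * r⁻¹ = x' := by
    rw [show r * x * r⁻¹ = (m : G) * (k * x * k⁻¹) * (m : G)⁻¹ by rw [hr]; group, hk,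
      Subgroup.mem_centralizer_singleton_iff.1 m.2, mul_inv_cancel_right]
  have hiso := D.act_iso hrz
  have hN : ∀ y, nMap (D.act x') ((D.act r).val *ᵥ y) = (D.act r).val *ᵥ nMap (D.act x) y := fun y => by
    rw [← hrx, nMap_apply, nMap_apply, D.act_mul _ _ (hrz.mul_left F.comm_z) hrz.inv_left,
      D.act_mul _ _ hrz F.comm_z, D.act_inv hrz, mul_act, mul_act, inv_act, Matrix.mulVec_add]
  have hiff : D.qf v = 1 ↔ D.qf v' = 1 := by
    rw [F.qv_iff, F'.qv_iff]
    constructor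
    · rintro ⟨y, hy⟩
      exact ⟨(D.act r).val *ᵥ y, by rw [hN, mem_iso.1 hiso]; exact hy⟩
    · rintro ⟨y, hy⟩
      refine ⟨((D.act r)⁻¹ : GL ι (ZMod 2)).val *ᵥ y, ?_⟩
      rw [← mem_iso.1 hiso, ← hN, Cfsg.Lib.Linear.Orth.act_inv]
      exact hy
  rcases bit (D.qf v) with e | e <;> rcases bit (D.qf v') with e' | e' <;> rw [e, e'] at hne hiff
  · exact hne rfl
  · exact zero_ne_one (hiff.2 rfl)
  · exact zero_ne_one (hiff.1 rfl)
  · exact hne rfl

end Data.Frame

end Cfsg.Lib.Extra.Wide
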