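import Cfsg.Agent.Lib.Extra.Wide.FiveMain

/-!
# The hypotheses on the element of order five from its fixed points in the extraspecial subgroup
-/

set_option autoImplicit false
set_option linter.style.haveILetI false

namespace Cfsg.Lib.Extra.Wide

open Cfsg Module Cfsg.Lib.Linear Cfsg.Lib.Linear.Orth
open scoped Matrix

variable {G : Type*} [Group G] {ι : Type} [Fintype ι] [DecidableEq ι] (D : Data G ι)

theorem Data.pick_mem (i : ZMod 2) : pick D.z i ∈ D.Q ∧ D.cls (pick D.z i) = 0 := by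
  rcases bit i with rfl | rfl <;> simp [one_mem, D.ctx.mem, D.cls_one, D.cls_z]

/-- Thirty-two fixed points without elementary abelian subgroups of order eight give the
hypotheses. -/
theorem Data.fiver_of_fixed [Finite G] {b : G} (h8 : Fintype.card ι = 8) (hb : orderOf b = 5)
    (hbz : Commute b D.z) (h32 : Nat.card {q : G // q ∈ D.Q ∧ Commute b q} = 32)
    (hel : ∀ A : Subgroup G, (∀ a ∈ A, a ∈ D.Q ∧ Commute b a ∧ a * a = 1) →
      (∀ a ∈ A, ∀ c ∈ A, Commute a c) → Nat.card A ≤ 4) : D.Fiver b := by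
  classical
  have hb5 : b ^ 5 = 1 := hb ▸ pow_orderOf_eq_one b
  have hlift : ∀ w : fixSpace (D.act b), ∃ q ∈ D.Q, Commute b q ∧ D.cls q = w := fun w => by
    obtain ⟨q, hq, e⟩ := D.cls_surj w
    exact ⟨q, hq, D.commute_of_fix hb5 hbz hq (by rw [e]; exact mem_fix.1 w.2), e⟩
  choose q hq hqb hqw using hlift
  have hpb : ∀ i : ZMod 2, Commute b (pick D.z i) := fun i => (pick_comm hbz.symm i).symm
  let F : fixSpace (D.act b) × ZMod 2 → {q : G // q ∈ D.Q ∧ Commute b q} := fun p =>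
    ⟨pick D.z p.2 * q p.1, mul_mem (D.pick_mem p.2).1 (hq p.1), (hpb p.2).mul_right (hqb p.1)⟩
  have hF : Function.Bijective F := by
    constructor
    · rintro ⟨w, i⟩ ⟨w', j⟩ e
      have e1 : pick D.z i * q w = pick D.z j * q w' := congrArg Subtype.val e
      have e2 := congrArg D.cls e1
      rw [D.cls_mul _ (D.pick_mem i).1 _ (hq w), D.cls_mul _ (D.pick_mem j).1 _ (hq w'),
        (D.pick_mem i).2, (D.pick_mem j).2, hqw, hqw] at e2
      obtain rfl : w = w' := Subtype.ext (by simpa using e2)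
      have e3 := mul_right_cancel e1
      rcases bit i with rfl | rfl <;> rcases bit j with rfl | rfl <;> simp at e3 ⊢
      exacts [D.ctx.ne_one e3.symm, D.ctx.ne_one e3]
    · rintro ⟨x, hx, hxb⟩
      set w : fixSpace (D.act b) := ⟨D.cls x, mem_fix.2 (D.fix_of_commute hbz hx hxb)⟩
      rcases D.cls_eq (hq w) hx (hqw w) with e | e
      · exact ⟨(w, 0), Subtype.ext (by simpa [F] using e.symm)⟩
      · exact ⟨(w, 1), Subtype.ext (by simpa [F] using e.symm)⟩
  have hfix : finrank (ZMod 2) (fixSpace (D.act b)) = 4 := by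
    have := Nat.card_eq_of_bijective F hF
    rw [Nat.card_prod, h32, Module.natCard_eq_pow_finrank (K := ZMod 2), Nat.card_zmod, ← pow_succ,
      show 32 = 2 ^ 5 from rfl] at this
    have := Nat.pow_right_injective (le_refl 2) this
    omega
  refine ⟨h8, hb, hbz, hfix, fun u hu w hw hu0 hw0 hQu hQw hB => ?_⟩
  by_contra hne
  set S := Submodule.span (ZMod 2) {u, w} with hS
  have hSW : S ≤ fixSpace (D.act b) := Submodule.span_le.2 (Set.insert_subset hu (Set.singleton_subset_iff.2 hw))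
  have hSB : ∀ x ∈ S, ∀ y ∈ S, D.B x y = 0 ∧ D.qf x = 0 := by
    intro x hx y hy
    obtain ⟨a, c, rfl⟩ := Submodule.mem_span_pair.1 hx
    obtain ⟨a', c', rfl⟩ := Submodule.mem_span_pair.1 hy
    refine ⟨?_, ?_⟩
    · simp [B_self D.space, hB, D.space.symm w u]
    · rw [D.space.add, D.space.smul, D.space.smul, map_smul, map_smul, LinearMap.smul_apply, hQu, hQw, hB]
      simp
  let A : Subgroup G :=
    { carrier := {a | a ∈ D.Q ∧ Commute b a ∧ D.cls a ∈ S}
      mul_mem' := fun {a c} ha hc => ⟨mul_mem ha.1 hc.1, ha.2.1.mul_right hc.2.1,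
        by rw [D.cls_mul _ ha.1 _ hc.1]; exact add_mem ha.2.2 hc.2.2⟩
      one_mem' := ⟨one_mem _, Commute.one_right _, by rw [D.cls_one]; exact zero_mem _⟩
      inv_mem' := fun {a} ha => ⟨inv_mem ha.1, ha.2.1.inv_right, by rw [D.cls_inv ha.1]; exact ha.2.2⟩ }
  have hA4 := hel A (fun a ha => ⟨ha.1, ha.2.1, (D.cls_sq a ha.1).2 (hSB _ ha.2.2 _ ha.2.2).2⟩)
    fun a ha c hc => (D.cls_comm a ha.1 c hc.1).2 (hSB _ ha.2.2 _ hc.2.2).1
  let E : S × ZMod 2 → A := fun p =>
    ⟨(F (⟨p.1, hSW p.1.2⟩, p.2)).1, (F (⟨p.1, hSW p.1.2⟩, p.2)).2.1,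
      (F (⟨p.1, hSW p.1.2⟩, p.2)).2.2, by
        show D.cls (pick D.z p.2 * q ⟨p.1, _⟩) ∈ S
        rw [D.cls_mul _ (D.pick_mem p.2).1 _ (hq _), (D.pick_mem p.2).2, hqw, zero_add]
        exact p.1.2⟩
  have hE : Function.Injective E := fun x y e => by
    have h1 : F (⟨x.1, hSW x.1.2⟩, x.2) = F (⟨y.1, hSW y.1.2⟩, y.2) :=
      Subtype.ext (congrArg (fun a : A => (a : G)) e)
    have h2 := hF.1 h1
    simp only [Prod.mk.injEq, Subtype.mk.injEq] at h2
    exact Prod.ext (Subtype.ext h2.1) h2.2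
  have hS2 : finrank (ZMod 2) S = 2 := by
    have hli : LinearIndependent (ZMod 2) ![u, w] := by
      refine LinearIndependent.pair_iff.2 fun a c e => ?_
      rcases bit a with rfl | rfl <;> rcases bit c with rfl | rfl <;> simp at e ⊢
      exacts [hw0 e, hu0 e, hne (vadd_eq_zero e)]
    have := finrank_span_eq_card hli
    rwa [Matrix.range_cons_cons_empty, Fintype.card_fin] at this
  have := (Nat.card_le_card_of_injective E hE).trans hA4
  rw [Nat.card_prod, Module.natCard_eq_pow_finrank (K := ZMod 2) (V := S), hS2, Nat.card_zmod] at this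
  norm_num at this

end Cfsg.Lib.Extra.Wide
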