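import Cfsg.Agent.Lib.Extra.Wide.FiveQuot

/-!
# The centralizer of the element of order five as a product

The Sylow five-subgroup is abelian, so the transfer splits off the cyclic factor; the commutator
subgroup is then the layer.
-/

set_option autoImplicit false
set_option linter.style.haveILetI false

namespace Cfsg.Lib.Extra.Wide

open Cfsg Module Cfsg.Lib.Linear Cfsg.Lib.Linear.Orth
open Cfsg.Lib.J2Type (A5 Setup)
open scoped Matrix commutatorElement

variable {G : Type*} [Group G] {ι : Type} [Fintype ι] [DecidableEq ι]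

/-- A central element of order five outside the commutator subgroup, from an abelian subgroup of
index prime to five. -/
theorem not_mem_commutator {H : Type*} [Group H] [Finite H] (P : Subgroup H)
    (hP : ∀ x ∈ P, ∀ y ∈ P, x * y = y * x) (hidx : Nat.Coprime P.index 5) {c : H}
    (hc : ∀ x, Commute c x) (h5 : c ^ 5 = 1) (hcm : c ∈ commutator H) : c = 1 := by
  letI : CommGroup P :=
    { (inferInstance : Group P) with mul_comm := fun x y => Subtype.ext (hP x x.2 y y.2) }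
  have hτ := Abelianization.commutator_subset_ker (MonoidHom.transfer (MonoidHom.id ↥P)) hcm
  have key : ∀ (k : ℕ) (g₀ : H), g₀⁻¹ * c ^ k * g₀ ∈ P → g₀⁻¹ * c ^ k * g₀ = c ^ k :=
    fun k g₀ _ => by rw [mul_assoc, ((hc g₀).pow_left k).eq, inv_mul_cancel_left]
  rw [MonoidHom.mem_ker, MonoidHom.transfer_eq_pow _ c key, MonoidHom.id_apply] at hτ
  exact coprime_kill hidx (congrArg Subtype.val hτ) h5

/-- In a group of Hall-Janko type an abelian subgroup of order 25 meeting the centralizer. -/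
theorem exists_five_abelian {H : Type*} [Group H] [Finite H] {z : H} {Q : Subgroup H}
    (hS : Setup z Q) : ∃ f y : H, Commute f z ∧ z * y * z⁻¹ = y⁻¹ ∧ Commute f y ∧
      ∃ A : Subgroup H, A.index = 24192 ∧ ∀ a ∈ A, ∃ i j : ℤ, a = f ^ i * y ^ j := by
  classical
  obtain ⟨f, hf, hfz⟩ := hS.exists_five
  obtain ⟨y, hy, hfy, hzy, -, -, -⟩ := hS.five_pair hf hfz
  refine ⟨f, y, hfz, hzy, hfy, ?_⟩
  let m := MonoidHom.noncommCoprod (Subgroup.zpowers f).subtype (Subgroup.zpowers y).subtype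
    fun a c => by
      obtain ⟨i, hi⟩ := Subgroup.mem_zpowers_iff.1 a.2
      obtain ⟨j, hj⟩ := Subgroup.mem_zpowers_iff.1 c.2
      show Commute (a : H) (c : H)
      rw [← hi, ← hj]
      exact hfy.zpow_zpow i j
  have hinj : Function.Injective m := by
    rw [injective_iff_map_eq_one]
    rintro ⟨a, c⟩ e
    change (a : H) * (c : H) = 1 at e
    obtain ⟨i, hi⟩ := Subgroup.mem_zpowers_iff.1 a.2
    obtain ⟨j, hj⟩ := Subgroup.mem_zpowers_iff.1 c.2
    have ha : z * (a : H) * z⁻¹ = a := by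
      rw [← hi, ((hfz.zpow_left i).symm).eq, mul_inv_cancel_right]
    have hc : z * (c : H) * z⁻¹ = (c : H)⁻¹ := by
      rw [← hj, ← conj_zpow, hzy, inv_zpow]
    have hac : (a : H) = (c : H)⁻¹ := eq_inv_of_mul_eq_one_left e
    rw [hac, ← conj_inv, hc, inv_inv] at ha
    have hc2 : (c : H) ^ 2 = 1 := by
      rw [pow_two]
      conv_lhs => arg 1; rw [ha]
      exact inv_mul_cancel _
    have hc5 : (c : H) ^ 5 = 1 := by
      rw [← hj, ← zpow_natCast, ← zpow_mul, mul_comm, zpow_mul, zpow_natCast, ← hy,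
        pow_orderOf_eq_one, one_zpow]
    have hc1 := coprime_kill (by norm_num) hc2 hc5
    refine Prod.ext (Subtype.ext ?_) (Subtype.ext hc1)
    show (a : H) = 1
    rw [hac, hc1, inv_one]
  obtain ⟨t, ht, hnc⟩ := hS.exists_outer
  obtain ⟨V, L, -, hG⟩ := hS.main ht hnc
  refine ⟨m.range, ?_, ?_⟩
  · have h1 := Subgroup.card_mul_index m.range
    rw [← Nat.card_congr (MonoidHom.ofInjective hinj).toEquiv, Nat.card_prod, Nat.card_zpowers,
      Nat.card_zpowers, hf, hy, hG] at h1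
    omega
  · rintro _ ⟨⟨a, c⟩, rfl⟩
    obtain ⟨i, hi⟩ := Subgroup.mem_zpowers_iff.1 a.2
    obtain ⟨j, hj⟩ := Subgroup.mem_zpowers_iff.1 c.2
    exact ⟨i, j, by rw [hi, hj]; rfl⟩

/-- A group of Hall-Janko type is perfect and simple. -/
theorem setup_simple {H : Type*} [Group H] [Finite H] {z : H} {Q : Subgroup H} (hS : Setup z Q) :
    IsSimpleGroup H ∧ commutator H = ⊤ ∧ ∃ x : H, ¬ Commute x z := by
  obtain ⟨t, ht, hnc⟩ := hS.exists_outer
  obtain ⟨V, L, -, hG⟩ := hS.main ht hnc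
  have hx : ∃ x : H, ¬ Commute x z := by
    by_contra hcon
    push Not at hcon
    have h := hS.card_C
    rw [show Subgroup.centralizer ({z} : Set H) = ⊤ from eq_top_iff.2 fun x _ =>
      Subgroup.mem_centralizer_singleton_iff.2 (hcon x).eq, Nat.card_congr Subgroup.topEquiv.toEquiv, hG] at h
    norm_num at h
  haveI : IsSimpleGroup Spor.J2 := Cfsg.Lib.J2.isSimple_J2
  obtain ⟨e⟩ := hS.isoJ2
  haveI hs : IsSimpleGroup H := e.isSimpleGroup
  refine ⟨hs, (inferInstance : (commutator H).Normal).eq_bot_or_eq_top.resolve_left fun hb => ?_, hx⟩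
  obtain ⟨x, hx⟩ := hx
  refine hx (commutatorElement_eq_one_iff_commute.1 ?_)
  have hm : ⁅x, z⁆ ∈ commutator H := by
    rw [commutator_def]
    exact Subgroup.commutator_mem_commutator (Subgroup.mem_top x) (Subgroup.mem_top z)
  rwa [hb, Subgroup.mem_bot] at hm

namespace Data.Fiver

variable {D : Data G ι} [Finite G] {b : G} (h : D.Fiver b)
include h

/-- The decomposition of the centralizer. -/
theorem part : ∃ L : Subgroup G, D.Part b L ∧ Cfsg.Spor.IsoJ2 ↥L ∧
    ∀ H : Subgroup G, (∀ x, x ∈ H ↔ Commute x b) → (Cfsg.layer ↥H).map H.subtype = L := by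
  classical
  have hz : D.z ∈ Subgroup.centralizer ({b} : Set G) :=
    Subgroup.mem_centralizer_singleton_iff.2 h.comm.eq.symm
  have hS := h.setup hz
  set π := QuotientGroup.mk' (cenB b) with hπ
  set zb := π ⟨D.z, hz⟩ with hzb
  have hsurj : Function.Surjective π := QuotientGroup.mk'_surjective _
  set bH : ↥(Subgroup.centralizer ({b} : Set G)) :=
    ⟨b, Subgroup.mem_centralizer_singleton_iff.2 rfl⟩ with hbH
  have hbc : ∀ x : ↥(Subgroup.centralizer ({b} : Set G)), Commute bH x := fun x =>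
    Subtype.ext (Subgroup.mem_centralizer_singleton_iff.1 x.2).symm
  have hb5 : bH ^ 5 = 1 := Subtype.ext (by simpa [hbH] using h.pow5)
  have hker : ∀ x, π x = 1 ↔ ∃ i : ℕ, x = bH ^ i := fun x => by
    constructor
    · intro e
      obtain ⟨i, hi⟩ := h.mk_eq (e.trans (map_one π).symm)
      exact ⟨i, Subtype.ext (by simpa [hbH] using hi)⟩
    · rintro ⟨i, rfl⟩
      exact (QuotientGroup.eq_one_iff _).2 (pow_mem (Subgroup.mem_zpowers _) i)
  -- the Sylow subgroup
  obtain ⟨fb, yb, hfz, hzy, hfy, A, hA, hAe⟩ := exists_five_abelian hS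
  obtain ⟨f, hf⟩ := hsurj fb
  obtain ⟨y, hy⟩ := hsurj yb
  have hfz' : Commute f (⟨D.z, hz⟩ : ↥(Subgroup.centralizer ({b} : Set G))) :=
    Subtype.ext (h.commute_of_mk hz (by rw [hf]; exact hfz)).eq
  have hfy' : Commute f y := by
    obtain ⟨i, hi⟩ := (hker (f * y * f⁻¹ * y⁻¹)).1 (by
      rw [map_mul, map_mul, map_mul, map_inv, map_inv, hf, hy, hfy.eq]; group)
    set zH : ↥(Subgroup.centralizer ({b} : Set G)) := ⟨D.z, hz⟩
    obtain ⟨j, hj⟩ := (hker (zH * y * zH⁻¹ * y)).1 (by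
      rw [map_mul, map_mul, map_mul, map_inv, hy, hzy, inv_mul_cancel])
    have e1 : zH * y * zH⁻¹ = bH ^ j * y⁻¹ := by rw [← hj]; group
    have e2 : f * y * f⁻¹ = bH ^ i * y := by rw [← hi]; group
    have e3 : bH ^ i = (bH ^ i)⁻¹ := by
      have h1 : f * (zH * y * zH⁻¹) * f⁻¹ = bH ^ i * (zH * y * zH⁻¹) := by
        calc f * (zH * y * zH⁻¹) * f⁻¹ = (f * zH) * y * (zH⁻¹ * f⁻¹) := by group
          _ = zH * (f * y * f⁻¹) * zH⁻¹ := by rw [hfz'.eq, ← mul_inv_rev, hfz'.eq]; group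
          _ = zH * bH ^ i * (y * zH⁻¹) := by rw [e2]; group
          _ = bH ^ i * (zH * y * zH⁻¹) := by rw [← ((hbc zH).pow_left i).eq]; group
      rw [e1] at h1
      have h2 : f * (bH ^ j * y⁻¹) * f⁻¹ = bH ^ j * y⁻¹ * (bH ^ i)⁻¹ := by
        calc f * (bH ^ j * y⁻¹) * f⁻¹ = (f * bH ^ j) * y⁻¹ * f⁻¹ := by group
          _ = bH ^ j * (f * y * f⁻¹)⁻¹ := by rw [← ((hbc f).pow_left j).eq]; group
          _ = _ := by rw [e2]; group
      rw [h2, ← (((hbc (bH ^ j * y⁻¹)).pow_left i).inv_left).eq] at h1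
      exact (mul_right_cancel h1).symm
    have e4 : bH ^ i = 1 := coprime_kill (n := 2) (by norm_num)
      (by rw [pow_two]; conv_lhs => arg 2; rw [e3]
          exact mul_inv_cancel _)
      (by rw [← pow_mul, mul_comm, pow_mul, hb5, one_pow])
    rw [e4, one_mul] at e2
    exact mul_inv_eq_iff_eq_mul.1 e2
  have hPab : ∀ x ∈ A.comap π, ∀ x' ∈ A.comap π, x * x' = x' * x := by
    have hform : ∀ x ∈ A.comap π, ∃ (i j : ℤ) (k : ℕ), x = f ^ i * y ^ j * bH ^ k := fun x hx => by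
      obtain ⟨i, j, e⟩ := hAe _ hx
      obtain ⟨k, hk⟩ := (hker ((f ^ i * y ^ j)⁻¹ * x)).1 (by
        rw [map_mul, map_inv, map_mul, map_zpow, map_zpow, hf, hy, e, inv_mul_cancel])
      exact ⟨i, j, k, by rw [← hk, mul_inv_cancel_left]⟩
    intro x hx x' hx'
    obtain ⟨i, j, k, rfl⟩ := hform x hx
    obtain ⟨i', j', k', rfl⟩ := hform x' hx'
    have cb : ∀ (w : ↥(Subgroup.centralizer ({b} : Set G))) (n : ℕ), Commute (bH ^ n) w :=
      fun w n => (hbc w).pow_left n
    refine Commute.mul_left (Commute.mul_left ?_ ?_) (cb _ k) |>.eq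
    · exact (((Commute.refl f).zpow_zpow i i').mul_right (hfy'.zpow_zpow i j')).mul_right (cb _ k').symm
    · exact ((hfy'.symm.zpow_zpow j i').mul_right ((Commute.refl y).zpow_zpow j j')).mul_right
        (cb _ k').symm
  have hbnot : ∀ i : ℕ, bH ^ i ∈ commutator ↥(Subgroup.centralizer ({b} : Set G)) → bH ^ i = 1 :=
    fun i hi => not_mem_commutator (A.comap π) hPab
      (by rw [Subgroup.index_comap_of_surjective _ hsurj, hA]; norm_num)
      (fun x => (hbc x).pow_left i) (by rw [← pow_mul, mul_comm, pow_mul, hb5, one_pow]) hi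
  -- the complement
  obtain ⟨hsimple, hperf, hnon⟩ := setup_simple hS
  set C := commutator ↥(Subgroup.centralizer ({b} : Set G)) with hC
  have hbij : Function.Bijective (π.comp C.subtype) := by
    refine ⟨(injective_iff_map_eq_one _).2 fun x hx => ?_, fun a => ?_⟩
    · obtain ⟨i, hi⟩ := (hker _).1 hx
      exact Subtype.ext (hi.trans (hbnot i (hi ▸ x.2)))
    · have hmap : C.map π = ⊤ := by
        rw [hC, commutator_def, Subgroup.map_commutator, Subgroup.map_top_of_surjective _ hsurj,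
          ← commutator_def, hperf]
      obtain ⟨x, hx, e⟩ := (hmap ▸ Subgroup.mem_top a : a ∈ C.map π)
      exact ⟨⟨x, hx⟩, e⟩
  set e := MulEquiv.ofBijective (π.comp C.subtype) hbij
  let ε := ((Subgroup.centralizer ({b} : Set G)).subtype.comp C.subtype).comp e.symm.toMonoidHom
  have hεi : Function.Injective ε :=
    (Subgroup.subtype_injective _).comp ((Subgroup.subtype_injective C).comp e.symm.injective)
  have hεb : ∀ x, ε x ∈ Subgroup.centralizer ({b} : Set G) := fun x => (C.subtype (e.symm x)).2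
  have hπε : ∀ x, π ⟨ε x, hεb x⟩ = x := fun x => e.apply_symm_apply x
  have hεL : ε.range = C.map (Subgroup.centralizer ({b} : Set G)).subtype := by
    ext g
    constructor
    · rintro ⟨x, rfl⟩; exact ⟨_, (e.symm x).2, rfl⟩
    · rintro ⟨x, hx, rfl⟩
      exact ⟨e ⟨x, hx⟩, congrArg (fun w : C => ((w : ↥(Subgroup.centralizer ({b} : Set G))) : G))
        (e.symm_apply_apply ⟨x, hx⟩)⟩
  set L := ε.range with hL
  have hdisj : ∀ i : ℕ, b ^ i ∈ L → b ^ i = 1 := fun i hi => by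
    rw [hεL] at hi
    obtain ⟨x, hx, e'⟩ := hi
    obtain rfl : x = bH ^ i := Subtype.ext (by simpa [hbH] using e')
    simpa [hbH] using congrArg Subtype.val (hbnot i hx)
  have hsplit : ∀ g (hg : g ∈ Subgroup.centralizer ({b} : Set G)),
      ∃ i : ℕ, g = b ^ i * ε (π ⟨g, hg⟩) := fun g hg =>
    h.mk_eq (a := ⟨g, hg⟩) (c := ⟨_, hεb _⟩) (hπε _).symm
  have hcop : ∀ (g : G) (n : ℕ), Commute g b → Nat.Coprime n 5 → g ^ n = 1 → g ∈ L := by
    intro g n hg hn hgn
    obtain ⟨i, hi⟩ := hsplit g (Subgroup.mem_centralizer_singleton_iff.2 hg.eq)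
    set w := ε (π ⟨g, Subgroup.mem_centralizer_singleton_iff.2 hg.eq⟩)
    have hwb : Commute (b ^ i) w :=
      (show Commute w b from Subgroup.mem_centralizer_singleton_iff.1 (hεb _)).symm.pow_left i
    rw [hi, hwb.mul_pow] at hgn
    have hm : (b ^ i) ^ n ∈ L := by
      rw [eq_inv_of_mul_eq_one_left hgn]
      exact inv_mem (pow_mem (show w ∈ L from ⟨_, rfl⟩) n)
    have h1 : b ^ i = 1 := h.coprime_b hn (by rw [← pow_mul] at hm ⊢; exact hdisj _ hm)
    rw [hi, h1, one_mul]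
    exact ⟨_, rfl⟩
  have hzL : D.z ∈ L := hcop D.z 2 h.comm.symm (by norm_num) (by rw [pow_two, D.ctx.sq_z])
  have hεz : ε zb = D.z := by
    obtain ⟨x, hx⟩ := hzL
    rw [← hx]
    congr 1
    rw [hzb, ← hπε x]
    exact congrArg π (Subtype.ext hx.symm)
  have hcomm : ∀ x, Commute (ε x) D.z ↔ Commute x zb := fun x => by
    refine ⟨fun hc => hεi ?_, fun hc => hεz ▸ hc.map ε⟩
    rw [map_mul, map_mul, hεz, hc.eq]
  have hεQ : ∀ x ∈ (D.Q.comap (Subgroup.centralizer ({b} : Set G)).subtype).map π, ε x ∈ D.Q := by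
    rintro _ ⟨q, hq, rfl⟩
    obtain ⟨k, hk⟩ := D.ctx.two ⟨(q : G), hq⟩
    have hqb : Commute (q : G) b := Subgroup.mem_centralizer_singleton_iff.1 q.2
    obtain ⟨x, hx⟩ := hcop q (2 ^ k) hqb (Nat.Coprime.pow_left k (by norm_num))
      (congrArg Subtype.val hk)
    have hxq : x = π q := by rw [← hπε x]; exact congrArg π (Subtype.ext hx)
    rw [← hxq, hx]
    exact hq
  obtain ⟨φ, hφs, hφk⟩ := hS.proj
  have hφ5 : ∀ x : Subgroup.centralizer ({zb} : Set _), φ x ^ 5 = 1 → ε x ^ 5 ∈ D.Q := fun x hx => by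
    have hq := hεQ _ ((hφk (x ^ 5)).1 (by rw [map_pow, hx]))
    rwa [SubmonoidClass.coe_pow, map_pow] at hq
  have hmz : ∀ {x}, Commute x zb → x ∈ Subgroup.centralizer ({zb} : Set _) := fun hx =>
    Subgroup.mem_centralizer_singleton_iff.2 hx.eq
  refine ⟨L, ⟨?_, hzL, hcop, fun g hg => ?_, hdisj, ?_, ?_, ?_, ?_⟩, ?_, ?_⟩
  · rintro _ ⟨x, rfl⟩; exact Subgroup.mem_centralizer_singleton_iff.1 (hεb x)
  · obtain ⟨i, hi⟩ := hsplit g (Subgroup.mem_centralizer_singleton_iff.2 hg.eq)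
    exact ⟨i, _, ⟨_, rfl⟩, hi⟩
  · -- trivial on the commutator space
    have hfix8 : ∀ g : G, Commute g D.z → Commute g b → g ^ 8 = 1 →
        ∀ u ∈ LinearMap.range (nMap (D.act b)), (D.act g).val *ᵥ u = u := fun g hgz hgb hg8 u hu => by
      obtain ⟨i, hi⟩ := five_centralizer_range D.space h.iso h.act5 h.range4 (D.act_iso hgz)
        (show D.act b * D.act g = D.act g * D.act b by
          rw [← D.act_mul _ _ hgz h.comm, ← D.act_mul _ _ h.comm hgz, hgb.eq])
      have hp : ∀ n : ℕ, (D.act g ^ n).val *ᵥ u = (D.act b ^ (i * n)).val *ᵥ u := by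
        intro n
        induction n with
        | zero => simp
        | succ n ih =>
          rw [pow_act, ih, hi _ (range_inv (Commute.pow_right (Commute.refl _) _) hu), ← mul_act,
            ← pow_add, Nat.mul_succ, add_comm]
      have e8 := hp 8
      rw [← D.act_pow hgz, hg8, D.act_one, Units.val_one, Matrix.one_mulVec] at e8
      rw [hi u hu, show D.act b ^ i = (D.act b ^ (i * 8)) ^ 2 by
        rw [← pow_mul, show i * 8 * 2 = i + 5 * (i * 3) by ring, pow_add, pow_mul, h.act5, one_pow,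
          mul_one]]
      exact pow_fix e8.symm 2
    have hmain : ∀ x, Commute x zb → ∀ u ∈ LinearMap.range (nMap (D.act b)),
        (D.act (ε x)).val *ᵥ u = u := by
      intro x hx u hu
      obtain ⟨p, q, hp, hq, hpq⟩ := Cfsg.Lib.J2Type.a5_gen (φ ⟨x, hmz hx⟩)
      obtain ⟨p', rfl⟩ := hφs p
      obtain ⟨q', rfl⟩ := hφs q
      have h8 : ∀ w : Subgroup.centralizer ({zb} : Set _), φ w * φ w = 1 →
          (D.act (ε w)).val *ᵥ u = u := fun w hw => by
        refine hfix8 _ ((hcomm _).2 (Subgroup.mem_centralizer_singleton_iff.1 w.2))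
          (Subgroup.mem_centralizer_singleton_iff.1 (hεb _)) ?_ u hu
        have hm := hεQ _ ((hφk (w * w)).1 (by rw [map_mul, hw]))
        rw [Subgroup.coe_mul, map_mul, ← pow_two] at hm
        rw [show 8 = 2 * 4 from rfl, pow_mul]
        rcases D.ctx.sq _ hm with e1 | e1 <;>
          rw [show 4 = 2 * 2 from rfl, pow_mul, pow_two (ε w ^ 2), e1] <;> simp [pow_two, D.ctx.sq_z]
      have hr : φ ((p' * q')⁻¹ * ⟨x, hmz hx⟩) = 1 := by
        rw [map_mul, map_inv, map_mul, hpq, inv_mul_cancel]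
      have hxe : x = (p' : _) * (q' : _) * ((((p' * q')⁻¹ * ⟨x, hmz hx⟩) :
          Subgroup.centralizer ({zb} : Set _)) : _) := by
        simp [mul_assoc]
      rw [hxe, map_mul, map_mul]
      have hz1 : ∀ w : Subgroup.centralizer ({zb} : Set _), Commute (ε w) D.z := fun w =>
        (hcomm _).2 (Subgroup.mem_centralizer_singleton_iff.1 w.2)
      rw [D.act_mul _ _ ((hz1 _).mul_left (hz1 _)) (hz1 _), D.act_mul _ _ (hz1 _) (hz1 _), mul_act,
        mul_act, h8 _ (by rw [hr, one_mul]), h8 _ hq, h8 _ hp]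
    rintro _ ⟨x, rfl⟩ hl
    exact hmain x ((hcomm x).1 hl)
  · -- generation
    rintro _ ⟨x, rfl⟩ hl
    have hx := (hcomm x).1 hl
    obtain ⟨p, q, hp, hq, hpq⟩ := a5_two_fives (φ ⟨x, hmz hx⟩)
    obtain ⟨p', rfl⟩ := hφs p
    obtain ⟨q', rfl⟩ := hφs q
    have hm : ∀ w : Subgroup.centralizer ({zb} : Set _), φ w ^ 5 = 1 →
        ε w ∈ Subgroup.closure {p | p ∈ ε.range ∧ Commute p D.z ∧ p ^ 5 ∈ D.Q} := fun w hw =>
      Subgroup.subset_closure ⟨⟨_, rfl⟩, (hcomm _).2 (Subgroup.mem_centralizer_singleton_iff.1 w.2),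
        hφ5 w hw⟩
    have hr : φ ((p' * q')⁻¹ * ⟨x, hmz hx⟩) = 1 := by
      rw [map_mul, map_inv, map_mul, hpq, inv_mul_cancel]
    have hxe : x = (p' : _) * (q' : _) * ((((p' * q')⁻¹ * ⟨x, hmz hx⟩) :
        Subgroup.centralizer ({zb} : Set _)) : _) := by
        simp [mul_assoc]
    rw [hxe, map_mul, map_mul]
    exact mul_mem (mul_mem (hm _ hp) (hm _ hq)) (hm _ (by rw [hr, one_pow]))
  · obtain ⟨x, hx⟩ := hnon
    exact ⟨ε x, ⟨x, rfl⟩, fun hc => hx ((hcomm x).1 hc)⟩
  · -- the pair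
    rintro _ ⟨fb', rfl⟩ hf5 hfz5
    rw [orderOf_injective ε hεi] at hf5
    obtain ⟨yb', hy5, hfy5, hzy5, ⟨C0, hC0, hC0c⟩, hgen, huniq⟩ :=
      hS.five_pair hf5 ((hcomm _).1 hfz5)
    refine ⟨ε yb', ⟨_, rfl⟩, by rw [orderOf_injective ε hεi, hy5], hfy5.map ε, ?_,
      ⟨C0.map ε, ?_, ?_, ?_⟩, ?_, ?_⟩
    · rw [← hεz, ← map_inv, ← map_mul, ← map_mul, hzy5, map_inv]
    · rintro _ ⟨c, -, rfl⟩; exact ⟨c, rfl⟩
    · rw [Subgroup.card_map_of_injective hεi, hC0]
    · rintro _ ⟨c, hc, rfl⟩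
      exact ⟨(hC0c c hc).1.map ε, (hcomm c).2 (hC0c c hc).2⟩
    · intro X hX hyX
      have htop := hgen (X.comap ε) (fun x hx => hX _ ⟨x, rfl⟩
        ((hcomm x).2 (Subgroup.mem_centralizer_singleton_iff.1 hx))) hyX
      rintro _ ⟨x, rfl⟩
      exact (htop ▸ Subgroup.mem_top x : x ∈ X.comap ε)
    · rintro _ ⟨y', rfl⟩ h1 h2 h3
      rw [orderOf_injective ε hεi] at h1
      obtain ⟨i, hi⟩ := Subgroup.mem_zpowers_iff.1 (huniq y' h1 (hεi (by rw [map_mul, map_mul, h2.eq]))
        (hεi (by rw [map_mul, map_mul, map_inv, map_inv, hεz, h3])))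
      exact Subgroup.mem_zpowers_iff.2 ⟨i, by rw [← map_zpow, hi]⟩
  · obtain ⟨u⟩ := hS.isoJ2
    exact ⟨(MonoidHom.ofInjective hεi).symm.trans u⟩
  · intro H hH
    obtain rfl : H = Subgroup.centralizer ({b} : Set G) := by
      ext x
      rw [hH, Subgroup.mem_centralizer_singleton_iff]
      rfl
    rw [hεL]
    refine congrArg _ (le_antisymm ?_ ?_)
    · rw [← Cfsg.Lib.Core.layer_perfect, hC, commutator_def]
      exact Subgroup.commutator_mono le_top le_top
    · haveI : IsSimpleGroup C := e.isSimpleGroup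
      refine Cfsg.Lib.Core.le_layer (Cfsg.Lib.Core.isComponent_of_isSimple_of_isSubnormal
        (Subgroup.Normal.isSubnormal inferInstance) inferInstance fun hcm => ?_)
      obtain ⟨x, hx⟩ := hnon
      refine hx (e.symm.injective ?_)
      rw [map_mul, map_mul]
      exact hcm.is_comm.comm _ _

end Data.Fiver

end Cfsg.Lib.Extra.Wide
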