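import Cfsg.Agent.Lib.Extra.Wide.FiveLayer

/-!
# The centralizer of the layer

A second element of order five, acting on the complementary four-space, produces the alternating
group centralizing the Hall-Janko component.
-/

set_option autoImplicit false
set_option linter.style.haveILetI false

namespace Cfsg.Lib.Extra.Wide

open Cfsg Module Cfsg.Lib.Linear Cfsg.Lib.Linear.Orth
open Cfsg.Lib.J2Type (A5)
open scoped Matrix

variable {G : Type*} [Group G] {ι : Type} [Fintype ι] [DecidableEq ι] {D : Data G ι}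

/-- An element commuting with `f` and trivial on its commutator space centralizes the classes
there. -/
theorem commute_on_range {f m q : G} (hf : f ^ 5 = 1) (hfz : Commute f D.z) (hmz : Commute m D.z)
    (hmf : Commute m f) (hfix : ∀ r ∈ LinearMap.range (nMap (D.act f)), (D.act m).val *ᵥ r = r)
    (hq : q ∈ D.Q) (hr : D.cls q ∈ LinearMap.range (nMap (D.act f))) : Commute m q := by
  obtain ⟨v, hv⟩ := hr
  obtain ⟨w, u, hw, hu, rfl⟩ := five_decomp (D.act_five hf hfz) v
  rw [map_add, nMap_eq_zero.2 hw, zero_add] at hv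
  obtain ⟨q0, hq0, rfl⟩ := D.cls_surj u
  have hm0 : m * q0 * m⁻¹ = q0 ∨ m * q0 * m⁻¹ = D.z * q0 :=
    D.cls_eq hq0 (D.conj_mem hmz hq0) (by rw [D.act_cls m hmz q0 hq0, hfix _ hu])
  have h1 : Commute m (f * q0 * f⁻¹ * q0) := by
    refine mul_inv_eq_iff_eq_mul.1 ?_
    have e : m * (f * q0 * f⁻¹ * q0) * m⁻¹ = f * (m * q0 * m⁻¹) * f⁻¹ * (m * q0 * m⁻¹) := by
      calc m * (f * q0 * f⁻¹ * q0) * m⁻¹ = (m * f) * q0 * (m * f)⁻¹ * (m * q0 * m⁻¹) := by group
        _ = _ := by rw [hmf.eq]; group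
    rw [e]
    rcases hm0 with e' | e' <;> rw [e']
    calc f * (D.z * q0) * f⁻¹ * (D.z * q0) = (f * D.z) * (q0 * f⁻¹ * D.z) * q0 := by group
      _ = D.z * f * (q0 * (f⁻¹ * D.z)) * q0 := by rw [hfz.eq]; group
      _ = D.z * f * (q0 * D.z) * f⁻¹ * q0 := by rw [hfz.inv_left.eq]; group
      _ = D.z * (f * D.z) * q0 * f⁻¹ * q0 := by rw [(D.ctx.central q0 hq0).symm.eq]; group
      _ = D.z * D.z * (f * q0 * f⁻¹ * q0) := by rw [hfz.eq]; group
      _ = _ := by rw [D.ctx.sq_z, one_mul]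
  have hc : D.cls (f * q0 * f⁻¹ * q0) = D.cls q := by
    rw [D.cls_mul _ (D.conj_mem hfz hq0) _ hq0, D.act_cls f hfz q0 hq0, ← hv, nMap_apply]
  rcases D.cls_eq (mul_mem (D.conj_mem hfz hq0) hq0) hq hc with e | e
  · rwa [e]
  · rw [e]; exact hmz.mul_right h1

namespace Data.Fiver

variable [Finite G] {b : G} (h : D.Fiver b)
include h

omit [Finite G] in
theorem pow_eq_one_of_fix (i : ℕ)
    (hi : ∀ u ∈ LinearMap.range (nMap (D.act b)), (D.act b ^ i).val *ᵥ u = u) : b ^ i = 1 := by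
  have hg : D.act b ^ i = 1 := gl_ext fun v => by
    obtain ⟨w, u, hw, hu, rfl⟩ := five_decomp h.act5 v
    rw [Matrix.mulVec_add, pow_fix hw, hi u hu, Units.val_one, Matrix.one_mulVec]
  obtain ⟨k, hk⟩ := h.order_act ▸ orderOf_dvd_of_pow_eq_one hg
  rw [hk, pow_mul, h.pow5, one_pow]

/-- An element acting trivially on the commutator space lies in the simple part. -/
theorem mem_part {L : Subgroup G} (P : D.Part b L) {c : G} (hcb : Commute c b)
    (hcz : Commute c D.z)
    (hfix : ∀ u ∈ LinearMap.range (nMap (D.act b)), (D.act c).val *ᵥ u = u) : c ∈ L := by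
  obtain ⟨i, l, hl, e⟩ := P.split c hcb
  have hbi : Commute (b ^ i) D.z := h.comm.pow_left i
  have hlz : Commute l D.z := by
    rw [show l = (b ^ i)⁻¹ * c by rw [e, inv_mul_cancel_left]]
    exact hbi.inv_left.mul_left hcz
  have h1 : b ^ i = 1 := h.pow_eq_one_of_fix i fun u hu => by
    have := hfix u hu
    rwa [e, D.act_mul _ _ hbi hlz, mul_act, P.fixU l hl hlz u hu, D.act_pow h.comm] at this
  rw [e, h1, one_mul]
  exact hl

/-- A second element of order five, fixing the commutator space. -/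
theorem exists_second : ∃ f, D.Fiver f ∧ Commute f b ∧
    fixSpace (D.act f) = LinearMap.range (nMap (D.act b)) ∧
    LinearMap.range (nMap (D.act f)) = fixSpace (D.act b) := by
  classical
  haveI : Fact (Nat.Prime 5) := ⟨by norm_num⟩
  obtain ⟨-, ψ, -, -, hker', hsec⟩ := five_quot D.space (by rw [h.eight]; norm_num) D.ev h.iso
    h.act5 h.range4 h.fix4 h.np
  obtain ⟨a, ha5, ha1⟩ := Cfsg.Lib.J2Type.a5_five_exists
  obtain ⟨⟨x, hxΩ, hxc⟩, rfl, hxU⟩ := hsec a
  have hcomm : Commute (D.act b) x := (Subgroup.mem_centralizer_singleton_iff.1 hxc).symm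
  have hx5 : x ^ 5 = 1 := gl_ext fun v => by
    obtain ⟨w, u, hw, hu, rfl⟩ := five_decomp h.act5 v
    rw [Matrix.mulVec_add, pow_fix (hxU u hu), Units.val_one, Matrix.one_mulVec]
    congr 1
    exact (hker' (⟨x, hxΩ, hxc⟩ ^ 5)).1 (by rw [map_pow, ha5]) w hw
  have hx1 : x ≠ 1 := fun e => ha1 ((hker' _).2 fun w _ => by
    show x.val *ᵥ w = w
    rw [e, Units.val_one, Matrix.one_mulVec])
  obtain ⟨c, hcz, hcb, hcx⟩ := h.lift hxΩ hcomm
  have hc5 : c ^ 5 ∈ D.Q := (D.act_ker _ (hcz.pow_left 5)).1 (by rw [D.act_pow hcz, hcx, hx5])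
  have hc20 : c ^ 20 = 1 := by
    rw [show 20 = 5 * (2 * 2) from rfl, pow_mul, pow_mul]
    rcases D.ctx.sq _ hc5 with e | e <;> rw [pow_two (c ^ 5), e] <;> simp [pow_two, D.ctx.sq_z]
  set f := c ^ 16 with hf
  have hf5 : f ^ 5 = 1 := by
    rw [hf, ← pow_mul, show 16 * 5 = 20 * 4 from rfl, pow_mul, hc20, one_pow]
  have hfz : Commute f D.z := hcz.pow_left 16
  have hfx : D.act f = x := by
    rw [hf, D.act_pow hcz, hcx, show 16 = 5 * 3 + 1 from rfl, pow_succ, pow_mul, hx5, one_pow, one_mul]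
  have hle : LinearMap.range (nMap x) ≤ fixSpace (D.act b) := by
    rintro _ ⟨v, rfl⟩
    obtain ⟨w, u, hw, hu, rfl⟩ := five_decomp h.act5 v
    rw [map_add, nMap_eq_zero.2 (hxU u hu), add_zero, mem_fix, nMap_apply, Matrix.mulVec_add,
      fix_inv hcomm hw, hw]
  have hrange : LinearMap.range (nMap x) = fixSpace (D.act b) :=
    Submodule.eq_of_le_of_finrank_le hle (by rw [h.fix4]; exact five_range_ge hx5 hx1)
  have hfin : finrank (ZMod 2) (fixSpace x) = 4 := by
    have := finrank_range_nMap x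
    rw [hrange, h.fix4, h.eight] at this
    omega
  have hfixx : fixSpace x = LinearMap.range (nMap (D.act b)) :=
    (Submodule.eq_of_le_of_finrank_le (fun u hu => mem_fix.2 (hxU u hu))
      (by rw [hfin, h.range4])).symm
  obtain ⟨-, -, -, -, -, -, hnp⟩ := five_orbit D.space h.iso h.act5 h.range4
  refine ⟨f, ⟨h.eight, orderOf_eq_prime hf5 fun e => hx1 ?_, hfz, by rw [hfx]; exact hfin, ?_⟩,
    hcb.pow_left 16, by rw [hfx, hfixx], by rw [hfx, hrange]⟩
  · rw [← hfx, e, D.act_one]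
  · rw [hfx, hfixx]
    exact fun u hu w hw => hnp u hu w hw

/-- The centralizer of `b` has the Hall-Janko component and its centralizer is alternating. -/
theorem main {H : Subgroup G} (hH : ∀ x, x ∈ H ↔ Commute x b) :
    Cfsg.Spor.IsoJ2 ↥(Cfsg.layer ↥H) ∧
      Nonempty (↥(Subgroup.centralizer ((Cfsg.layer ↥H).map H.subtype : Set G)) ≃* A5) := by
  classical
  obtain ⟨L, P, ⟨uJ⟩, hlay⟩ := h.part
  have hlayH := hlay H hH
  refine ⟨⟨((Cfsg.layer ↥H).equivMapOfInjective H.subtype H.subtype_injective).trans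
    ((MulEquiv.subgroupCongr hlayH).trans uJ)⟩, ?_⟩
  rw [hlayH]
  obtain ⟨f, h', hfb, hfixf, hrf⟩ := h.exists_second
  obtain ⟨L', P', -, -⟩ := h'.part
  have hUfix : ∀ {c : G}, c ∈ D.Q → Commute b c → D.cls c ∈ fixSpace (D.act b) := fun hc hbc =>
    mem_fix.2 (D.fix_of_commute h.comm hc hbc)
  have hfL : f ∈ L := h.mem_part P hfb h'.comm fun u hu => mem_fix.1 (hfixf.symm ▸ hu)
  have hbL' : b ∈ L' := h'.mem_part P' hfb.symm h.comm fun u hu => mem_fix.1 (hrf ▸ hu)
  obtain ⟨y, hyL, hy5, hfy, hzy, -, hgen, -⟩ := P.pair f hfL h'.order h'.comm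
  obtain ⟨y', -, hy'5, -, -, ⟨C, hCL, hC12, hCc⟩, -, huniq⟩ := P'.pair b hbL' h.order h.comm
  have hyL' : y ∈ L' := by
    obtain ⟨j, l, hl, e⟩ := P'.split y hfy.symm
    have hlf : Commute (f ^ j) l := (P'.le l hl).symm.pow_left j
    have hzl : D.z * l * D.z⁻¹ ∈ L' := mul_mem (mul_mem P'.z_mem hl) (inv_mem P'.z_mem)
    have e1 : f ^ j * (D.z * l * D.z⁻¹) = (f ^ j)⁻¹ * l⁻¹ := by
      rw [hlf.inv_inv.eq, ← mul_inv_rev, ← e, ← hzy, e]
      calc f ^ j * (D.z * l * D.z⁻¹) = (f ^ j * D.z) * l * D.z⁻¹ := by group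
        _ = _ := by rw [(h'.comm.pow_left j).eq]; group
    have h2 : f ^ (j + j) ∈ L' := by
      rw [show f ^ (j + j) = l⁻¹ * (D.z * l * D.z⁻¹)⁻¹ by
        rw [pow_add, eq_mul_inv_iff_mul_eq, mul_assoc, e1, mul_inv_cancel_left]]
      exact mul_mem (inv_mem hl) (inv_mem hzl)
    rw [e, h'.coprime_b (n := 2) (by norm_num) (by
      rw [← pow_mul, mul_comm, two_mul]; exact P'.disj _ h2), one_mul]
    exact hl
  have hyy' : y ∈ Subgroup.zpowers y' := huniq y hyL' hy5 (P.le y hyL).symm hzy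
  -- the two centralizers of `z` commute
  have hMM : ∀ m ∈ L, Commute m D.z → ∀ m' ∈ L', Commute m' D.z → Commute m m' := by
    intro m hm hmz m' hm' hm'z
    have hmb : Commute m b := P.le m hm
    have hm'f : Commute m' f := P'.le m' hm'
    have hmU : ∀ {q}, q ∈ D.Q → D.cls q ∈ LinearMap.range (nMap (D.act b)) → Commute m q :=
      fun hq hc => commute_on_range h.pow5 h.comm hmz hmb (P.fixU m hm hmz) hq hc
    suffices hle : Subgroup.closure {p | p ∈ L' ∧ Commute p D.z ∧ p ^ 5 ∈ D.Q} ≤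
        Subgroup.centralizer ({m} : Set G) from
      (Subgroup.mem_centralizer_singleton_iff.1 (hle (P'.gen m' hm' hm'z))).symm
    refine (Subgroup.closure_le _).2 fun p ⟨hp, hpz, hp5⟩ => ?_
    have hpW : ∀ {q}, q ∈ D.Q → D.cls q ∈ fixSpace (D.act b) → Commute p q := fun hq hc =>
      commute_on_range h'.pow5 h'.comm hpz (P'.le p hp) (P'.fixU p hp hpz) hq (hrf.symm ▸ hc)
    have hmp5 : Commute m (p ^ 5) := hmU hp5 (by
      rw [← hfixf, mem_fix]
      exact D.fix_of_commute h'.comm hp5 ((P'.le p hp).symm.pow_right 5))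
    set c := m * p * m⁻¹ * p⁻¹ with hc
    have hcz : Commute c D.z := ((hmz.mul_left hpz).mul_left hmz.inv_left).mul_left hpz.inv_left
    -- the action of the commutator
    have hmW : ∀ {w}, w ∈ fixSpace (D.act b) → (D.act m).val *ᵥ w ∈ fixSpace (D.act b) := fun hw =>
      mem_fix.2 (fix_inv (show D.act b * D.act m = D.act m * D.act b by
        rw [← D.act_mul _ _ h.comm hmz, ← D.act_mul _ _ hmz h.comm, hmb.eq]) (mem_fix.1 hw))
    have hpU : ∀ {u}, u ∈ LinearMap.range (nMap (D.act b)) →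
        (D.act p).val *ᵥ u ∈ LinearMap.range (nMap (D.act b)) := fun hu => by
      rw [← hfixf] at hu ⊢
      exact mem_fix.2 (fix_inv (show D.act f * D.act p = D.act p * D.act f by
        rw [← D.act_mul _ _ h'.comm hpz, ← D.act_mul _ _ hpz h'.comm, (P'.le p hp).eq]) (mem_fix.1 hu))
    have hcfix : ∀ q ∈ D.Q, Commute c q := by
      intro q hq
      obtain ⟨w, u, hw, hu, e⟩ := five_decomp h.act5 (D.cls q)
      obtain ⟨qw, hqw, rfl⟩ := D.cls_surj w
      obtain ⟨qu, hqu, rfl⟩ := D.cls_surj u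
      have h1 : Commute c qw := by
        have hm' : D.cls (m⁻¹ * qw * m) ∈ fixSpace (D.act b) := by
          have hinv : ∀ v ∈ fixSpace (D.act b), (D.act m⁻¹).val *ᵥ v ∈ fixSpace (D.act b) := fun v hv =>
            mem_fix.2 (fix_inv (show D.act b * D.act m⁻¹ = D.act m⁻¹ * D.act b by
              rw [← D.act_mul _ _ h.comm hmz.inv_left, ← D.act_mul _ _ hmz.inv_left h.comm,
                hmb.inv_left.eq]) (mem_fix.1 hv))
          have := hinv _ (mem_fix.2 hw)
          rwa [← D.act_cls _ hmz.inv_left _ hqw, inv_inv] at this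
        have e1 : Commute p (m⁻¹ * qw * m) := hpW (by
          have := D.conj_mem hmz.inv_left hqw; rwa [inv_inv] at this) hm'
        have e2 : Commute p qw := hpW hqw (mem_fix.2 hw)
        refine mul_inv_eq_iff_eq_mul.1 ?_
        calc c * qw * c⁻¹ = m * (p * (m⁻¹ * ((p⁻¹ * qw) * p) * m) * p⁻¹) * m⁻¹ := by rw [hc]; group
          _ = m * (p * (m⁻¹ * qw * m) * p⁻¹) * m⁻¹ := by
            rw [e2.inv_left.eq, mul_assoc qw, inv_mul_cancel, mul_one]
          _ = _ := by rw [e1.eq]; group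
      have h2 : Commute c qu := by
        have hu' : D.cls (p⁻¹ * qu * p) ∈ LinearMap.range (nMap (D.act b)) := by
          rw [← hfixf, mem_fix] at hu ⊢
          have hcp : D.act f * D.act p⁻¹ = D.act p⁻¹ * D.act f := by
            rw [← D.act_mul _ _ h'.comm hpz.inv_left, ← D.act_mul _ _ hpz.inv_left h'.comm,
              (P'.le p hp).inv_left.eq]
          have := fix_inv hcp hu
          rwa [← D.act_cls _ hpz.inv_left _ hqu, inv_inv] at this
        have e1 : Commute m (p⁻¹ * qu * p) := hmU (by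
          have := D.conj_mem hpz.inv_left hqu; rwa [inv_inv] at this) hu'
        have e2 : Commute m qu := hmU hqu hu
        refine mul_inv_eq_iff_eq_mul.1 ?_
        calc c * qu * c⁻¹ = m * (p * ((m⁻¹ * (p⁻¹ * qu * p)) * m) * p⁻¹) * m⁻¹ := by rw [hc]; group
          _ = m * (p * (p⁻¹ * qu * p) * p⁻¹) * m⁻¹ := by
            rw [e1.inv_left.eq, mul_assoc (p⁻¹ * qu * p), inv_mul_cancel, mul_one]
          _ = m * qu * m⁻¹ := by group
          _ = _ := by rw [e2.eq, mul_inv_cancel_right]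
      rcases D.cls_eq (mul_mem hqw hqu) hq (by rw [D.cls_mul _ hqw _ hqu, e]) with e' | e'
      · rw [e']; exact h1.mul_right h2
      · rw [e']; exact hcz.mul_right (h1.mul_right h2)
    rcases D.ctx.cent c hcfix with hc1 | hc1
    · exact Subgroup.mem_centralizer_singleton_iff.2 (commute_of_mul_mul (hc.symm.trans hc1)).eq.symm
    · exfalso
      have hn : ∀ n : ℕ, m * p ^ n * m⁻¹ = D.z ^ n * p ^ n := by
        intro n
        have hmp : m * p * m⁻¹ = D.z * p := mul_inv_eq_iff_eq_mul.1 (hc.symm.trans hc1)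
        rw [← conj_pow, hmp, hpz.symm.mul_pow]
      have h5 := hn 5
      rw [hmp5.eq, mul_inv_cancel_right, right_eq_mul] at h5
      exact D.ctx.ne_one (coprime_kill (n := 2) (by norm_num) (by rw [pow_two, D.ctx.sq_z]) h5)
  -- the elements centralizing the component
  have hcentral : ∀ c, (∀ m ∈ L, Commute m D.z → Commute m c) → Commute y c →
      c ∈ Subgroup.centralizer (L : Set G) := fun c hc hyc => by
    have := hgen (Subgroup.centralizer ({c} : Set G))
      (fun l hl hlz => Subgroup.mem_centralizer_singleton_iff.2 (hc l hl hlz).eq)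
      (Subgroup.mem_centralizer_singleton_iff.2 hyc.eq)
    exact Subgroup.mem_centralizer_iff.2 fun l hl =>
      Subgroup.mem_centralizer_singleton_iff.1 (this hl)
  set K := Subgroup.centralizer (L : Set G) with hK
  have hKc : ∀ {k l}, k ∈ K → l ∈ L → Commute k l := fun hk hl =>
    (Subgroup.mem_centralizer_iff.1 hk _ hl).symm
  have hbK : b ∈ K := Subgroup.mem_centralizer_iff.2 fun l hl => (P.le l hl).eq
  have hCK : C ≤ K := fun c hc => by
    refine hcentral c (fun m hm hmz => hMM m hm hmz c (hCL hc) (hCc c hc).2) ?_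
    obtain ⟨i, hi⟩ := Subgroup.mem_zpowers_iff.1 hyy'
    rw [← hi]
    exact ((hCc c hc).1.symm).zpow_left i
  have h60 : 60 ∣ Nat.card K := by
    have a1 : 12 ∣ Nat.card K := hC12 ▸ Subgroup.card_dvd_of_le hCK
    have a2 : 5 ∣ Nat.card K := by
      have := Subgroup.card_dvd_of_le (Subgroup.zpowers_le.2 hbK)
      rwa [Nat.card_zpowers, h.order] at this
    exact (show 60 = 12 * 5 from rfl) ▸ Nat.Coprime.mul_dvd_of_dvd_of_dvd (by norm_num) a1 a2
  have hKz : ∀ {k}, k ∈ K → Commute k D.z := fun hk => hKc hk P.z_mem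
  have hQbL : ∀ {q}, q ∈ D.Q → Commute b q → q ∈ L := fun {q} hq hqb => by
    obtain ⟨k, hk⟩ := D.ctx.two ⟨q, hq⟩
    exact P.mem_of_coprime q (2 ^ k) hqb.symm (Nat.Coprime.pow_left k (by norm_num))
      (congrArg Subtype.val hk)
  have hzK : D.z ∉ K := fun hz => by
    obtain ⟨l, hl, hne⟩ := P.noncentral
    exact hne (hKc hz hl).symm
  have hKQ : ∀ {k}, k ∈ K → k ∈ D.Q → k = 1 := fun {k} hk hkQ => by
    rcases eq_or_ne (D.cls k) 0 with h0 | h0
    · rcases (D.cls_ker k hkQ).1 h0 with e | e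
      · exact e
      · exact absurd (e ▸ hk) hzK
    exfalso
    have hU : D.cls k ∈ LinearMap.range (nMap (D.act b)) := by
      obtain ⟨w, u, hw, hu, e⟩ := five_decomp h.act5 (D.cls k)
      have hw0 : w = 0 := five_nondeg_fix D.space h.iso h.act5 hw fun w' hw' => by
        obtain ⟨q, hq, hqb, rfl⟩ := h.exists_fixed hw'
        have hkq := (D.cls_comm k hkQ q hq).1 (hKc hk (hQbL hq hqb))
        rw [← e, map_add, LinearMap.add_apply, D.space.symm u,
          five_orth D.space h.iso hw' hu, add_zero] at hkq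
        exact hkq
      rw [← e, hw0, zero_add]
      exact hu
    obtain ⟨-, hli⟩ := five_indep h.act5 hU h0
    have hspan : Submodule.span (ZMod 2) (Set.range fun i : Fin 4 => (D.act b ^ (i : ℕ)).val *ᵥ D.cls k) =
        LinearMap.range (nMap (D.act b)) := by
      refine Submodule.eq_of_le_of_finrank_le (Submodule.span_le.2 ?_) ?_
      · rintro _ ⟨i, rfl⟩; exact range_inv (Commute.pow_right (Commute.refl _) _) hU
      · rw [finrank_span_eq_card hli, h.range4]; simp
    obtain ⟨i, hi⟩ : ∃ i : Fin 4, D.B (D.cls k) ((D.act b ^ (i : ℕ)).val *ᵥ D.cls k) = 1 := by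
      by_contra hcon
      push Not at hcon
      refine h0 (five_nondeg_range D.space h.iso h.act5 hU fun u hu => ?_)
      rw [← hspan] at hu
      induction hu using Submodule.span_induction with
      | mem u hu => obtain ⟨i, rfl⟩ := hu; exact (bit _).resolve_right (hcon i)
      | zero => simp
      | add a c _ _ ha hc => rw [map_add, ha, hc, add_zero]
      | smul a c _ hc => rw [map_smul, hc, smul_zero]
    have hbi : Commute (b ^ (i : ℕ)) D.z := h.comm.pow_left _
    have hk' := D.conj_mem hbi hkQ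
    have e := D.q_move hkQ hk' (by rw [D.act_cls _ hbi k hkQ, D.act_pow h.comm, hi])
    refine hzK ?_
    rw [show D.z = k * (b ^ (i : ℕ) * k * (b ^ (i : ℕ))⁻¹) * k⁻¹ * (b ^ (i : ℕ) * k * (b ^ (i : ℕ))⁻¹)⁻¹
      by rw [e, mul_inv_cancel_right]]
    have hbk := mul_mem (mul_mem (pow_mem hbK (i : ℕ)) hk) (inv_mem (pow_mem hbK (i : ℕ)))
    exact mul_mem (mul_mem (mul_mem hk hbk) (inv_mem hk)) (inv_mem hbk)
  obtain ⟨-, ψ, -, -, hker', -⟩ := five_quot D.space (by rw [h.eight]; norm_num) D.ev h'.iso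
    h'.act5 h'.range4 h'.fix4 h'.np
  have hKm : ∀ k : K, D.act k ∈ Cfsg.Geo.omegaGL D.qf ⊓
      Subgroup.centralizer ({D.act f} : Set (GL ι (ZMod 2))) := fun k =>
    ⟨D.act_mem _ (hKz k.2), Subgroup.mem_centralizer_singleton_iff.2 (by
      rw [← D.act_mul _ _ (hKz k.2) h'.comm, ← D.act_mul _ _ h'.comm (hKz k.2), (hKc k.2 hfL).eq])⟩
  let θ : K →* A5 := MonoidHom.mk' (fun k => ψ ⟨D.act k, hKm k⟩) fun k l => by
    rw [← map_mul]
    exact congrArg ψ (Subtype.ext (D.act_mul _ _ (hKz k.2) (hKz l.2)))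
  have hθ : Function.Injective θ := (injective_iff_map_eq_one θ).2 fun k hk => by
    refine Subtype.ext (hKQ k.2 ((D.act_ker _ (hKz k.2)).1 (gl_ext fun v => ?_)))
    obtain ⟨w, u, hw, hu, rfl⟩ := five_decomp h.act5 v
    obtain ⟨q, hq, hqb, rfl⟩ := h.exists_fixed hw
    rw [Units.val_one, Matrix.one_mulVec, Matrix.mulVec_add,
      D.fix_of_commute (hKz k.2) hq (hKc k.2 (hQbL hq hqb)),
      (hker' _).1 hk u (mem_fix.1 (hfixf.symm ▸ hu))]
  refine ⟨MulEquiv.ofBijective θ ((Nat.bijective_iff_injective_and_card θ).2 ⟨hθ, ?_⟩)⟩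
  have := Nat.card_le_card_of_injective θ hθ
  rw [Cfsg.Lib.J2Type.a5_card] at this ⊢
  obtain ⟨k, hk⟩ := h60
  have := Nat.card_pos (α := K)
  rw [hk] at this ⊢
  rcases k with _ | _ | k <;> omega

end Data.Fiver

end Cfsg.Lib.Extra.Wide
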