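import Cfsg.Agent.Lib.Extra.Wide.FivePoint
import Cfsg.Agent.Lib.J2Type.FivePair
import Cfsg.Agent.Lib.J2Type.Instance
import Cfsg.Agent.Lib.Core.Layer

/-!
# The layer of the centralizer of an element of order five

The centralizer is the product of the five-group and a copy of the Hall-Janko group.
-/

set_option autoImplicit false
set_option linter.style.haveILetI false

namespace Cfsg.Lib.Extra.Wide

open Cfsg Module Cfsg.Lib.Linear Cfsg.Lib.Linear.Orth
open Cfsg.Lib.J2Type (A5)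
open scoped Matrix

variable {G : Type*} [Group G] {ι : Type} [Fintype ι] [DecidableEq ι]

/-- The subgroup generated by `b` inside its centralizer. -/
def cenB (b : G) : Subgroup ↥(Subgroup.centralizer ({b} : Set G)) :=
  Subgroup.zpowers ⟨b, Subgroup.mem_centralizer_singleton_iff.2 rfl⟩

instance cenB_normal (b : G) : (cenB b).Normal := ⟨fun a ha c => by
  obtain ⟨i, rfl⟩ := Subgroup.mem_zpowers_iff.1 ha
  have hc : Commute c (⟨b, Subgroup.mem_centralizer_singleton_iff.2 rfl⟩ :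
      ↥(Subgroup.centralizer ({b} : Set G))) :=
    Subtype.ext (Subgroup.mem_centralizer_singleton_iff.1 c.2)
  rw [(hc.zpow_right i).eq, mul_inv_cancel_right]
  exact Subgroup.mem_zpowers_iff.2 ⟨i, rfl⟩⟩

variable (D : Data G ι)

/-- The simple part of the centralizer of `b`. -/
structure Data.Part (D : Data G ι) (b : G) (L : Subgroup G) : Prop where
  le : ∀ l ∈ L, Commute l b
  z_mem : D.z ∈ L
  mem_of_coprime : ∀ (g : G) (n : ℕ), Commute g b → Nat.Coprime n 5 → g ^ n = 1 → g ∈ L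
  split : ∀ g, Commute g b → ∃ i : ℕ, ∃ l ∈ L, g = b ^ i * l
  disj : ∀ i : ℕ, b ^ i ∈ L → b ^ i = 1
  fixU : ∀ l ∈ L, Commute l D.z → ∀ u ∈ LinearMap.range (nMap (D.act b)), (D.act l).val *ᵥ u = u
  gen : ∀ l ∈ L, Commute l D.z →
    l ∈ Subgroup.closure {p | p ∈ L ∧ Commute p D.z ∧ p ^ 5 ∈ D.Q}
  noncentral : ∃ l ∈ L, ¬ Commute l D.z
  pair : ∀ f ∈ L, orderOf f = 5 → Commute f D.z → ∃ y ∈ L, orderOf y = 5 ∧ Commute f y ∧
    D.z * y * D.z⁻¹ = y⁻¹ ∧
    (∃ C : Subgroup G, C ≤ L ∧ Nat.card C = 12 ∧ ∀ c ∈ C, Commute c y ∧ Commute c D.z) ∧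
    (∀ X : Subgroup G, (∀ l ∈ L, Commute l D.z → l ∈ X) → y ∈ X → L ≤ X) ∧
    ∀ y' ∈ L, orderOf y' = 5 → Commute f y' → D.z * y' * D.z⁻¹ = y'⁻¹ → y' ∈ Subgroup.zpowers y

theorem a5_two_fives : ∀ a : A5, ∃ p q : A5, p ^ 5 = 1 ∧ q ^ 5 = 1 ∧ a = p * q := by decide +kernel

namespace Data.Fiver

variable {D} [Finite G] {b : G} (h : D.Fiver b)
include h

theorem mk_eq {a c : ↥(Subgroup.centralizer ({b} : Set G))}
    (e : QuotientGroup.mk' (cenB b) a = QuotientGroup.mk' (cenB b) c) :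
    ∃ i : ℕ, (a : G) = b ^ i * c := by
  have hm : a * c⁻¹ ∈ cenB b := by
    rw [← QuotientGroup.ker_mk' (cenB b), MonoidHom.mem_ker, map_mul, map_inv, e, mul_inv_cancel]
  obtain ⟨i, hi⟩ := mem_powers_iff_mem_zpowers.2 hm
  refine ⟨i, ?_⟩
  have h1 := congrArg (Subtype.val) hi
  simp only [SubmonoidClass.coe_pow, Subgroup.coe_mul, Subgroup.coe_inv] at h1
  rw [h1, inv_mul_cancel_right]

theorem mk_pow (i : ℕ) (c : ↥(Subgroup.centralizer ({b} : Set G)))
    (hm : b ^ i * (c : G) ∈ Subgroup.centralizer ({b} : Set G)) :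
    QuotientGroup.mk' (cenB b) ⟨b ^ i * c, hm⟩ = QuotientGroup.mk' (cenB b) c := by
  rw [show (⟨b ^ i * c, hm⟩ : ↥(Subgroup.centralizer ({b} : Set G))) =
      ⟨b, Subgroup.mem_centralizer_singleton_iff.2 rfl⟩ ^ i * c from Subtype.ext (by simp), map_mul,
    (QuotientGroup.eq_one_iff _).2 (pow_mem (Subgroup.mem_zpowers _) i) |> (fun e =>
      show QuotientGroup.mk' (cenB b) (⟨b, Subgroup.mem_centralizer_singleton_iff.2 rfl⟩ ^ i) = 1 from e),
    one_mul]

theorem commute_of_mk {a : ↥(Subgroup.centralizer ({b} : Set G))}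
    (hz : D.z ∈ Subgroup.centralizer ({b} : Set G))
    (e : Commute (QuotientGroup.mk' (cenB b) a) (QuotientGroup.mk' (cenB b) ⟨D.z, hz⟩)) :
    Commute (a : G) D.z := by
  obtain ⟨i, hi⟩ := h.mk_eq (a := a * ⟨D.z, hz⟩ * a⁻¹) (c := ⟨D.z, hz⟩) (by
    rw [map_mul, map_mul, map_inv, e.eq, mul_inv_cancel_right])
  simp only [Subgroup.coe_mul, Subgroup.coe_inv] at hi
  have h2 : (b ^ i) ^ 2 = 1 := by
    have : ((a : G) * D.z * (a : G)⁻¹) ^ 2 = 1 := by
      rw [conj_pow, pow_two D.z, D.ctx.sq_z]; simp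
    rw [hi, (h.comm.pow_left i).mul_pow, pow_two D.z, D.ctx.sq_z, mul_one] at this
    exact this
  rw [coprime_kill (by norm_num) h2 (by rw [← pow_mul, mul_comm, pow_mul, h.pow5, one_pow]),
    one_mul] at hi
  exact mul_inv_eq_iff_eq_mul.1 hi

theorem coprime_b {n i : ℕ} (hn : Nat.Coprime n 5) (e : (b ^ i) ^ n = 1) : b ^ i = 1 :=
  coprime_kill hn e (by rw [← pow_mul, mul_comm, pow_mul, h.pow5, one_pow])

/-- The quotient by `b` is of Hall-Janko type. -/
theorem setup (hz : D.z ∈ Subgroup.centralizer ({b} : Set G)) :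
    Cfsg.Lib.J2Type.Setup (QuotientGroup.mk' (cenB b) ⟨D.z, hz⟩)
      ((D.Q.comap (Subgroup.centralizer ({b} : Set G)).subtype).map (QuotientGroup.mk' (cenB b))) := by
  classical
  set π := QuotientGroup.mk' (cenB b) with hπ
  set zH : ↥(Subgroup.centralizer ({b} : Set G)) := ⟨D.z, hz⟩
  set Qb := D.Q.comap (Subgroup.centralizer ({b} : Set G)).subtype with hQb
  have hsurj : Function.Surjective π := QuotientGroup.mk'_surjective _
  have hcb : ∀ x : ↥(Subgroup.centralizer ({b} : Set G)), Commute (x : G) b := fun x =>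
    Subgroup.mem_centralizer_singleton_iff.1 x.2
  have hlift : ∀ {g : G}, Commute g b → g ∈ Subgroup.centralizer ({b} : Set G) := fun hg =>
    Subgroup.mem_centralizer_singleton_iff.2 hg.eq
  have hQinj : ∀ {x y}, x ∈ Qb → y ∈ Qb → π x = π y → x = y := by
    intro x y hx hy e
    obtain ⟨i, hi⟩ := h.mk_eq e
    have hm : b ^ i ∈ D.Q := by
      rw [show b ^ i = (x : G) * (y : G)⁻¹ by rw [hi, mul_inv_cancel_right]]
      exact mul_mem hx (inv_mem hy)
    obtain ⟨k, hk⟩ := D.ctx.two ⟨_, hm⟩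
    rw [h.coprime_b (n := 2 ^ k) (Nat.Coprime.pow_left k (by norm_num))
      (congrArg Subtype.val hk), one_mul] at hi
    exact Subtype.ext hi
  have hzQ : zH ∈ Qb := D.ctx.mem
  have hctx : Cfsg.Lib.Extra.Ctx (Qb.map π) (π zH) := by
    refine ⟨⟨zH, hzQ, rfl⟩, fun e => ?_, ?_, ?_, ?_, ?_, ?_, ?_, ?_⟩
    · exact D.ctx.ne_one (congrArg Subtype.val (hQinj hzQ (one_mem _) (by rw [e, map_one])))
    · rw [← map_mul, show zH * zH = 1 from Subtype.ext D.ctx.sq_z, map_one]
    · rintro _ ⟨x, hx, rfl⟩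
      exact (show Commute zH x from Subtype.ext (D.ctx.central x hx).eq).map π
    · rintro _ ⟨x, hx, rfl⟩ _ ⟨y, hy, rfl⟩
      rw [← map_inv, ← map_inv, ← map_mul, ← map_mul, ← map_mul]
      refine (D.ctx.comm x hx y hy).imp (fun e => ?_) fun e => ?_
      · rw [show x * y * x⁻¹ * y⁻¹ = 1 from Subtype.ext e, map_one]
      · rw [show x * y * x⁻¹ * y⁻¹ = zH from Subtype.ext e]
    · rintro _ ⟨x, hx, rfl⟩
      rw [← map_mul]
      refine (D.ctx.sq x hx).imp (fun e => ?_) fun e => ?_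
      · rw [show x * x = 1 from Subtype.ext e, map_one]
      · rw [show x * x = zH from Subtype.ext e]
    · intro gb hgb
      obtain ⟨g, rfl⟩ := hsurj gb
      have hgz : Commute (g : G) D.z := h.commute_of_mk hz (hgb _ ⟨zH, hzQ, rfl⟩)
      have hgq : ∀ x ∈ Qb, Commute (g : G) x := fun x hx => by
        have hc : g * x * g⁻¹ ∈ Qb := D.conj_mem hgz hx
        have := hQinj hc hx (by
          rw [map_mul, map_mul, map_inv, (hgb _ ⟨x, hx, rfl⟩).eq, mul_inv_cancel_right])
        exact mul_inv_eq_iff_eq_mul.1 (congrArg Subtype.val this)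
      obtain ⟨-, ψ, -, hker, hker', -⟩ := five_quot D.space (by rw [h.eight]; norm_num) D.ev h.iso
        h.act5 h.range4 h.fix4 h.np
      have hgc : Commute (D.act g) (D.act b) := by
        show D.act g * D.act b = D.act b * D.act g
        rw [← D.act_mul _ _ hgz h.comm, ← D.act_mul _ _ h.comm hgz, (hcb g).eq]
      have hgm : D.act g ∈ Cfsg.Geo.omegaGL D.qf ⊓
          Subgroup.centralizer ({D.act b} : Set (GL ι (ZMod 2))) :=
        ⟨D.act_mem _ hgz, Subgroup.mem_centralizer_singleton_iff.2 hgc.eq⟩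
      have hzp : D.act g ∈ Subgroup.zpowers (D.act b) :=
        (hker ⟨_, hgm⟩).1 ((hker' ⟨_, hgm⟩).2 fun w hw => by
          obtain ⟨q, hq, hqb, rfl⟩ := h.exists_fixed hw
          exact D.fix_of_commute hgz hq (hgq ⟨q, hlift hqb.symm⟩ hq))
      obtain ⟨i, hi⟩ := mem_powers_iff_mem_zpowers.2 hzp
      simp only at hi
      have hbi : Commute (b ^ i) D.z := h.comm.pow_left i
      set g' : G := (b ^ i)⁻¹ * g with hg'
      have hg'Q : g' ∈ D.Q := (D.act_ker _ (hbi.inv_left.mul_left hgz)).1 (by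
        rw [D.act_mul _ _ hbi.inv_left hgz, D.act_inv hbi, D.act_pow h.comm, hi, inv_mul_cancel])
      have hg'b : Commute g' b :=
        (Commute.pow_left (Commute.refl b) i).inv_left.mul_left (hcb g)
      have hcls : D.cls g' = 0 := five_nondeg_fix D.space h.iso h.act5
        (D.fix_of_commute h.comm hg'Q hg'b.symm) fun w hw => by
          obtain ⟨q, hq, hqb, rfl⟩ := h.exists_fixed hw
          exact (D.cls_comm _ hg'Q _ hq).1
            ((hqb.pow_left i).inv_left.mul_left (hgq ⟨q, hlift hqb.symm⟩ hq))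
      have hge : (g : G) = b ^ i * g' := by rw [hg']; group
      rcases (D.cls_ker _ hg'Q).1 hcls with e | e
      · refine Or.inl ?_
        rw [show g = ⟨b ^ i * ((1 : ↥(Subgroup.centralizer ({b} : Set G))) : G),
          hlift (by simpa using (Commute.refl b).pow_left i)⟩ from Subtype.ext (by simp [hge, e]),
          hπ, h.mk_pow, map_one]
      · refine Or.inr ?_
        rw [show g = ⟨b ^ i * (zH : G), hlift (((Commute.refl b).pow_left i).mul_left (hcb zH))⟩ from
          Subtype.ext (by simp [hge, e, zH]), hπ, h.mk_pow]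
    · intro cb hc
      obtain ⟨c, rfl⟩ := hsurj cb
      have hcz : Commute (c : G) D.z := h.commute_of_mk hz hc
      have hle : Qb.map π ≤ ((Qb.map π).map (MulAut.conj (π c)).toMonoidHom) := by
        rintro _ ⟨x, hx, rfl⟩
        refine ⟨π (c⁻¹ * x * c), ⟨_, ?_, rfl⟩, ?_⟩
        · have := D.conj_mem hcz.inv_left hx
          rw [inv_inv] at this
          exact this
        · show π c * π (c⁻¹ * x * c) * (π c)⁻¹ = π x
          rw [← map_inv, ← map_mul, ← map_mul]
          congr 1; group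
      refine Subgroup.mem_normalizer_iff.2 fun x => ⟨fun hx => ?_, fun hx => ?_⟩
      · obtain ⟨y, hy, rfl⟩ := hx
        exact ⟨c * y * c⁻¹, D.conj_mem hcz hy, by simp⟩
      · obtain ⟨_, hw, e⟩ := hle hx
        have : _ = x := mul_left_cancel (mul_right_cancel (show π c * _ * (π c)⁻¹ = π c * x * (π c)⁻¹ from e))
        exact this ▸ hw
    · exact (D.ctx.two.comap_of_injective _
        (Subgroup.centralizer ({b} : Set G)).subtype_injective).map π
  refine ⟨hctx, ?_, ?_, ?_, ?_⟩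
  · -- order of the fixed part
    have hW : Nat.card ↥(fixSpace (D.act b)) = 16 := by
      rw [Module.natCard_eq_pow_finrank (K := ZMod 2), h.fix4, Nat.card_zmod]; norm_num
    choose q hq hqb hqw using fun w : fixSpace (D.act b) => h.exists_fixed (mem_fix.1 w.2)
    have hpb : ∀ i : ZMod 2, Commute (pick D.z i) b := fun i => pick_comm h.comm.symm i
    have hpQ : ∀ i : ZMod 2, pick D.z i ∈ D.Q := fun i => by
      rcases bit i with rfl | rfl <;> simp [one_mem, D.ctx.mem]
    have hpc : ∀ i : ZMod 2, D.cls (pick D.z i) = 0 := fun i => by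
      rcases bit i with rfl | rfl <;> simp [D.cls_one, D.cls_z]
    let F : fixSpace (D.act b) × ZMod 2 → ↥(Qb.map π) := fun p =>
      ⟨π ⟨pick D.z p.2 * q p.1, hlift ((hpb p.2).mul_left (hqb p.1).symm)⟩,
        ⟨_, show pick D.z p.2 * q p.1 ∈ D.Q from mul_mem (hpQ p.2) (hq p.1), rfl⟩⟩
    have hF : Function.Bijective F := by
      constructor
      · rintro ⟨w, i⟩ ⟨w', j⟩ e
        have e1 := congrArg Subtype.val (hQinj
          (x := ⟨pick D.z i * q w, hlift ((hpb i).mul_left (hqb w).symm)⟩)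
          (y := ⟨pick D.z j * q w', hlift ((hpb j).mul_left (hqb w').symm)⟩)
          (show _ ∈ D.Q from mul_mem (hpQ i) (hq w)) (show _ ∈ D.Q from mul_mem (hpQ j) (hq w'))
          (congrArg Subtype.val e))
        simp only at e1
        have e2 := congrArg D.cls e1
        rw [D.cls_mul _ (hpQ i) _ (hq w), D.cls_mul _ (hpQ j) _ (hq w'), hpc, hpc, hqw, hqw] at e2
        obtain rfl : w = w' := Subtype.ext (by simpa using e2)
        have e3 := mul_right_cancel e1
        rcases bit i with rfl | rfl <;> rcases bit j with rfl | rfl <;> simp at e3 ⊢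
        exacts [D.ctx.ne_one e3.symm, D.ctx.ne_one e3]
      · rintro ⟨_, x, hx, rfl⟩
        set w : fixSpace (D.act b) :=
          ⟨D.cls x, mem_fix.2 (D.fix_of_commute h.comm hx (hcb x).symm)⟩
        rcases D.cls_eq (hq w) hx (hqw w) with e | e
        · exact ⟨(w, 0), Subtype.ext (congrArg π (Subtype.ext (by simpa using e.symm)))⟩
        · exact ⟨(w, 1), Subtype.ext (congrArg π (Subtype.ext (by simpa using e.symm)))⟩
    rw [← Nat.card_eq_of_bijective F hF, Nat.card_prod, hW, Nat.card_zmod]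
  · -- the quotient
    obtain ⟨φ, hmul, hsur, hker⟩ := h.quot
    choose s hs using hsurj
    have hsz : ∀ x : Subgroup.centralizer ({π zH} : Set _), Commute (s x : G) D.z := fun x =>
      h.commute_of_mk hz (by rw [hs]; exact Subgroup.mem_centralizer_singleton_iff.1 x.2)
    have hkey : ∀ a c : ↥(Subgroup.centralizer ({b} : Set G)), Commute (c : G) D.z → π a = π c →
        φ a = φ c := fun a c hc e => by
      obtain ⟨i, hi⟩ := h.mk_eq e
      rw [hi, hmul _ _ (h.comm.pow_left i) (Commute.pow_left (Commute.refl b) i) hc (hcb c),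
        (hker _ (h.comm.pow_left i) (Commute.pow_left (Commute.refl b) i)).2
          ⟨i, by rw [mul_inv_cancel]; exact one_mem _⟩, one_mul]
    refine ⟨MonoidHom.mk' (fun x => φ (s x)) fun x y => ?_, fun a => ?_, fun x => ?_⟩
    · rw [hkey (s (x * y : Subgroup.centralizer ({π zH} : Set _))) (s x * s y)
        ((hsz x).mul_left (hsz y)) (by rw [hs, map_mul, hs, hs]; rfl), Subgroup.coe_mul,
        hmul _ _ (hsz x) (hcb _) (hsz y) (hcb _)]
    · obtain ⟨c, hc1, hc2, rfl⟩ := hsur a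
      refine ⟨⟨π ⟨c, hlift hc2⟩, Subgroup.mem_centralizer_singleton_iff.2
        ((show Commute (⟨c, hlift hc2⟩ : ↥(Subgroup.centralizer ({b} : Set G))) zH from
          Subtype.ext hc1.eq).map π).eq⟩, ?_⟩
      exact hkey _ ⟨c, hlift hc2⟩ hc1 (hs _)
    · show φ (s x) = 1 ↔ _
      rw [hker _ (hsz x) (hcb _)]
      constructor
      · rintro ⟨i, hi⟩
        have hm : Commute ((s x : G) * (b ^ i)⁻¹) b :=
          (hcb _).mul_left (Commute.pow_left (Commute.refl b) i).inv_left
        refine ⟨⟨_, hlift hm⟩, hi, ?_⟩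
        refine ((h.mk_pow i ⟨_, hlift hm⟩
          (hlift ((Commute.pow_left (Commute.refl b) i).mul_left hm))).symm.trans ?_).trans (hs _)
        refine congrArg π (Subtype.ext ?_)
        show b ^ i * ((s x : G) * (b ^ i)⁻¹) = s x
        rw [← mul_assoc, ((hcb (s x)).pow_right i).symm.eq, mul_inv_cancel_right]
      · rintro ⟨q, hq, hqx⟩
        obtain ⟨i, hi⟩ := h.mk_eq (show π (s x) = π q by rw [hs]; exact hqx.symm)
        exact ⟨i, by rw [hi, ((hcb q).pow_right i).symm.eq, mul_inv_cancel_right]; exact hq⟩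
  · -- a conjugate in the fixed part
    obtain ⟨r, hrb, hrQ, hrne, hrc⟩ := h.fused
    refine ⟨π ⟨r, hlift hrb⟩, ⟨⟨_, hlift hrc⟩, hrQ, ?_⟩, fun e => hrne ?_⟩
    · rw [← map_inv, ← map_mul, ← map_mul]; rfl
    · have := hQinj (x := ⟨_, hlift hrc⟩) hrQ hzQ (by rw [← e, ← map_inv, ← map_mul, ← map_mul]; rfl)
      exact congrArg Subtype.val this
  · -- two classes
    obtain ⟨x, -, -, -, hxb, -, hxx, hx1, hnc⟩ := h.exists_frame
    haveI : Fact (Nat.Prime 2) := ⟨Nat.prime_two⟩
    refine ⟨π zH, π ⟨x, hlift hxb⟩, ?_, ?_, fun hcon => hnc ?_⟩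
    · exact Cfsg.Lib.J2Type.order_two hctx.sq_z hctx.ne_one
    · refine Cfsg.Lib.J2Type.order_two (by rw [← map_mul]; exact (congrArg π (Subtype.ext hxx)).trans (map_one π)) fun e => hx1 ?_
      obtain ⟨i, hi⟩ := h.mk_eq (e.trans (map_one π).symm)
      simp only [OneMemClass.coe_one, mul_one] at hi
      rw [hi]; exact h.coprime_b (n := 2) (by norm_num) (by rw [← hi, pow_two, hxx])
    · obtain ⟨cb, hcb'⟩ := isConj_iff.1 hcon
      obtain ⟨c, rfl⟩ := hsurj cb
      obtain ⟨i, hi⟩ := h.mk_eq (a := ⟨x, hlift hxb⟩) (c := c * zH * c⁻¹)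
        (by rw [map_mul, map_mul, map_inv, hcb'])
      simp only [Subgroup.coe_mul, Subgroup.coe_inv] at hi
      have hconj2 : ((c : G) * D.z * (c : G)⁻¹) ^ 2 = 1 := by
        rw [conj_pow, pow_two D.z, D.ctx.sq_z]; simp
      have hcomm : Commute (b ^ i) ((c : G) * D.z * (c : G)⁻¹) :=
        ((((hcb c).symm.mul_right h.comm).mul_right (hcb c).symm.inv_right)).pow_left i
      have h2 : (b ^ i) ^ 2 = 1 := by
        have e2 : x ^ 2 = 1 := by rw [pow_two, hxx]
        rwa [hi, hcomm.mul_pow, hconj2, mul_one] at e2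
      rw [h.coprime_b (by norm_num) h2, one_mul] at hi
      exact isConj_iff.2 ⟨c, hi.symm⟩

end Data.Fiver

end Cfsg.Lib.Extra.Wide
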