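import Cfsg.Agent.Lib.Extra.Wide.Separate
import Cfsg.Agent.Lib.Linear.OrthParity

/-!
# Involutions of rank four

In `2^(1+8).Ω⁺(8, 2)` an involution moving a four-space of `Q/Z` becomes, after conjugation by an
element of the cross radical of a suitable point, an involution moving a two-space.
-/

set_option autoImplicit false
set_option linter.style.haveILetI false

namespace Cfsg.Lib.Extra.Wide

open Cfsg Module Cfsg.Lib.Linear.Orth
open scoped Matrix

variable {G : Type*} [Group G] {ι : Type} [Fintype ι] [DecidableEq ι] {D : Data G ι}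

theorem Data.exists_point [Finite G] (D : Data G ι) {x : G} {a p : ι → ZMod 2}
    (hxz : Commute x D.z) (hxx : x * x = 1) (hap : nMap (D.act x) a = p) (hp : D.qf p = 0)
    (hp0 : p ≠ 0) : ∃ t, D.Point t ∧ D.cls t = p ∧ Commute x t := by
  obtain ⟨b, hb, rfl⟩ := D.cls_surj a
  have hxb : x * b * x⁻¹ ∈ D.Q := (Subgroup.mem_normalizer_iff.1 (D.ctx.norm x hxz) b).1 hb
  set t := x * b * x⁻¹ * b⁻¹ with ht
  have htQ : t ∈ D.Q := mul_mem hxb (inv_mem hb)
  have htc : D.cls t = p := by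
    rw [ht, D.cls_mul _ hxb _ (inv_mem hb), D.cls_inv hb, D.act_cls x hxz b hb, ← hap, nMap_apply]
  have ht2 : t * t = 1 := (D.cls_sq t htQ).2 (by rw [htc]; exact hp)
  refine ⟨t, ⟨htQ, ht2, fun h => hp0 (by rw [← htc, h, D.cls_one]),
    fun h => hp0 (by rw [← htc, h, D.cls_z])⟩, htc, mul_inv_eq_iff_eq_mul.1 ?_⟩
  have hxi : x⁻¹ = x := inv_eq_of_mul_eq_one_right hxx
  calc x * t * x⁻¹ = x * x * b * x⁻¹ * b⁻¹ * x⁻¹ := by rw [ht]; group
    _ = b * x * b⁻¹ * x⁻¹ := by rw [hxx, hxi, one_mul]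
    _ = t⁻¹ := by rw [ht]; group
    _ = t := inv_eq_of_mul_eq_one_right ht2

namespace Data.Point

variable [Finite G] {t s : G} (hp : D.Point t) (hs : s ∈ D.Qof t)
  (hsz : s * D.z * s⁻¹ = D.z * t)
include hp hs

theorem comm_Qof {y : G} (hy : y ∈ D.Qof t) :
    ∃ e, (e = 1 ∨ e = t) ∧ s * y * s⁻¹ = e * y :=
  ((D.ctx_Qof hp.cl).comm s hs y hy).elim (fun h => ⟨1, Or.inl rfl, mul_inv_eq_iff_eq_mul.1 h⟩)
    (fun h => ⟨t, Or.inr rfl, mul_inv_eq_iff_eq_mul.1 h⟩)

include hsz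

theorem swap_z : s * (D.z * t) * s⁻¹ = D.z := by
  have h := ((D.ctx_Qof hp.cl).central s hs).eq
  calc s * (D.z * t) * s⁻¹ = s * D.z * s⁻¹ * (s * t * s⁻¹) := by group
    _ = D.z := by rw [hsz, ← h, mul_inv_cancel_right, mul_assoc, hp.sq, mul_one]

/-- The conjugation by `s` acts trivially on the radical modulo the point. -/
theorem swap_act {c : G} (hcz : Commute c D.z) (hct : Commute c t) :
    Commute (s * c * s⁻¹) D.z ∧ Commute (s * c * s⁻¹) t ∧ ∀ v, D.B (D.cls t) v = 0 →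
      ∃ α : ZMod 2, (D.act (s * c * s⁻¹)).val *ᵥ v = (D.act c).val *ᵥ v + α • D.cls t := by
  set p := D.cls t with hpdef
  set c' := s * c * s⁻¹ with hc'
  have hst : Commute s t := ((D.ctx_Qof hp.cl).central s hs).symm
  have h1 : Commute c' D.z := by
    have h := (Commute.conj_iff s).2 (hcz.mul_right hct)
    rwa [hp.swap_z hs hsz] at h
  have h2 : Commute c' t := (hst.mul_left hct).mul_left hst.inv_left
  refine ⟨h1, h2, fun v hv => ?_⟩
  obtain ⟨y, hy, hyv⟩ := hp.exists_label hv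
  have hcp : (D.act c).val *ᵥ p = p := hp.act_fix hcz hct
  have hcp' : (D.act c').val *ᵥ p = p := hp.act_fix h1 h2
  have hw := hp.pq_conj hcz hct hy
  set w := c * y * c⁻¹ with hwdef
  have hA : ∀ {e : G}, e = 1 ∨ e = t → D.InA t e := fun h => h.elim Or.inl (fun h => Or.inr (Or.inr (Or.inl h)))
  obtain ⟨e1, he1, h3⟩ : ∃ e, (e = 1 ∨ e = t) ∧ s⁻¹ * y * s = e * y := by
    simpa using hp.comm_Qof (inv_mem hs) hy.1
  obtain ⟨e2, he2, h4⟩ := hp.comm_Qof hs hw.1
  have hce : c * e1 * c⁻¹ = e1 := by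
    rcases he1 with rfl | rfl
    · group
    · rw [hct.eq, mul_inv_cancel_right]
  have hse : s * e1 * s⁻¹ = e1 := by
    rcases he1 with rfl | rfl
    · group
    · rw [hst.eq, mul_inv_cancel_right]
  have e : c' * y * c'⁻¹ = e1 * e2 * w := by
    calc c' * y * c'⁻¹ = s * (c * (s⁻¹ * y * s) * c⁻¹) * s⁻¹ := by rw [hc']; group
      _ = s * (c * e1 * c⁻¹ * w) * s⁻¹ := by rw [h3, hwdef]; group
      _ = s * e1 * s⁻¹ * (s * w * s⁻¹) := by rw [hce]; group
      _ = _ := by rw [hse, h4, mul_assoc]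
  have hmem : e1 * e2 ∈ D.Q := mul_mem (hp.inA_mem (hA he1)).1 (hp.inA_mem (hA he2)).1
  have hiso := D.act_iso hcz
  have hiso' := D.act_iso h1
  have h5 : sGL D.qf D.B p ((D.act c').val *ᵥ v) = sGL D.qf D.B p ((D.act c).val *ᵥ v) := by
    have l : D.act (c' * y * c'⁻¹) = sGL D.qf D.B p ((D.act c').val *ᵥ v) := by
      rw [D.act_mul _ _ (h1.mul_left hy.2) h1.inv_left, D.act_mul _ _ h1 hy.2, D.act_inv h1, hyv,
        sGL_conj D.space hp.cls_sing hv hiso', hcp']
    have r : D.act w = sGL D.qf D.B p ((D.act c).val *ᵥ v) := by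
      rw [hwdef, D.act_mul _ _ (hcz.mul_left hy.2) hcz.inv_left, D.act_mul _ _ hcz hy.2,
        D.act_inv hcz, hyv, sGL_conj D.space hp.cls_sing hv hiso, hcp]
    rw [← l, ← r, e, D.act_mul _ _ (D.ctx.central _ hmem).symm hw.2, D.act_q hmem, one_mul]
  have hperp : ∀ g ∈ isometryGroup (ZMod 2) D.qf, g.val *ᵥ p = p → D.B p (g.val *ᵥ v) = 0 :=
    fun g hg hgp => by
      have h := D.space.B_act hg p v
      rw [hgp] at h; rw [h, hv]
  exact siegel_eq D.space hp.cls_sing hp.cls_ne (hperp _ hiso hcp) (hperp _ hiso' hcp') h5.symm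

/-- Conjugation by `s` turns the classes of `Q` into labels. -/
theorem swap_q {q : G} (hq : D.InCQ t q) :
    D.act (s * q * s⁻¹) = sGL D.qf D.B (D.cls t) (D.cls q) := by
  have hqz : Commute q D.z := (D.ctx.central q hq.1).symm
  obtain ⟨h1, h2, h3⟩ := hp.swap_act hs hsz hqz hq.2
  set p := D.cls t with hpdef
  set a := D.cls q with hadef
  have hst : Commute s t := ((D.ctx_Qof hp.cl).central s hs).symm
  obtain ⟨c0, hc0, hqc⟩ := exists_siegel D.space (D.act_iso h1) hp.cls_sing hp.cls_ne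
    (hp.act_fix h1 h2) fun v hv => by
      obtain ⟨α, hα⟩ := h3 v hv
      exact ⟨α, by rw [hα, D.act_q hq.1, Units.val_one, Matrix.one_mulVec]⟩
  obtain ⟨w, yc, hdec, hw, hyc, hycv⟩ := hp.decompose h1 h2 hc0 hqc
  have hB : ∀ v, D.B p v = 0 → D.B v c0 = D.B a v := by
    intro v hv
    obtain ⟨y, hy, hyv⟩ := hp.exists_label hv
    have hyq := hp.swap_pq_cq hq hy hv hyv
    rw [← hadef] at hyq
    generalize hi : D.B a v = i at hyq ⊢
    obtain ⟨e, he, hey⟩ := hp.comm_Qof hs hy.1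
    have heA : D.InA t e := he.elim Or.inl (fun h => Or.inr (Or.inr (Or.inl h)))
    have hzt : s * D.zt t i i * s⁻¹ = D.zt t i 0 := by
      rcases bit i with rfl | rfl
      · simp [Data.zt]
      · simpa [Data.zt] using hp.swap_z hs hsz
    have h4 : s * y * s⁻¹ * (s * q * s⁻¹) = s * D.zt t i i * s⁻¹ * (s * q * s⁻¹ * (s * y * s⁻¹)) := by
      rw [show s * y * s⁻¹ * (s * q * s⁻¹) = s * (y * q) * s⁻¹ by group, hyq]; group
    rw [hey, hzt, hdec] at h4
    have h5 : y * (w * yc) = D.zt t i 0 * (w * yc * y) := by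
      refine mul_left_cancel (a := e) ?_
      rw [← mul_assoc e y, h4, ← mul_assoc (w * yc), ← (hp.A_move e heA hw hyc).eq, mul_assoc e,
        ← mul_assoc (D.zt t i 0) e,
        (hp.A_commute_pq (hp.zt_A i 0) (hp.pq_A heA)).eq, mul_assoc e]
    have h6 := hp.swap_mul (hp.cq_A (Or.inl rfl)) hy hw hyc hv hc0 hyv hycv
    rw [one_mul, h5, D.cls_one] at h6
    simp only [map_zero, LinearMap.zero_apply, zero_add, add_zero] at h6
    have h7 := mul_right_cancel h6
    obtain ⟨e1, e2⟩ := hp.zt_eq_one (i := i + i) (j := 0 + 0) (by simp [bit_self, Data.zt])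
    have h8 : D.zt t i 0 * D.zt t (D.B (D.cls w) v) (D.B v c0 + D.B (D.cls w) v) = 1 := by
      rw [← h7, hp.zt_add, bit_self, bit_self]; simp [Data.zt]
    rw [hp.zt_add] at h8
    obtain ⟨e3, e4⟩ := hp.zt_eq_one h8
    linear_combination e4 - e3
  have hm : c0 + a ∈ Submodule.span (ZMod 2) {p} := mem_of_perp D.space _ fun b hb => by
    rw [map_add, LinearMap.add_apply, D.space.symm c0 b, hB b (hb p (Submodule.mem_span_singleton_self p)),
      bit_self]
  obtain ⟨α, hα⟩ := Submodule.mem_span_singleton.1 hm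
  rw [hqc, show c0 = a + α • p by rw [hα, add_comm c0, ← add_assoc, vadd_self, zero_add],
    ← sGL_mul D.space hp.cls_sing ((hp.inCQ_iff hq.1).1 hq)
      (show D.B p (α • p) = 0 by rw [map_smul, B_self D.space, smul_zero]),
    siegel_zero D.space hp.cls_sing, mul_one]

end Data.Point

/-- A point with a second point and an element of its radical in general position. -/
structure Data.Four (D : Data G ι) (t t2 x0 : G) (v2 : ι → ZMod 2) : Prop where
  pt : D.Point t
  pt2 : D.Point t2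
  p2perp : D.B (D.cls t) (D.cls t2) = 0
  v2perp : D.B (D.cls t) v2 = 0
  v2perp2 : D.B (D.cls t2) v2 = 0
  qv2 : D.qf v2 = 0
  ind : ∀ i j k : ZMod 2, i • D.cls t + j • D.cls t2 + k • v2 = 0 → i = 0 ∧ j = 0 ∧ k = 0
  pq0 : D.InPQ t2 x0
  act0 : D.act x0 = sGL D.qf D.B (D.cls t2) v2

namespace Data.Four

variable [Finite G] {t t2 x0 : G} {v2 : ι → ZMod 2} (S : D.Four t t2 x0 v2)
include S

/-- The three-space of the pair. -/
def Lbar (_S : D.Four t t2 x0 v2) : Submodule (ZMod 2) (ι → ZMod 2) :=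
  Submodule.span (ZMod 2) {D.cls t} ⊔ Submodule.span (ZMod 2) {D.cls t2} ⊔
    Submodule.span (ZMod 2) {v2}

theorem mem_Lbar {w : ι → ZMod 2} :
    w ∈ S.Lbar ↔ ∃ i j k : ZMod 2, w = i • D.cls t + j • D.cls t2 + k • v2 := by
  simp only [Lbar, Submodule.mem_sup, Submodule.mem_span_singleton]
  constructor
  · rintro ⟨_, ⟨_, ⟨i, rfl⟩, _, ⟨j, rfl⟩, rfl⟩, _, ⟨k, rfl⟩, rfl⟩
    exact ⟨i, j, k, rfl⟩
  · rintro ⟨i, j, k, rfl⟩
    exact ⟨_, ⟨_, ⟨i, rfl⟩, _, ⟨j, rfl⟩, rfl⟩, _, ⟨k, rfl⟩, rfl⟩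

theorem comm_t : Commute x0 t := by
  refine (S.pt2.comm ((S.pt2.inCQ_iff S.pt.mem).2 ?_) S.pq0 S.v2perp2 S.act0).1 S.v2perp
  rw [D.space.symm]; exact S.p2perp

theorem sq : x0 * x0 = 1 := (S.pt2.third S.pq0 S.v2perp2 S.act0).1 S.qv2

theorem T_apply (y : ι → ZMod 2) :
    (D.act x0).val *ᵥ y = y + D.B (D.cls t2) y • v2 + D.B v2 y • D.cls t2 := by
  rw [S.act0, sGL_apply D.space S.pt2.cls_sing S.v2perp2, S.qv2, zero_mul, add_zero]

theorem T_fix {y : ι → ZMod 2} (h1 : D.B (D.cls t2) y = 0) (h2 : D.B v2 y = 0) :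
    (D.act x0).val *ᵥ y = y := by
  rw [S.T_apply, h1, h2, zero_smul, zero_smul, add_zero, add_zero]

theorem T_point : (D.act x0).val *ᵥ D.cls t = D.cls t :=
  S.T_fix (by rw [D.space.symm]; exact S.p2perp) (by rw [D.space.symm]; exact S.v2perp)

theorem T_mem_perp {y : ι → ZMod 2} (hy : D.B (D.cls t) y = 0) :
    D.B (D.cls t) ((D.act x0).val *ᵥ y) = 0 := by
  simp [S.T_apply, hy, S.p2perp, S.v2perp]

theorem coef {i j α : ZMod 2} {y : ι → ZMod 2}
    (h : y + i • v2 + j • D.cls t2 = y + α • D.cls t) : i = 0 ∧ j = 0 := by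
  rw [add_assoc] at h
  have h1 := add_left_cancel h
  obtain ⟨-, h2, h3⟩ := S.ind α j i (by
    rw [← h1, add_comm (i • v2) (j • D.cls t2), add_assoc, vadd_self])
  exact ⟨h3, h2⟩

/-- What an involution acting as the standard rank-four element says about its parameters. -/
theorem key {x : G} {L : ι → ZMod 2} (hxz : Commute x D.z) (hxt : Commute x t) (hxx : x * x = 1)
    (hL : D.B (D.cls t) L = 0) (hx : D.act x = sGL D.qf D.B (D.cls t) L * D.act x0) :
    D.B (D.cls t2) L = 0 ∧ D.B v2 L = 0 ∧ ∃ (a : ι → ZMod 2) (γ : ZMod 2),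
      D.B (D.cls t) a = 0 ∧ D.B (D.cls t2) a = 0 ∧ D.B v2 a = 0 ∧ γ = D.qf a + D.B a L ∧
      D.qf L = D.B a L ∧ ∀ y, D.InPQ t y → D.act y = sGL D.qf D.B (D.cls t) L →
        x0 * y = pick D.z γ * (y * x0) := by
  have hp := S.pt
  have h0z := S.pq0.2
  have h00 : D.act x0 * D.act x0 = 1 := by rw [← D.act_mul _ _ h0z h0z, S.sq, D.act_one]
  have h0inv : (D.act x0)⁻¹ = D.act x0 := inv_eq_of_mul_eq_one_right h00
  have hTL : D.act x0 * sGL D.qf D.B (D.cls t) L * (D.act x0)⁻¹ = sGL D.qf D.B (D.cls t) L := by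
    have hA : sGL D.qf D.B (D.cls t) L * sGL D.qf D.B (D.cls t) L = 1 := by
      rw [sGL_mul D.space hp.cls_sing hL hL, vadd_self, ← siegel_zero D.space hp.cls_sing 0, zero_smul]
    have h1 : D.act x * D.act x = 1 := by rw [← D.act_mul _ _ hxz hxz, hxx, D.act_one]
    rw [hx] at h1
    rw [h0inv]
    calc D.act x0 * sGL D.qf D.B (D.cls t) L * D.act x0
        = sGL D.qf D.B (D.cls t) L *
            (sGL D.qf D.B (D.cls t) L * D.act x0 * (sGL D.qf D.B (D.cls t) L * D.act x0)) := by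
          simp only [← mul_assoc]; rw [hA, one_mul]
      _ = _ := by rw [h1, mul_one]
  have hTL' := hTL
  rw [sGL_conj D.space hp.cls_sing hL (D.act_iso h0z), S.T_point] at hTL'
  obtain ⟨α, hα⟩ := siegel_eq D.space hp.cls_sing hp.cls_ne hL (S.T_mem_perp hL) hTL'.symm
  rw [S.T_apply] at hα
  obtain ⟨hL2, hLv⟩ := S.coef hα
  have h0t := S.comm_t
  obtain ⟨q, y, hqy, hq, hy, hyL⟩ := hp.decompose (hxz.mul_left h0z) (hxt.mul_left h0t) hL
    (by rw [D.act_mul _ _ hxz h0z, hx, mul_assoc, h00, mul_one])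
  have hxe : x = q * y * x0 := by rw [← hqy, mul_assoc, S.sq, mul_one]
  have h0i : x0⁻¹ = x0 := inv_eq_of_mul_eq_one_right S.sq
  obtain ⟨e, heA, hey⟩ := hp.same_label hy (hp.pq_conj h0z h0t hy) (by
    rw [D.act_mul _ _ (h0z.mul_left hy.2) h0z.inv_left, D.act_mul _ _ h0z hy.2, D.act_inv h0z,
      hyL, hTL])
  -- the commutator lies in both radical groups
  have hy2 : Commute y t2 :=
    (hp.comm ((hp.inCQ_iff S.pt2.mem).2 S.p2perp) hy hL hyL).1 hL2
  have he2 : e ∈ D.Qof t2 := by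
    have h1 := D.Qof_conj S.pt2.cl y (inv_mem S.pq0.1)
    rw [hy2.eq, mul_inv_cancel_right] at h1
    rw [show e = x0 * (y * x0⁻¹ * y⁻¹) by
      rw [show x0 * (y * x0⁻¹ * y⁻¹) = x0 * y * x0⁻¹ * y⁻¹ by group, hey, mul_inv_cancel_right]]
    exact mul_mem S.pq0.1 h1
  obtain ⟨γ, rfl⟩ : ∃ γ, e = D.zt t γ 0 := by
    obtain ⟨i, j, rfl⟩ := hp.inA_zt heA
    rcases bit j with rfl | rfl
    · exact ⟨i, rfl⟩
    · exfalso
      have ht : t ∈ D.Qof t2 := by
        rcases bit i with rfl | rfl <;> simp only [Data.zt, pick_zero, pick_one, one_mul] at he2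
        · exact he2
        · simpa [← mul_assoc, D.ctx.sq_z] using mul_mem S.pt2.mem_snd he2
      obtain ⟨β, hβ⟩ := S.pt2.cls_inA (S.pt2.inter hp.mem ht)
      exact one_ne_zero (S.ind 1 β 0 (by rw [one_smul, hβ, vadd_self, zero_smul, add_zero])).1
  set a := D.cls q with hadef
  have ha : D.B (D.cls t) a = 0 := (hp.inCQ_iff hq.1).1 hq
  set q' := x0 * q * x0⁻¹ with hq'def
  have hq' : D.InCQ t q' := hp.cq_conj h0z h0t hq
  have hq'c : D.cls q' = (D.act x0).val *ᵥ a := D.act_cls x0 h0z q hq.1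
  have h1 : D.zt t (D.B (D.cls q') L + γ) (D.B (D.cls q') L + D.qf L) * (q * q') = 1 := by
    have e0 : x * x = q * (y * q') * (x0 * y * x0⁻¹) := by
      rw [hxe, hq'def, h0i]
      calc q * y * x0 * (q * y * x0) = q * (y * (x0 * q * 1)) * (y * x0) := by
            simp only [mul_one, mul_assoc]
        _ = q * (y * (x0 * q * x0)) * (x0 * y * x0) := by
            rw [← S.sq]; simp only [mul_assoc]
    rw [hey, hp.swap_pq_cq hq' hy hL hyL, hxx] at e0
    rw [e0]
    have c1 := hp.A_move _ (hp.zt_A γ 0) hq' hy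
    have c2 := hp.A_commute_cq (hp.zt_A (D.B (D.cls q') L) (D.B (D.cls q') L)) hq
    have c3 := hp.A_commute_cq (hp.zt_A (D.B (D.cls q') L + γ) (D.B (D.cls q') L + D.qf L)) hq
    have c4 : Commute (q * q') (D.zt t 0 (D.qf L)) :=
      (hp.A_commute_cq (hp.zt_A _ _) hq).symm.mul_left (hp.A_commute_cq (hp.zt_A _ _) hq').symm
    generalize D.B (D.cls q') L = k at c1 c2 c3 ⊢
    symm
    calc q * (D.zt t k k * (q' * y)) * (D.zt t γ 0 * y)
        = (q * D.zt t k k) * ((q' * y) * D.zt t γ 0) * y := by simp only [mul_assoc]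
      _ = D.zt t k k * (q * D.zt t γ 0) * q' * (y * y) := by
          rw [← c2.eq, ← c1.eq]; simp only [mul_assoc]
      _ = D.zt t k k * D.zt t γ 0 * ((q * q') * D.zt t 0 (D.qf L)) := by
          rw [← (hp.A_commute_cq (hp.zt_A γ 0) hq).eq, hp.sq_pq hy hL hyL]; simp only [mul_assoc]
      _ = _ := by rw [c4.eq, ← mul_assoc, hp.zt_add, hp.zt_add]; simp only [add_zero]
  have hcls : a + (D.act x0).val *ᵥ a = (D.B (D.cls q') L + D.qf L) • D.cls t := by
    rw [← hq'c, hadef, ← D.cls_mul _ hq.1 _ hq'.1, eq_inv_of_mul_eq_one_right h1,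
      D.cls_inv (hp.inA_mem (hp.zt_A _ _)).1]
    obtain ⟨i, hi⟩ : ∃ i, i = D.B (D.cls q') L + γ := ⟨_, rfl⟩
    rw [← hi]
    generalize D.B (D.cls q') L + D.qf L = j
    rcases bit i with rfl | rfl <;> rcases bit j with rfl | rfl <;>
      simp [Data.zt, D.cls_one, D.cls_z, hp.cls_zt]
  obtain ⟨ha2, hav⟩ : D.B (D.cls t2) a = 0 ∧ D.B v2 a = 0 := by
    rw [S.T_apply] at hcls
    refine S.coef (y := a) (α := D.B (D.cls q') L + D.qf L) ?_
    rw [← hcls, ← add_assoc a a, vadd_self, zero_add]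
  have h0q : q' = q := by
    have hq2 : D.InCQ t2 q := (S.pt2.inCQ_iff hq.1).2 ha2
    rw [hq'def, ((S.pt2.comm hq2 S.pq0 S.v2perp2 S.act0).1 (by rw [D.space.symm]; exact hav)).eq,
      mul_inv_cancel_right]
  rw [h0q, ← hadef, hp.sq_cq hq, ← hadef, hp.zt_add, add_zero] at h1
  obtain ⟨e1, e2⟩ := hp.zt_eq_one h1
  refine ⟨hL2, hLv, a, γ, ha, ha2, hav, ?_, ?_, fun y' hy' hy'L => ?_⟩
  · linear_combination e1 - bit_self (D.qf a) - bit_self (D.B a L)
  · linear_combination e2 - bit_self (D.B a L)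
  · obtain ⟨e', he'A, rfl⟩ := hp.same_label hy hy' (hyL.trans hy'L.symm)
    obtain ⟨he'Q, -⟩ := hp.inA_mem he'A
    have hc : Commute x0 e' := by
      rcases he'A with rfl | rfl | rfl | rfl
      exacts [Commute.one_right _, h0z, h0t, h0z.mul_right h0t]
    have hxy : x0 * y = pick D.z γ * (y * x0) := by
      have h := mul_inv_eq_iff_eq_mul.1 hey
      simpa [Data.zt, mul_assoc] using h
    have hce : Commute e' (pick D.z γ) := (pick_comm (D.ctx.central e' he'Q) γ).symm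
    calc x0 * (e' * y) = x0 * e' * y := (mul_assoc _ _ _).symm
      _ = e' * pick D.z γ * (y * x0) := by rw [hc.eq, mul_assoc, hxy, ← mul_assoc]
      _ = _ := by rw [hce.eq]; simp only [mul_assoc]

/-- A label in the three-space leaves an involution of rank two. -/
theorem reduce (h8 : Fintype.card ι = 8) {x : G} {L : ι → ZMod 2} (hxz : Commute x D.z)
    (hL : D.B (D.cls t) L = 0) (hx : D.act x = sGL D.qf D.B (D.cls t) L * D.act x0)
    (hmem : L ∈ S.Lbar) : finrank (ZMod 2) (fixSpace (D.act x)) + 2 = Fintype.card ι := by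
  have hp := S.pt
  have hT : ∀ y, nMap (D.act x0) y ∈ S.Lbar := fun y => S.mem_Lbar.2
    ⟨0, D.B v2 y, D.B (D.cls t2) y, by
      rw [nMap_apply, S.T_apply, zero_smul, zero_add]
      generalize D.B (D.cls t2) y • v2 = A'
      generalize D.B v2 y • D.cls t2 = B'
      calc y + A' + B' + y = y + y + (B' + A') := by abel
        _ = _ := by rw [vadd_self, zero_add]⟩
  have hp_mem : D.cls t ∈ S.Lbar :=
    S.mem_Lbar.2 ⟨1, 0, 0, by rw [one_smul, zero_smul, zero_smul, add_zero, add_zero]⟩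
  have hle : LinearMap.range (nMap (D.act x)) ≤ S.Lbar := by
    rintro _ ⟨y, rfl⟩
    set w := (D.act x0).val *ᵥ y
    have e : nMap (D.act x) y = nMap (sGL D.qf D.B (D.cls t) L) w + nMap (D.act x0) y := by
      rw [nMap_apply, nMap_apply, nMap_apply, hx, mul_act]
      calc _ = (sGL D.qf D.B (D.cls t) L).val *ᵥ w + (w + w) + y := by rw [vadd_self, add_zero]
        _ = _ := by abel
    rw [e]
    refine add_mem ?_ (hT y)
    rw [nMap_apply, sGL_apply D.space hp.cls_sing hL]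
    refine (?_ : _ ∈ S.Lbar)
    rw [show ∀ b c : ι → ZMod 2, w + b + c + w = b + c from fun b c => by
      calc w + b + c + w = b + c + (w + w) := by abel
        _ = b + c := by rw [vadd_self, add_zero]]
    exact add_mem (Submodule.smul_mem _ _ hmem) (Submodule.smul_mem _ _ hp_mem)
  have h3 : finrank (ZMod 2) S.Lbar ≤ 3 := by
    have h1 : ∀ v : ι → ZMod 2, finrank (ZMod 2) (Submodule.span (ZMod 2) {v}) ≤ 1 := fun v => by
      simpa using finrank_span_le_card ({v} : Set (ι → ZMod 2))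
    refine (Submodule.finrank_add_le_finrank_add_finrank _ _).trans ?_
    have := Submodule.finrank_add_le_finrank_add_finrank
      (Submodule.span (ZMod 2) {D.cls t}) (Submodule.span (ZMod 2) {D.cls t2})
    have := h1 (D.cls t); have := h1 (D.cls t2); have := h1 v2
    omega
  have hpos : 0 < finrank (ZMod 2) (LinearMap.range (nMap (D.act x))) := by
    refine Nat.pos_of_ne_zero fun h0 => ?_
    have hzero := Submodule.finrank_eq_zero.1 h0
    obtain ⟨y, hyU, hy2⟩ := exists_sep D.space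
      (Submodule.span (ZMod 2) {D.cls t} ⊔ Submodule.span (ZMod 2) {v2})
      (x := D.cls t2) (fun hm => by
        obtain ⟨_, h1, _, h2, he⟩ := Submodule.mem_sup.1 hm
        obtain ⟨i, rfl⟩ := Submodule.mem_span_singleton.1 h1
        obtain ⟨k, rfl⟩ := Submodule.mem_span_singleton.1 h2
        exact one_ne_zero (S.ind i 1 k (by rw [← he, one_smul, add_right_comm, he, vadd_self])).2.1)
    have hyp := hyU _ (Submodule.mem_sup_left (Submodule.mem_span_singleton_self _))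
    have h4 : nMap (D.act x) y = 0 := by
      have : nMap (D.act x) y ∈ LinearMap.range (nMap (D.act x)) := ⟨y, rfl⟩
      rwa [hzero, Submodule.mem_bot] at this
    have hyv := hyU _ (Submodule.mem_sup_right (Submodule.mem_span_singleton_self _))
    rw [nMap_eq_zero, hx, mul_act, S.T_apply, hy2, hyv, one_smul, zero_smul, add_zero,
      sGL_apply D.space hp.cls_sing hL, map_add, hyp, S.v2perp, add_zero, zero_smul, mul_zero,
      add_zero, add_zero, add_assoc] at h4
    have h5 : v2 + D.B L (y + v2) • D.cls t = 0 := by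
      refine add_left_cancel (a := y) ?_
      rw [add_zero]; exact h4
    obtain ⟨-, -, h6⟩ := S.ind (D.B L (y + v2)) 0 1 (by
      rw [zero_smul, add_zero, one_smul, add_comm]; exact h5)
    exact one_ne_zero h6
  have hev := (mem_omega_iff D.space (by omega) D.ev (D.act_iso hxz)).1 (D.act_mem x hxz)
  have h5 := finrank_range_nMap (D.act x)
  have h6 := (Submodule.finrank_mono hle).trans h3
  obtain ⟨m, hm⟩ := hev
  omega

end Data.Four

theorem gamma_solve (i j k m : ZMod 2) (h : i * j = k * j + m * i) (h0 : ¬(i = 0 ∧ j = 0)) :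
    k * m + (k * j + m * i) = i * j := by
  rcases bit i with rfl | rfl <;> rcases bit j with rfl | rfl <;> rcases bit k with rfl | rfl <;>
    rcases bit m with rfl | rfl <;> revert h h0 <;> decide

theorem det_solve (i j k m : ZMod 2) (h0 : ¬(i = 0 ∧ j = 0)) (h1 : ¬(k = 0 ∧ m = 0))
    (h2 : ¬(i + k = 0 ∧ j + m = 0)) : i * m + j * k = 1 := by
  rcases bit i with rfl | rfl <;> rcases bit j with rfl | rfl <;> rcases bit k with rfl | rfl <;>
    rcases bit m with rfl | rfl <;> revert h0 h1 h2 <;> decide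

/-- An involution of rank four is conjugate to an involution of rank two. -/
theorem Data.four_conj [Finite G] (D : Data G ι) (h8 : Fintype.card ι = 8)
    (hA : ∃ A, IsHalf D.qf A) {x : G} (hxz : Commute x D.z) (hxx : x * x = 1)
    (hfix : finrank (ZMod 2) (fixSpace (D.act x)) + 4 = Fintype.card ι) :
    ∃ k, Commute (k * x * k⁻¹) D.z ∧
      finrank (ZMod 2) (fixSpace (D.act (k * x * k⁻¹))) + 2 = Fintype.card ι := by
  have hg2 : D.act x * D.act x = 1 := by rw [← D.act_mul _ _ hxz hxz, hxx, D.act_one]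
  obtain ⟨p, a, p2, c, v2, d, hp, hp0, hap, hcp, hdv, hpc, hpd, hpd2, hQp2, hQv2, hmod⟩ :=
    rank_four D.space (D.act_iso hxz) hg2 h8 (by omega)
  obtain ⟨t, hpt, rfl, hxt⟩ := D.exists_point hxz hxx hap hp hp0
  have hiso := D.act_iso hxz
  have hperp : D.B (D.cls t) p2 = 0 ∧ D.B (D.cls t) v2 = 0 ∧ D.B p2 v2 = 0 := by
    rw [← hap, ← hcp, ← hdv]
    exact ⟨B_range D.space hiso hg2 _ _, B_range D.space hiso hg2 _ _, B_range D.space hiso hg2 _ _⟩
  have hv2d : D.B v2 d = 0 := by rw [← hdv, ← Q_nMap D.space hiso d, hdv, hQv2]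
  have hp2c : D.B p2 c = 0 := by rw [← hcp, ← Q_nMap D.space hiso c, hcp, hQp2]
  have hv2c : D.B v2 c = 1 := by rw [← hdv, B_nMap D.space hiso hg2, hcp, D.space.symm, hpd2]
  obtain ⟨t2, ht2, rfl⟩ := D.cls_surj p2
  have hp20 : D.cls t2 ≠ 0 := fun h => by
    rw [h, map_zero, LinearMap.zero_apply] at hpd2; exact zero_ne_one hpd2
  have hpt2 : D.Point t2 := ⟨ht2, (D.cls_sq t2 ht2).2 hQp2,
    fun h => hp20 (by rw [h, D.cls_one]), fun h => hp20 (by rw [h, D.cls_z])⟩
  obtain ⟨x0, hx0, hx0v⟩ := hpt2.exists_label hperp.2.2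
  have S : D.Four t t2 x0 v2 := ⟨hpt, hpt2, hperp.1, hperp.2.1, hperp.2.2, hQv2, fun i j k h => by
    have e1 := congrArg (fun w => D.B w d) h
    have e2 := congrArg (fun w => D.B w c) h
    simp [hpd, hpd2, hv2d] at e1
    simp [hpc, hp2c, hv2c] at e2
    subst e1 e2
    refine ⟨?_, rfl, rfl⟩
    rw [zero_smul, zero_smul, add_zero, add_zero] at h
    exact (smul_eq_zero.1 h).resolve_right hp0, hx0, hx0v⟩
  -- the labels
  have h0z := hx0.2
  have h00 : D.act x0 * D.act x0 = 1 := by rw [← D.act_mul _ _ h0z h0z, S.sq, D.act_one]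
  have hlab : ∀ {x' : G}, Commute x' D.z → Commute x' t →
      (∀ y, D.B (D.cls t) y = 0 →
        ∃ α : ZMod 2, (D.act x').val *ᵥ y = (D.act x).val *ᵥ y + α • D.cls t) →
      ∃ L, D.B (D.cls t) L = 0 ∧ D.act x' = sGL D.qf D.B (D.cls t) L * D.act x0 := by
    intro x' h1 h2 h3
    obtain ⟨L, hL, e⟩ := exists_siegel D.space (mul_mem (D.act_iso h1) (D.act_iso h0z))
      hpt.cls_sing hpt.cls_ne (by rw [mul_act, S.T_point, hpt.act_fix h1 h2]) fun y hy => by
        have hw := S.T_mem_perp hy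
        obtain ⟨α, hα⟩ := h3 _ hw
        obtain ⟨β, hβ⟩ := hmod _ hw
        refine ⟨β + α, ?_⟩
        rw [mul_act, hα, show (D.act x).val *ᵥ ((D.act x0).val *ᵥ y) =
          nMap (D.act x) ((D.act x0).val *ᵥ y) + (D.act x0).val *ᵥ y by
            rw [nMap_apply, add_assoc, vadd_self, add_zero], hβ, S.T_apply]
        have e1 : D.B (D.cls t2) (y + D.B (D.cls t2) y • v2 + D.B v2 y • D.cls t2) =
            D.B (D.cls t2) y := by
          simp [hperp.2.2, B_self D.space]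
        have e2 : D.B v2 (y + D.B (D.cls t2) y • v2 + D.B v2 y • D.cls t2) = D.B v2 y := by
          simp [D.space.symm v2 (D.cls t2), hperp.2.2, B_self D.space]
        rw [e1, e2]
        generalize D.B (D.cls t2) y • v2 = A'
        generalize D.B v2 y • D.cls t2 = B'
        calc A' + B' + β • D.cls t + (y + A' + B') + α • D.cls t
            = y + (β • D.cls t + α • D.cls t) + ((A' + A') + (B' + B')) := by abel
          _ = _ := by rw [vadd_self, vadd_self, add_zero, add_zero, add_smul]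
    refine ⟨L, hL, ?_⟩
    rw [← e, mul_assoc, h00, mul_one]
  obtain ⟨b, hb, hxb⟩ := hlab hxz hxt fun y _ => ⟨0, by rw [zero_smul, add_zero]⟩
  by_cases hbm : b ∈ S.Lbar
  · have := S.reduce h8 hxz hb hxb hbm
    omega
  obtain ⟨hb2, hbv, ab, γb, hab, hab2, habv, hγb, hqb, hcb⟩ := S.key hxz hxt hxx hb hxb
  obtain ⟨s, hs, hsz⟩ := (D.ctx_Qof hpt.cl).exists_move hpt.mem_snd D.ctx.ne_one
    (fun h => hpt.ne_z h.symm)
  rw [← hpt.comm_zt.eq] at hsz
  obtain ⟨h1z, h1t, h1m⟩ := hpt.swap_act hs hsz hxz hxt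
  obtain ⟨L1, hL1, hx1⟩ := hlab h1z h1t h1m
  by_cases h1mem : L1 ∈ S.Lbar
  · exact ⟨s, h1z, S.reduce h8 h1z hL1 hx1 h1mem⟩
  obtain ⟨hL12, hL1v, a1, γ1, ha1, ha12, ha1v, hγ1, hq1, hc1⟩ := S.key h1z h1t
    (by rw [show s * x * s⁻¹ * (s * x * s⁻¹) = s * (x * x) * s⁻¹ by group, hxx]; group) hL1 hx1
  -- the second conjugate
  obtain ⟨e, heU, hpe⟩ := exists_sep D.space
    (Submodule.span (ZMod 2) {D.cls t2} ⊔ Submodule.span (ZMod 2) {v2}) (x := D.cls t) (fun hm => by
      obtain ⟨_, h1, _, h2, he⟩ := Submodule.mem_sup.1 hm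
      obtain ⟨j, rfl⟩ := Submodule.mem_span_singleton.1 h1
      obtain ⟨k, rfl⟩ := Submodule.mem_span_singleton.1 h2
      exact one_ne_zero (S.ind 1 j k (by rw [← he, one_smul, add_assoc, vadd_self])).1)
  obtain ⟨m, hm, rfl⟩ := D.cls_surj e
  have hmz : Commute m D.z := (D.ctx.central m hm).symm
  have hmt : m * t * m⁻¹ = D.z * t := D.q_move hm hpt.mem (by rw [D.space.symm]; exact hpe)
  set w := m * x * m⁻¹ * x⁻¹ with hw
  have hxm : x * m⁻¹ * x⁻¹ ∈ D.Q :=
    (Subgroup.mem_normalizer_iff.1 (D.ctx.norm x hxz) _).1 (inv_mem hm)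
  have hwQ : w ∈ D.Q := by
    rw [hw, show m * x * m⁻¹ * x⁻¹ = m * (x * m⁻¹ * x⁻¹) by group]; exact mul_mem hm hxm
  have hwc : ∃ κ : ZMod 2, D.cls w = b + κ • D.cls t := by
    refine ⟨D.B b (D.cls m) + D.qf b * 1, ?_⟩
    rw [hw, show m * x * m⁻¹ * x⁻¹ = m * (x * m⁻¹ * x⁻¹) by group, D.cls_mul _ hm _ hxm,
      D.act_cls x hxz _ (inv_mem hm), D.cls_inv hm, hxb, mul_act,
      S.T_fix (heU _ (Submodule.mem_sup_left (Submodule.mem_span_singleton_self _)))
        (heU _ (Submodule.mem_sup_right (Submodule.mem_span_singleton_self _))),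
      sGL_apply D.space hpt.cls_sing hb, hpe, one_smul, mul_one, ← add_assoc, ← add_assoc,
      vadd_self, zero_add]
  obtain ⟨κ, hκ⟩ := hwc
  have hwt : D.InCQ t w := (hpt.inCQ_iff hwQ).2 (by rw [hκ, map_add, map_smul, hb, B_self D.space,
    smul_zero, add_zero])
  have hx2 : s * m * x * (s * m)⁻¹ = s * w * s⁻¹ * (s * x * s⁻¹) := by rw [hw]; group
  obtain ⟨hwz', hwt', -⟩ := hpt.swap_act hs hsz (D.ctx.central w hwQ).symm hwt.2
  have h2z : Commute (s * m * x * (s * m)⁻¹) D.z := by rw [hx2]; exact hwz'.mul_left h1z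
  have h2t : Commute (s * m * x * (s * m)⁻¹) t := by rw [hx2]; exact hwt'.mul_left h1t
  have hbκ : sGL D.qf D.B (D.cls t) (D.cls w) = sGL D.qf D.B (D.cls t) b := by
    rw [hκ, ← sGL_mul D.space hpt.cls_sing hb
      (show D.B (D.cls t) (κ • D.cls t) = 0 by rw [map_smul, B_self D.space, smul_zero]),
      siegel_zero D.space hpt.cls_sing, mul_one]
  have hx2a : D.act (s * m * x * (s * m)⁻¹) = sGL D.qf D.B (D.cls t) (b + L1) * D.act x0 := by
    rw [hx2, D.act_mul _ _ hwz' h1z, hpt.swap_q hs hsz hwt, hbκ, hx1, ← mul_assoc,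
      sGL_mul D.space hpt.cls_sing hb hL1]
  have hL2 : D.B (D.cls t) (b + L1) = 0 := by rw [map_add, hb, hL1, add_zero]
  by_cases h2mem : b + L1 ∈ S.Lbar
  · exact ⟨s * m, h2z, S.reduce h8 h2z hL2 hx2a h2mem⟩
  obtain ⟨hL22, hL2v, a2, γ2, ha2, ha22, ha2v, hγ2, hq2, hc2⟩ := S.key h2z h2t
    (by rw [show s * m * x * (s * m)⁻¹ * (s * m * x * (s * m)⁻¹) = s * m * (x * x) * (s * m)⁻¹ by
      group, hxx]; group) hL2 hx2a
  -- the hyperbolic pair complementary to the three-space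
  exfalso
  obtain ⟨A, hA⟩ := hA
  have h1 : ∀ v : ι → ZMod 2, finrank (ZMod 2) (Submodule.span (ZMod 2) {v}) ≤ 1 := fun v => by
    simpa using finrank_span_le_card ({v} : Set (ι → ZMod 2))
  have hL3 : finrank (ZMod 2) S.Lbar = 3 := by
    have e1 := finrank_sup_one (U := Submodule.span (ZMod 2) {D.cls t}) (x := D.cls t2) (fun hm => by
      obtain ⟨i, hi⟩ := Submodule.mem_span_singleton.1 hm
      exact one_ne_zero (S.ind i 1 0 (by rw [hi, one_smul, vadd_self, zero_smul, add_zero])).2.1)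
    have e2 := finrank_sup_one (U := Submodule.span (ZMod 2) {D.cls t} ⊔
      Submodule.span (ZMod 2) {D.cls t2}) (x := v2) (fun hm => by
      obtain ⟨_, h1, _, h2, he⟩ := Submodule.mem_sup.1 hm
      obtain ⟨i, rfl⟩ := Submodule.mem_span_singleton.1 h1
      obtain ⟨j, rfl⟩ := Submodule.mem_span_singleton.1 h2
      exact one_ne_zero (S.ind i j 1 (by rw [he, one_smul, vadd_self])).2.2)
    rw [finrank_span_singleton hp0] at e1
    have e3 : finrank (ZMod 2) S.Lbar ≤ 3 := by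
      refine (Submodule.finrank_add_le_finrank_add_finrank _ _).trans ?_
      have := Submodule.finrank_add_le_finrank_add_finrank
        (Submodule.span (ZMod 2) {D.cls t}) (Submodule.span (ZMod 2) {D.cls t2})
      have := h1 (D.cls t); have := h1 (D.cls t2); have := h1 v2
      omega
    have e4 : S.Lbar = Submodule.span (ZMod 2) {D.cls t} ⊔ Submodule.span (ZMod 2) {D.cls t2} ⊔
        Submodule.span (ZMod 2) {v2} := rfl
    rw [← e4] at e2
    omega
  have hmemL : D.cls t ∈ S.Lbar ∧ D.cls t2 ∈ S.Lbar ∧ v2 ∈ S.Lbar :=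
    ⟨Submodule.mem_sup_left (Submodule.mem_sup_left (Submodule.mem_span_singleton_self _)),
      Submodule.mem_sup_left (Submodule.mem_sup_right (Submodule.mem_span_singleton_self _)),
      Submodule.mem_sup_right (Submodule.mem_span_singleton_self _)⟩
  have hLorth : S.Lbar ≤ D.B.orthogonal S.Lbar := by
    intro w' hw' u hu
    obtain ⟨i, j, k, rfl⟩ := S.mem_Lbar.1 hw'
    obtain ⟨i', j', k', rfl⟩ := S.mem_Lbar.1 hu
    show D.B _ _ = 0
    simp [B_self D.space, hperp.1, hperp.2.1, hperp.2.2, D.space.symm (D.cls t2) (D.cls t),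
      D.space.symm v2 (D.cls t), D.space.symm v2 (D.cls t2)]
  obtain ⟨f, hfA, hfL, hfperp⟩ := exists_mem_perp D.space (W := S.Lbar) hA
    (by have := hA.2; omega)
  obtain ⟨g', hg'L, hg'1⟩ := exists_sep D.space S.Lbar hfL
  have hqf : D.qf f = 0 := hA.1 f hfA
  set g := g' + D.qf g' • f with hgdef
  have hfg : D.B f g = 1 := by simp [hgdef, hg'1, B_self D.space]
  have hqg : D.qf g = 0 := by
    rw [hgdef, D.space.add, D.space.smul, hqf, map_smul, smul_eq_mul, D.space.symm, hg'1]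
    simp [bit_self]
  have hgperp : ∀ u ∈ S.Lbar, D.B u g = 0 := fun u hu => by
    simp [hgdef, hg'L u hu, hfperp u hu]
  have hgn : g ∉ S.Lbar ⊔ Submodule.span (ZMod 2) {f} := fun hm => by
    obtain ⟨u, hu, _, h2, he⟩ := Submodule.mem_sup.1 hm
    obtain ⟨i, rfl⟩ := Submodule.mem_span_singleton.1 h2
    rw [← he, map_add, map_smul, B_self D.space, smul_zero, add_zero, D.space.symm,
      hfperp u hu] at hfg
    exact zero_ne_one hfg
  have hspan : D.B.orthogonal S.Lbar =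
      S.Lbar ⊔ Submodule.span (ZMod 2) {f} ⊔ Submodule.span (ZMod 2) {g} := by
    refine (Submodule.eq_of_le_of_finrank_le (sup_le (sup_le hLorth
      ((Submodule.span_singleton_le_iff_mem _ _).2 hfperp))
      ((Submodule.span_singleton_le_iff_mem _ _).2 hgperp)) ?_).symm
    have e1 := finrank_sup_one hfL
    have e2 := finrank_sup_one hgn
    have e3 := finrank_orth D.space S.Lbar
    omega
  have hcoord : ∀ u, D.B (D.cls t) u = 0 → D.B (D.cls t2) u = 0 → D.B v2 u = 0 →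
      D.qf u = D.B u g * D.B u f ∧ ((D.B u g = 0 ∧ D.B u f = 0) → u ∈ S.Lbar) := by
    intro u h1 h2 h3
    have hu : u ∈ D.B.orthogonal S.Lbar := fun l hl => by
      obtain ⟨i, j, k, rfl⟩ := S.mem_Lbar.1 hl
      show D.B _ _ = 0
      simp [h1, h2, h3]
    rw [hspan] at hu
    obtain ⟨_, hl', _, hj', rfl⟩ := Submodule.mem_sup.1 hu
    obtain ⟨l, hl, _, hi', rfl⟩ := Submodule.mem_sup.1 hl'
    obtain ⟨i, rfl⟩ := Submodule.mem_span_singleton.1 hi'
    obtain ⟨j, rfl⟩ := Submodule.mem_span_singleton.1 hj'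
    have hql : D.qf l = 0 := by
      obtain ⟨i0, j0, k0, rfl⟩ := S.mem_Lbar.1 hl
      simp [D.space.add, D.space.smul, hpt.cls_sing, hQp2, hQv2, hperp.1, hperp.2.1, hperp.2.2]
    have eg : D.B (l + i • f + j • g) g = i := by
      simp [hgperp l hl, hfg, B_self D.space]
    have ef : D.B (l + i • f + j • g) f = j := by
      simp [hfperp l hl, D.space.symm g f, hfg, B_self D.space]
    refine ⟨?_, fun h => ?_⟩
    · rw [eg, ef, D.space.add, D.space.add, D.space.smul, D.space.smul, hql, hqf, hqg]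
      simp [hfperp l hl, hgperp l hl, hfg, mul_comm]
    · rw [eg, ef] at h
      rw [h.1, h.2, zero_smul, zero_smul, add_zero, add_zero]; exact hl
  have hpol : ∀ u v, D.B u v = D.qf (u + v) + D.qf u + D.qf v := fun u v => by
    rw [D.space.add]; linear_combination -(bit_self (D.qf u)) - bit_self (D.qf v)
  have hgam : ∀ {L a' : ι → ZMod 2} {γ : ZMod 2}, D.B (D.cls t) L = 0 → D.B (D.cls t2) L = 0 →
      D.B v2 L = 0 → L ∉ S.Lbar → D.B (D.cls t) a' = 0 → D.B (D.cls t2) a' = 0 → D.B v2 a' = 0 →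
      γ = D.qf a' + D.B a' L → D.qf L = D.B a' L → γ = D.qf L := by
    intro L a' γ l1 l2 l3 hLn k1 k2 k3 hγ hq
    obtain ⟨cL, mL⟩ := hcoord L l1 l2 l3
    obtain ⟨cA, -⟩ := hcoord a' k1 k2 k3
    obtain ⟨cS, -⟩ := hcoord (a' + L) (by simp [l1, k1]) (by simp [l2, k2]) (by simp [l3, k3])
    have hB : D.B a' L = D.B a' g * D.B L f + D.B a' f * D.B L g := by
      rw [hpol, cS, cA, cL, map_add D.B a' L, LinearMap.add_apply, LinearMap.add_apply]
      linear_combination bit_self (D.B a' g * D.B a' f) + bit_self (D.B L g * D.B L f)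
    rw [hγ, cL, hB, cA]
    exact gamma_solve _ _ _ _ (by rw [← cL, ← hB, hq]) fun h => hLn (mL h)
  have gb := hgam hb hb2 hbv hbm hab hab2 habv hγb hqb
  have g1 := hgam hL1 hL12 hL1v h1mem ha1 ha12 ha1v hγ1 hq1
  have g2 := hgam hL2 hL22 hL2v h2mem ha2 ha22 ha2v hγ2 hq2
  obtain ⟨yb, hyb, hybl⟩ := hpt.exists_label hb
  obtain ⟨y1, hy1, hy1l⟩ := hpt.exists_label hL1
  have eb := hcb yb hyb hybl
  have e1 := hc1 y1 hy1 hy1l
  have e2 := hc2 (yb * y1) (hpt.pq_mul hyb hy1) (by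
    rw [D.act_mul _ _ hyb.2 hy1.2, hybl, hy1l, sGL_mul D.space hpt.cls_sing hb hL1])
  have hcz : Commute (pick D.z γ1) yb := pick_comm hyb.2.symm γ1
  have e3 : x0 * (yb * y1) = pick D.z (γb + γ1) * (yb * y1 * x0) := by
    calc x0 * (yb * y1) = pick D.z γb * (yb * (x0 * y1)) := by
          rw [← mul_assoc, eb]; simp only [mul_assoc]
      _ = pick D.z γb * (pick D.z γ1 * (yb * (y1 * x0))) := by
          rw [e1, ← mul_assoc yb, ← hcz.eq, mul_assoc (pick D.z γ1)]
      _ = _ := by rw [← mul_assoc, pick_add D.ctx.sq_z, mul_assoc yb]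
  have e4 : pick D.z γ2 = pick D.z (γb + γ1) := mul_right_cancel (e2.symm.trans e3)
  have e5 : γ2 + (γb + γ1) = 0 := (hpt.zt_eq_one (i := γ2 + (γb + γ1)) (j := 0) (by
    rw [Data.zt, ← pick_add D.ctx.sq_z, e4, pick_add D.ctx.sq_z, bit_self]; simp)).1
  rw [gb, g1, g2, D.space.add] at e5
  have e6 : D.B b L1 = 0 := by
    linear_combination e5 - bit_self (D.qf b) - bit_self (D.qf L1)
  obtain ⟨cb, mb⟩ := hcoord b hb hb2 hbv
  obtain ⟨c1, m1⟩ := hcoord L1 hL1 hL12 hL1v
  obtain ⟨c2, m2⟩ := hcoord (b + L1) hL2 hL22 hL2v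
  rw [hpol, c2, cb, c1] at e6
  simp only [map_add D.B b L1, LinearMap.add_apply] at e6 m2
  refine one_ne_zero ((det_solve (D.B b g) (D.B b f) (D.B L1 g) (D.B L1 f) (fun h => hbm (mb h))
    (fun h => h1mem (m1 h)) (fun h => h2mem (m2 h))).symm.trans ?_)
  linear_combination e6 - bit_self (D.B b g * D.B b f) - bit_self (D.B L1 g * D.B L1 f)

end Cfsg.Lib.Extra.Wide
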