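import Cfsg.Agent.Lib.Linear.OrthFixPoint
import Cfsg.Agent.Lib.Linear.OrthParity

/-!
# Quadratic spaces over the field with two elements

One step of Witt's theorem, Siegel elements as the isometries centralizing a point and its
quotient, and the shape of involutions of small rank.
-/

set_option autoImplicit false

namespace Cfsg.Lib.Extra.Wide

open Module Cfsg.Lib.Linear.Orth
open scoped Matrix

variable {ι : Type} [Fintype ι] [DecidableEq ι]
  {Q : (ι → ZMod 2) → ZMod 2} {B : LinearMap.BilinForm (ZMod 2) (ι → ZMod 2)}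

theorem bit : ∀ a : ZMod 2, a = 0 ∨ a = 1 := by decide

theorem bit_self : ∀ a : ZMod 2, a + a = 0 := by decide

theorem vadd_self (v : ι → ZMod 2) : v + v = 0 := funext fun i => bit_self (v i)

theorem vadd_eq_zero {u v : ι → ZMod 2} (h : u + v = 0) : u = v := by
  calc u = u + (v + v) := by rw [vadd_self, add_zero]
    _ = (u + v) + v := (add_assoc _ _ _).symm
    _ = v := by rw [h, zero_add]

section Apply

variable (C : Space Q B)
include C

theorem B_self (v : ι → ZMod 2) : B v v = 0 := by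
  rw [C.self, show (2 : ZMod 2) = 0 from rfl, zero_mul]

theorem rGL_apply {v : ι → ZMod 2} (hv : Q v = 1) (x : ι → ZMod 2) :
    (rGL Q v).val *ᵥ x = x + B v x • v := by
  rw [rGL_act C (by rw [hv]; exact one_ne_zero), hv, inv_one, one_mul, sub_eq_add_neg,
    ZModModule.neg_eq_self]

theorem rGL_mem' {v : ι → ZMod 2} (hv : Q v = 1) : rGL Q v ∈ isometryGroup (ZMod 2) Q :=
  rGL_mem C (by rw [hv]; exact one_ne_zero)

theorem sGL_apply {u a : ι → ZMod 2} (hu : Q u = 0) (hua : B u a = 0) (x : ι → ZMod 2) :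
    (sGL Q B u a).val *ᵥ x = x + B u x • a + (B a x + Q a * B u x) • u := by
  rw [sGL_act C hu hua, sub_eq_add_neg, ZModModule.neg_eq_self]

theorem sGL_self {u a : ι → ZMod 2} (hu : Q u = 0) (hua : B u a = 0) :
    (sGL Q B u a).val *ᵥ u = u := by
  rw [sGL_apply C hu hua, B_self C, C.symm a u, hua]; simp

theorem sGL_perp {u a x : ι → ZMod 2} (hu : Q u = 0) (hua : B u a = 0) (hx : B u x = 0) :
    (sGL Q B u a).val *ᵥ x = x + B a x • u := by
  rw [sGL_apply C hu hua, hx]; simp

theorem nondegenerate : B.Nondegenerate :=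
  ⟨fun _ hv => C.nondeg' hv, fun v hv => C.nondeg' fun u => by rw [C.symm]; exact hv u⟩

theorem isRefl : B.IsRefl := fun x y h => by rw [C.symm]; exact h

theorem finrank_orth (U : Submodule (ZMod 2) (ι → ZMod 2)) :
    finrank (ZMod 2) (B.orthogonal U) + finrank (ZMod 2) U = Fintype.card ι := by
  have h := LinearMap.BilinForm.finrank_orthogonal (nondegenerate C) U
  have h' := Submodule.finrank_le U
  rw [finrank_fintype_fun_eq_card] at h h'
  omega

theorem mem_of_perp (U : Submodule (ZMod 2) (ι → ZMod 2)) {x : ι → ZMod 2}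
    (h : ∀ b, (∀ u ∈ U, B u b = 0) → B x b = 0) : x ∈ U := by
  rw [← LinearMap.BilinForm.orthogonal_orthogonal (nondegenerate C) (isRefl C) U]
  intro b hb
  show B b x = 0
  rw [C.symm]
  exact h b hb

/-- A vector outside `U` is separated from it by the form. -/
theorem exists_sep (U : Submodule (ZMod 2) (ι → ZMod 2)) {x : ι → ZMod 2} (hx : x ∉ U) :
    ∃ b, (∀ u ∈ U, B u b = 0) ∧ B x b = 1 := by
  by_contra h
  push Not at h
  exact hx (mem_of_perp C U fun b hb => (bit _).resolve_right (h b hb))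

/-- A non-singular vector perpendicular to a small subspace. -/
theorem exists_perp_nonsing (U : Submodule (ZMod 2) (ι → ZMod 2))
    (h : 2 * finrank (ZMod 2) U < Fintype.card ι ∨
      (2 * finrank (ZMod 2) U = Fintype.card ι ∧ ∃ u ∈ U, Q u ≠ 0)) :
    ∃ w, Q w = 1 ∧ ∀ u ∈ U, B u w = 0 := by
  by_contra hno
  push Not at hno
  have hts : ∀ w ∈ B.orthogonal U, Q w = 0 := fun w hw =>
    (bit _).resolve_right fun hw1 => by
      obtain ⟨u, hu, hne⟩ := hno w hw1
      exact hne (hw u hu)
  have hle : B.orthogonal U ≤ U := by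
    intro w hw
    rw [← LinearMap.BilinForm.orthogonal_orthogonal (nondegenerate C) (isRefl C) U]
    intro w' hw'
    show B w' w = 0
    exact ts_orth C hts hw' hw
  have h1 := Submodule.finrank_mono hle
  have h2 := finrank_orth C U
  rcases h with h | ⟨h, u, hu, hQu⟩
  · omega
  · have : B.orthogonal U = U := Submodule.eq_of_le_of_finrank_le hle (by omega)
    exact hQu (hts u (this.symm ▸ hu))

/-- One step of Witt's theorem. -/
theorem witt_step (K : Submodule (ZMod 2) (ι → ZMod 2)) {x x' : ι → ZMod 2} (hx : x ∉ K)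
    (hx' : x' ∉ K) (hq : Q x = Q x') (hB : ∀ k ∈ K, B k x = B k x') :
    ∃ h ∈ isometryGroup (ZMod 2) Q, (∀ k ∈ K, h.val *ᵥ k = k) ∧ h.val *ᵥ x = x' := by
  have hks : ∀ k ∈ K, B (x + x') k = 0 := fun k hk => by
    rw [C.symm, map_add, hB k hk, bit_self]
  have hQs : Q (x + x') = B x x' := by rw [C.add, hq, bit_self, zero_add]
  have hxs : B (x + x') x = B x x' := by
    rw [map_add, LinearMap.add_apply, B_self C, zero_add, C.symm]
  have hx'x : x + (x + x') = x' := by rw [← add_assoc, vadd_self, zero_add]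
  rcases bit (B x x') with h0 | h1
  · rw [h0] at hQs hxs
    have hsep : x ∉ K ⊔ Submodule.span (ZMod 2) {x + x'} := by
      intro hm
      obtain ⟨k, hk, s, hs, hks'⟩ := Submodule.mem_sup.1 hm
      obtain ⟨c, rfl⟩ := Submodule.mem_span_singleton.1 hs
      rcases bit c with rfl | rfl
      · rw [zero_smul, add_zero] at hks'
        exact hx (hks' ▸ hk)
      · rw [one_smul, add_comm x x', ← add_assoc] at hks'
        refine hx' ?_
        have e : k + x' = 0 := by simpa using hks'
        rw [← vadd_eq_zero e]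
        exact hk
    obtain ⟨a, ha, hxa⟩ := exists_sep C _ hsep
    have hsa : B (x + x') a = 0 :=
      ha _ (Submodule.mem_sup_right (Submodule.mem_span_singleton_self _))
    refine ⟨sGL Q B (x + x') a, sGL_mem C hQs hsa, fun k hk => ?_, ?_⟩
    · rw [sGL_apply C hQs hsa, hks k hk, C.symm a k, ha k (Submodule.mem_sup_left hk)]
      simp
    · rw [sGL_apply C hQs hsa, hxs, C.symm a x, hxa]
      simpa using hx'x
  · rw [h1] at hQs hxs
    refine ⟨rGL Q (x + x'), rGL_mem' C hQs, fun k hk => ?_, ?_⟩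
    · rw [rGL_apply C hQs, hks k hk, zero_smul, add_zero]
    · rw [rGL_apply C hQs, hxs, one_smul, hx'x]

theorem fix_rGL_card {w : ι → ZMod 2} (hw : Q w = 1) :
    finrank (ZMod 2) (fixSpace (rGL Q w)) + 1 = Fintype.card ι := by
  have hw0 : w ≠ 0 := fun h => by rw [h, C.zero] at hw; exact zero_ne_one hw
  have e : fixSpace (rGL Q w) = B.orthogonal (Submodule.span (ZMod 2) {w}) := by
    ext x
    rw [mem_fixSpace, rGL_apply C hw]
    constructor
    · intro h u hu
      obtain ⟨c, rfl⟩ := Submodule.mem_span_singleton.1 hu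
      show B (c • w) x = 0
      rw [map_smul, LinearMap.smul_apply]
      rcases bit (B w x) with h' | h' <;> rw [h'] at h ⊢
      · simp
      · rw [one_smul, add_eq_left] at h
        exact absurd h hw0
    · intro h
      rw [show B w x = 0 from h w (Submodule.mem_span_singleton_self w), zero_smul, add_zero]
  rw [e]
  have := finrank_orth C (Submodule.span (ZMod 2) {w})
  rwa [finrank_span_singleton hw0] at this

theorem mem_omega_iff (hn : 5 ≤ Fintype.card ι) (he : Even (Fintype.card ι)) {g : GL ι (ZMod 2)}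
    (hg : g ∈ isometryGroup (ZMod 2) Q) :
    g ∈ Cfsg.Geo.omegaGL Q ↔ Even (finrank (ZMod 2) (fixSpace g)) :=
  mem_omegaGL_iff_even C rfl (by omega) he (Or.inr (by omega)) hg

/-- An isometry, or its product with a given reflection, lies in `Ω`. -/
theorem omega_or (hn : 5 ≤ Fintype.card ι) (he : Even (Fintype.card ι)) {h : GL ι (ZMod 2)}
    (hh : h ∈ isometryGroup (ZMod 2) Q) {w : ι → ZMod 2} (hw : Q w = 1) :
    h ∈ Cfsg.Geo.omegaGL Q ∨ rGL Q w * h ∈ Cfsg.Geo.omegaGL Q := by
  have hr := rGL_mem' C hw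
  have hrn : (⟨rGL Q w, hr⟩ : ↥(isometryGroup (ZMod 2) Q)) ∉ Cfsg.Omega (ZMod 2) Q := fun hm => by
    have h1 := (mem_omega_iff C hn he hr).1 ⟨_, hm, rfl⟩
    have h2 := fix_rGL_card C hw
    obtain ⟨a, ha⟩ := h1
    obtain ⟨b, hb⟩ := he
    omega
  have hidx := (omega_two C rfl (by omega) (Or.inr (by omega))).1
  by_cases hm : (⟨h, hh⟩ : ↥(isometryGroup (ZMod 2) Q)) ∈ Cfsg.Omega (ZMod 2) Q
  · exact Or.inl ⟨_, hm, rfl⟩
  · exact Or.inr ⟨⟨_, hr⟩ * ⟨h, hh⟩,
      (Subgroup.mul_mem_iff_of_index_two hidx).2 (iff_of_false hrn hm), rfl⟩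

/-- An isometry fixing a singular point and trivial on its quotient is a Siegel element. -/
theorem exists_siegel {g : GL ι (ZMod 2)} (hg : g ∈ isometryGroup (ZMod 2) Q) {p : ι → ZMod 2}
    (hp : Q p = 0) (hp0 : p ≠ 0) (hgp : g.val *ᵥ p = p)
    (htriv : ∀ x, B p x = 0 → ∃ α : ZMod 2, g.val *ᵥ x = x + α • p) :
    ∃ v, B p v = 0 ∧ g = sGL Q B p v := by
  obtain ⟨f, hf⟩ := exists_hyp C C.ndeg_top trivial hp0 hp
  have hpf : B p f = 1 := hf.pair
  have hQf : Q f = 0 := hf.singF
  set v := g.val *ᵥ f + f with hv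
  have hpv : B p v = 0 := by
    rw [hv, map_add, hpf]
    nth_rewrite 1 [← hgp]
    rw [C.B_act hg, hpf, bit_self]
  have hvf : B v f = B (g.val *ᵥ f) f := by
    rw [hv, map_add, LinearMap.add_apply, B_self C, add_zero]
  have hQv : Q v = B (g.val *ᵥ f) f := by
    rw [hv, C.add, mem_iso.1 hg, hQf, zero_add, zero_add]
  have hTf : (sGL Q B p v).val *ᵥ f = g.val *ᵥ f := by
    rw [sGL_apply C hp hpv, hpf, hvf, hQv, mul_one, bit_self, zero_smul, add_zero, one_smul, hv,
      add_left_comm, vadd_self, add_zero]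
  refine ⟨v, hpv, gl_ext fun x => ?_⟩
  have hperp : ∀ y, B p y = 0 → g.val *ᵥ y = (sGL Q B p v).val *ᵥ y := by
    intro y hy
    obtain ⟨α, hα⟩ := htriv y hy
    rw [sGL_perp C hp hpv hy, hα]
    congr 2
    have h1 : B (g.val *ᵥ y) (g.val *ᵥ f) = B y f := C.B_act hg y f
    rw [show g.val *ᵥ f = v + f by rw [hv, add_assoc, vadd_self, add_zero], hα] at h1
    simp only [map_add, map_smul, LinearMap.add_apply, LinearMap.smul_apply, smul_eq_mul, hpv,
      hpf, C.symm y v] at h1
    linear_combination h1 - bit_self (B v y)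
  have hx0 : B p (x + B p x • f) = 0 := by rw [map_add, map_smul, hpf, smul_eq_mul, mul_one, bit_self]
  have e : x = (x + B p x • f) + B p x • f := by rw [add_assoc, vadd_self, add_zero]
  calc g.val *ᵥ x = g.val *ᵥ ((x + B p x • f) + B p x • f) := by rw [← e]
    _ = (sGL Q B p v).val *ᵥ ((x + B p x • f) + B p x • f) := by
      rw [Matrix.mulVec_add _ (x + B p x • f), Matrix.mulVec_add _ (x + B p x • f),
        Matrix.mulVec_smul, Matrix.mulVec_smul, hperp _ hx0, hTf]
    _ = _ := by rw [← e]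

theorem siegel_eq {p v v' : ι → ZMod 2} (hp : Q p = 0) (hp0 : p ≠ 0) (hv : B p v = 0)
    (hv' : B p v' = 0) (h : sGL Q B p v = sGL Q B p v') : ∃ α : ZMod 2, v' = v + α • p := by
  obtain ⟨f, hf⟩ := exists_hyp C C.ndeg_top trivial hp0 hp
  have hpf : B p f = 1 := hf.pair
  have e := congrArg (fun g : GL ι (ZMod 2) => g.val *ᵥ f) h
  simp only [sGL_apply C hp hv, sGL_apply C hp hv', hpf, one_smul, mul_one, add_assoc,
    add_right_inj] at e
  refine ⟨(B v f + Q v) + (B v' f + Q v'), ?_⟩
  rw [add_smul, ← add_assoc, e, add_assoc, vadd_self, add_zero]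

theorem siegel_zero {p : ι → ZMod 2} (hp : Q p = 0) (α : ZMod 2) :
    sGL Q B p (α • p) = 1 := by
  refine gl_ext fun x => ?_
  rw [sGL_apply C hp (by rw [map_smul, B_self C, smul_zero]), C.smul, hp]
  simp only [map_smul, LinearMap.smul_apply, smul_eq_mul, mul_zero, zero_mul, add_zero,
    Units.val_one, Matrix.one_mulVec]
  rw [smul_smul, mul_comm, add_assoc, vadd_self, add_zero]

end Apply

/-! ## Involutions -/

section Invol

/-- The map `x ↦ g x + x`. -/
def nMap (g : GL ι (ZMod 2)) : (ι → ZMod 2) →ₗ[ZMod 2] (ι → ZMod 2) :=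
  Matrix.mulVecLin g.val + LinearMap.id

theorem nMap_apply (g : GL ι (ZMod 2)) (x : ι → ZMod 2) : nMap g x = g.val *ᵥ x + x := rfl

theorem nMap_eq_zero {g : GL ι (ZMod 2)} {x : ι → ZMod 2} : nMap g x = 0 ↔ g.val *ᵥ x = x :=
  ⟨vadd_eq_zero, fun h => by rw [nMap_apply, h, vadd_self]⟩

theorem ker_nMap (g : GL ι (ZMod 2)) : LinearMap.ker (nMap g) = fixSpace g := by
  ext x
  rw [LinearMap.mem_ker, nMap_eq_zero, mem_fixSpace]

theorem finrank_range_nMap (g : GL ι (ZMod 2)) :
    finrank (ZMod 2) (LinearMap.range (nMap g)) + finrank (ZMod 2) (fixSpace g) =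
      Fintype.card ι := by
  rw [← ker_nMap, LinearMap.finrank_range_add_finrank_ker, finrank_fintype_fun_eq_card]

variable (C : Space Q B) {g : GL ι (ZMod 2)} (hg : g ∈ isometryGroup (ZMod 2) Q) (hg2 : g * g = 1)

include C hg hg2

theorem act_twice (x : ι → ZMod 2) : g.val *ᵥ (g.val *ᵥ x) = x := by
  rw [← mul_act, hg2, Units.val_one, Matrix.one_mulVec]

theorem nMap_fix (x : ι → ZMod 2) : g.val *ᵥ nMap g x = nMap g x := by
  rw [nMap_apply, Matrix.mulVec_add, act_twice C hg hg2, add_comm]

theorem B_nMap (x y : ι → ZMod 2) : B (nMap g x) y = B x (nMap g y) := by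
  have h : B (g.val *ᵥ x) y = B x (g.val *ᵥ y) := by
    rw [← C.B_act hg (g.val *ᵥ x) y, act_twice C hg hg2]
  simp only [nMap_apply, map_add, LinearMap.add_apply, h]

theorem B_range (x y : ι → ZMod 2) : B (nMap g x) (nMap g y) = 0 := by
  rw [B_nMap C hg hg2, (nMap_eq_zero (g := g)).2 (nMap_fix C hg hg2 y), map_zero]

omit hg2 in
theorem Q_nMap (x : ι → ZMod 2) : Q (nMap g x) = B (nMap g x) x := by
  rw [nMap_apply, C.add, mem_iso.1 hg, bit_self, zero_add, map_add, LinearMap.add_apply,
    B_self C, add_zero]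

/-- An involution whose fixed space has codimension two is a Siegel element. -/
theorem rank_two (hfix : finrank (ZMod 2) (fixSpace g) + 2 = Fintype.card ι) :
    ∃ p v a, Q p = 0 ∧ p ≠ 0 ∧ B p v = 0 ∧ (∀ α : ZMod 2, v ≠ α • p) ∧ g = sGL Q B p v ∧
      nMap g a = p := by
  set W := LinearMap.range (nMap g) with hW
  have hW2 : finrank (ZMod 2) W = 2 := by have := finrank_range_nMap g; rw [← hW] at this; omega
  obtain ⟨w1, hw1, h10⟩ := Submodule.exists_mem_ne_zero_of_ne_bot
    (p := W) (fun h => by rw [h, finrank_bot] at hW2; omega)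
  obtain ⟨w2, hw2, h2n⟩ : ∃ w2 ∈ W, w2 ∉ Submodule.span (ZMod 2) {w1} := by
    by_contra h
    push Not at h
    have := Submodule.finrank_mono (show W ≤ Submodule.span (ZMod 2) {w1} from h)
    rw [finrank_span_singleton h10, hW2] at this
    omega
  obtain ⟨p, hpW, hp0, hp⟩ : ∃ p ∈ W, p ≠ 0 ∧ Q p = 0 := by
    rcases bit (Q w1) with e1 | e1
    · exact ⟨w1, hw1, h10, e1⟩
    rcases bit (Q w2) with e2 | e2
    · exact ⟨w2, hw2, fun h => h2n (h ▸ zero_mem _), e2⟩
    refine ⟨w1 + w2, add_mem hw1 hw2, fun h => h2n ?_, ?_⟩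
    · rw [← vadd_eq_zero h]; exact Submodule.mem_span_singleton_self _
    · obtain ⟨x, rfl⟩ := hw1
      obtain ⟨y, rfl⟩ := hw2
      rw [C.add, e1, e2, B_range C hg hg2, add_zero, bit_self]
  obtain ⟨a, rfl⟩ := hpW
  set p := nMap g a with hpdef
  have hpa : B p a = 0 := (Q_nMap C hg a).symm.trans hp
  set U := W ⊓ LinearMap.ker (B a) with hU
  have hpU : p ∈ U := ⟨⟨a, rfl⟩, by
    show B a p = 0
    rw [C.symm]; exact hpa⟩
  have hUne : U ≠ W := by
    intro h
    refine hp0 (C.nondeg' fun x => ?_)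
    have hx : nMap g x ∈ U := h.symm ▸ ⟨x, rfl⟩
    rw [hpdef, B_nMap C hg hg2]
    exact hx.2
  have hlt := Submodule.finrank_lt_finrank_of_lt (lt_of_le_of_ne inf_le_left hUne)
  rw [← hU, hW2] at hlt
  have hUe : Submodule.span (ZMod 2) {p} = U :=
    Submodule.eq_of_le_of_finrank_le ((Submodule.span_singleton_le_iff_mem _ _).2 hpU)
      (by rw [finrank_span_singleton hp0]; omega)
  obtain ⟨v, hv, hgv⟩ := exists_siegel C hg hp hp0 (nMap_fix C hg hg2 a) fun x hx => by
    have hm : nMap g x ∈ U := ⟨⟨x, rfl⟩, by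
      show B a (nMap g x) = 0
      rw [← B_nMap C hg hg2]; exact hx⟩
    rw [← hUe] at hm
    obtain ⟨α, hα⟩ := Submodule.mem_span_singleton.1 hm
    exact ⟨α, by rw [hα, nMap_apply, add_comm (g.val *ᵥ x), ← add_assoc, vadd_self, zero_add]⟩
  refine ⟨p, v, a, hp, hp0, hv, fun α h => ?_, hgv, rfl⟩
  have h1 : g = 1 := by rw [hgv, h, siegel_zero C hp]
  exact hp0 (by rw [hpdef, nMap_apply, h1, Units.val_one, Matrix.one_mulVec, vadd_self])

theorem fix_ge_four (hn : 6 ≤ Fintype.card ι) (he : Even (Fintype.card ι))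
    (hgΩ : g ∈ Cfsg.Geo.omegaGL Q) : 4 ≤ finrank (ZMod 2) (fixSpace g) := by
  have h1 := two_fix (F := ZMod 2) rfl (g := g) (by rw [pow_two]; exact hg2)
  obtain ⟨k, hk⟩ := (mem_omega_iff C (by omega) he hg).1 hgΩ
  omega

end Invol

theorem finrank_sup_one {U : Submodule (ZMod 2) (ι → ZMod 2)} {x : ι → ZMod 2} (hx : x ∉ U) :
    finrank (ZMod 2) U + 1 ≤ finrank (ZMod 2) (U ⊔ Submodule.span (ZMod 2) {x} : Submodule _ _) := by
  refine Submodule.finrank_lt_finrank_of_lt (lt_of_le_of_ne le_sup_left fun h => hx ?_)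
  rw [h]; exact Submodule.mem_sup_right (Submodule.mem_span_singleton_self x)

section Four

variable (C : Space Q B) {g : GL ι (ZMod 2)} (hg : g ∈ isometryGroup (ZMod 2) Q) (hg2 : g * g = 1)
  (h8 : Fintype.card ι = 8) (hfix : finrank (ZMod 2) (fixSpace g) = 4)

include C hg hg2 h8 hfix

theorem range_four : finrank (ZMod 2) (LinearMap.range (nMap g)) = 4 := by
  have := finrank_range_nMap g; omega

/-- For an involution of rank four some singular point of the commutator space sees a rank-two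
action on its quotient. -/
theorem rank_four : ∃ p a p2 c v2 d, Q p = 0 ∧ p ≠ 0 ∧ nMap g a = p ∧ nMap g c = p2 ∧
    nMap g d = v2 ∧ B p c = 0 ∧ B p d = 0 ∧ B p2 d = 1 ∧ Q p2 = 0 ∧ Q v2 = 0 ∧
    (∀ x, B p x = 0 → ∃ α : ZMod 2, nMap g x = B p2 x • v2 + B v2 x • p2 + α • p) := by
  set W := LinearMap.range (nMap g) with hW
  have hW4 := range_four C hg hg2 h8 hfix
  rw [← hW] at hW4
  -- the vector representing `x ↦ Q (g x + x)`
  let φ : (ι → ZMod 2) →ₗ[ZMod 2] ZMod 2 :=
    { toFun := fun x => Q (nMap g x)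
      map_add' := fun x y => by rw [map_add, C.add, B_range C hg hg2, add_zero]
      map_smul' := fun c x => by
        rw [map_smul, C.smul, RingHom.id_apply, smul_eq_mul, sq]
        rcases bit c with rfl | rfl <;> simp }
  have hker : ∀ w, (∀ x, nMap g x = 0 → B w x = 0) → w ∈ W := by
    intro w hw
    refine mem_of_perp C W fun b hb => ?_
    refine hw b (C.nondeg' fun y => ?_)
    rw [B_nMap C hg hg2, C.symm]
    exact hb _ ⟨y, rfl⟩
  obtain ⟨q, hq⟩ : ∃ q, ∀ x, B q x = Q (nMap g x) := by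
    obtain ⟨q, hq⟩ := (LinearMap.BilinForm.toDual B (nondegenerate C)).surjective φ
    exact ⟨q, fun x => LinearMap.congr_fun hq x⟩
  have hqW : q ∈ W := hker q fun x hx => by rw [hq, hx, C.zero]
  -- choose the point
  obtain ⟨p, hpW, hp0, hps⟩ : ∃ p ∈ W, p ≠ 0 ∧ ∀ x, B p x = 0 → Q (nMap g x) = 0 := by
    by_cases h0 : q = 0
    · obtain ⟨p, hp, hp0⟩ := Submodule.exists_mem_ne_zero_of_ne_bot
        (p := W) (fun h => by rw [h, finrank_bot] at hW4; omega)
      exact ⟨p, hp, hp0, fun x _ => by rw [← hq, h0]; simp⟩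
    · exact ⟨q, hqW, h0, fun x hx => by rw [← hq]; exact hx⟩
  obtain ⟨a, rfl⟩ := hpW
  set p := nMap g a with hpdef
  set U := W ⊓ LinearMap.ker (B a) with hU
  have hU3 : finrank (ZMod 2) U ≤ 3 := by
    have hUne : U ≠ W := by
      intro h
      refine hp0 (C.nondeg' fun x => ?_)
      have hx : nMap g x ∈ U := h.symm ▸ ⟨x, rfl⟩
      rw [hpdef, B_nMap C hg hg2]
      exact hx.2
    have hlt := Submodule.finrank_lt_finrank_of_lt (lt_of_le_of_ne inf_le_left hUne)
    rw [← hU, hW4] at hlt
    omega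
  have hmemU : ∀ x, B p x = 0 → nMap g x ∈ U := fun x hx => ⟨⟨x, rfl⟩, by
    show B a (nMap g x) = 0
    rw [← B_nMap C hg hg2]; exact hx⟩
  obtain ⟨c, d, hc, hd, hcd⟩ : ∃ c d, B p c = 0 ∧ B p d = 0 ∧ B (nMap g c) d = 1 := by
    by_contra h
    push Not at h
    obtain ⟨z, hz, hpz⟩ := exists_sep C (⊥ : Submodule (ZMod 2) (ι → ZMod 2))
      (show p ∉ (⊥ : Submodule (ZMod 2) (ι → ZMod 2)) by simpa using hp0)
    have hall : W ≤ Submodule.span (ZMod 2) {p} ⊔ Submodule.span (ZMod 2) {nMap g z} := by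
      have key : ∀ x, B p x = 0 → nMap g x ∈ Submodule.span (ZMod 2) {p} := by
        intro x hx
        refine mem_of_perp C _ fun b hb => (bit _).resolve_right (h x b hx ?_)
        exact hb p (Submodule.mem_span_singleton_self p)
      rintro _ ⟨x, rfl⟩
      have h1 := key (x + B p x • z) (by rw [map_add, map_smul, hpz, smul_eq_mul, mul_one, bit_self])
      rw [map_add, map_smul] at h1
      refine Submodule.mem_sup.2 ⟨_, h1, B p x • nMap g z, ?_, by
        rw [add_assoc, vadd_self, add_zero]⟩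
      exact Submodule.smul_mem _ _ (Submodule.mem_span_singleton_self _)
    have := (Submodule.finrank_mono hall).trans (Submodule.finrank_add_le_finrank_add_finrank _ _)
    have h1 : finrank (ZMod 2) (Submodule.span (ZMod 2) {nMap g z}) ≤ 1 := by
      simpa using finrank_span_le_card ({nMap g z} : Set (ι → ZMod 2))
    rw [hW4, finrank_span_singleton hp0] at this
    omega
  have hQp2 : Q (nMap g c) = 0 := hps c hc
  have hQv2 : Q (nMap g d) = 0 := hps d hd
  have hp2c : B (nMap g c) c = 0 := (Q_nMap C hg c).symm.trans hQp2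
  have hv2d : B (nMap g d) d = 0 := (Q_nMap C hg d).symm.trans hQv2
  have hv2c : B (nMap g d) c = 1 := by rw [B_nMap C hg hg2, C.symm, hcd]
  have hnS : nMap g d ∉ Submodule.span (ZMod 2) {nMap g c} := fun hm => by
    obtain ⟨i, hi⟩ := Submodule.mem_span_singleton.1 hm
    rw [← hi, map_smul, LinearMap.smul_apply, hp2c, smul_zero] at hv2c
    exact zero_ne_one hv2c
  set S := Submodule.span (ZMod 2) {nMap g c} ⊔ Submodule.span (ZMod 2) {nMap g d} with hS
  have hS2 : 2 ≤ finrank (ZMod 2) S := by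
    have := finrank_sup_one hnS
    rw [finrank_span_singleton (fun h => by
      rw [h, map_zero, LinearMap.zero_apply] at hcd; exact zero_ne_one hcd)] at this
    exact this
  have hpS : p ∉ S := fun hm => by
    obtain ⟨u1, h1, u2, h2, he⟩ := Submodule.mem_sup.1 hm
    obtain ⟨i, rfl⟩ := Submodule.mem_span_singleton.1 h1
    obtain ⟨j, rfl⟩ := Submodule.mem_span_singleton.1 h2
    have e1 := congrArg (fun w => B w d) he
    have e2 := congrArg (fun w => B w c) he
    simp only [map_add, map_smul, LinearMap.add_apply, LinearMap.smul_apply, smul_eq_mul, hcd,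
      hv2d, hv2c, hp2c, hc, hd, mul_one, mul_zero, add_zero, zero_add] at e1 e2
    rw [e1, e2, zero_smul, zero_smul, add_zero] at he
    exact hp0 he.symm
  have hp : Q p = 0 := by
    rcases bit (Q p) with h | h
    · exact h
    exfalso
    have hpa : B p a = 1 := (Q_nMap C hg a).symm.trans h
    obtain ⟨w, hw, hwS⟩ : ∃ w ∈ W, w ∉ S ⊔ Submodule.span (ZMod 2) {p} := by
      by_contra hne
      push Not at hne
      have h1 := Submodule.finrank_mono (show W ≤ _ from hne)
      have h2 : finrank (ZMod 2) (S ⊔ Submodule.span (ZMod 2) {p} : Submodule _ _) ≤ 3 := by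
        refine (Submodule.finrank_add_le_finrank_add_finrank _ _).trans ?_
        rw [finrank_span_singleton hp0]
        have := Submodule.finrank_add_le_finrank_add_finrank
          (Submodule.span (ZMod 2) {nMap g c}) (Submodule.span (ZMod 2) {nMap g d})
        rw [← hS] at this
        have := finrank_span_singleton (K := ZMod 2) (v := nMap g c)
        have h3 : ∀ v : ι → ZMod 2, finrank (ZMod 2) (Submodule.span (ZMod 2) {v}) ≤ 1 := fun v => by
          simpa using finrank_span_le_card ({v} : Set (ι → ZMod 2))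
        have := h3 (nMap g c)
        have := h3 (nMap g d)
        omega
      omega
    obtain ⟨e, rfl⟩ := hw
    set e' := e + B p e • a + B (nMap g e) d • c + B (nMap g e) c • d with he'
    have hpe' : B p e' = 0 := by
      simp [he', hc, hd, hpa, bit_self]
    have hne' : nMap g e' = nMap g e + B p e • p + B (nMap g e) d • nMap g c +
        B (nMap g e) c • nMap g d := by simp [he', ← hpdef]
    have h_d : B (nMap g e') d = 0 := by
      simp [hne', hcd, hv2d, hd, bit_self]
    have h_c : B (nMap g e') c = 0 := by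
      simp [hne', hp2c, hv2c, hc, bit_self]
    have h_a : B (nMap g e') a = 0 := by
      rw [C.symm]; exact (hmemU e' hpe').2
    have h_e : B (nMap g e') e' = 0 := (Q_nMap C hg e').symm.trans (hps e' hpe')
    have hn4 : W ≤ S ⊔ Submodule.span (ZMod 2) {p} ⊔ Submodule.span (ZMod 2) {nMap g e'} := by
      have hnot : nMap g e' ∉ S ⊔ Submodule.span (ZMod 2) {p} := fun hm => hwS (by
        have e0 : nMap g e = nMap g e' + (B p e • p + (B (nMap g e) d • nMap g c +
            B (nMap g e) c • nMap g d)) := by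
          rw [hne', add_assoc (nMap g e + B p e • p), add_assoc (nMap g e), add_assoc,
            vadd_self, add_zero]
        rw [e0]
        exact add_mem hm (add_mem (Submodule.mem_sup_right (Submodule.smul_mem _ _
          (Submodule.mem_span_singleton_self _))) (Submodule.mem_sup_left (add_mem
            (Submodule.mem_sup_left (Submodule.smul_mem _ _ (Submodule.mem_span_singleton_self _)))
            (Submodule.mem_sup_right (Submodule.smul_mem _ _
              (Submodule.mem_span_singleton_self _)))))))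
      have h4 := finrank_sup_one hnot
      have h5 := finrank_sup_one hpS
      exact (Submodule.eq_of_le_of_finrank_le
        (sup_le (sup_le (sup_le ((Submodule.span_singleton_le_iff_mem _ _).2 (LinearMap.mem_range_self _ c))
          ((Submodule.span_singleton_le_iff_mem _ _).2 (LinearMap.mem_range_self _ d)))
          ((Submodule.span_singleton_le_iff_mem _ _).2 (LinearMap.mem_range_self _ a)))
          ((Submodule.span_singleton_le_iff_mem _ _).2 (LinearMap.mem_range_self _ e'))) (by omega)).ge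
    have hzero : nMap g e' = 0 := by
      refine C.nondeg' fun y => ?_
      rw [B_nMap C hg hg2]
      have hle : S ⊔ Submodule.span (ZMod 2) {p} ⊔ Submodule.span (ZMod 2) {nMap g e'} ≤
          LinearMap.ker (B e') := by
        refine sup_le (sup_le (sup_le ?_ ?_) ?_) ?_ <;>
          rw [Submodule.span_singleton_le_iff_mem, LinearMap.mem_ker, ← B_nMap C hg hg2]
        exacts [h_c, h_d, h_a, h_e]
      exact hle (hn4 ⟨y, rfl⟩)
    exact hwS (by
      rw [hne', add_assoc (nMap g e + B p e • p), add_assoc (nMap g e)] at hzero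
      rw [vadd_eq_zero hzero]
      exact add_mem (Submodule.mem_sup_right (Submodule.smul_mem _ _
          (Submodule.mem_span_singleton_self _))) (Submodule.mem_sup_left (add_mem
            (Submodule.mem_sup_left (Submodule.smul_mem _ _ (Submodule.mem_span_singleton_self _)))
            (Submodule.mem_sup_right (Submodule.smul_mem _ _
              (Submodule.mem_span_singleton_self _))))))
  have hpa : B p a = 0 := (Q_nMap C hg a).symm.trans hp
  have hUe : S ⊔ Submodule.span (ZMod 2) {p} = U := by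
    refine Submodule.eq_of_le_of_finrank_le (sup_le (sup_le ?_ ?_) ?_)
      (by have := finrank_sup_one hpS; omega) <;> rw [Submodule.span_singleton_le_iff_mem]
    exacts [hmemU c hc, hmemU d hd, hmemU a hpa]
  refine ⟨p, a, nMap g c, c, nMap g d, d, hp, hp0, rfl, rfl, rfl, hc, hd, hcd, hQp2, hQv2,
    fun x hx => ?_⟩
  have hm := hmemU x hx
  rw [← hUe] at hm
  obtain ⟨u, hu, u3, h3, he⟩ := Submodule.mem_sup.1 hm
  obtain ⟨u1, h1, u2, h2, rfl⟩ := Submodule.mem_sup.1 hu
  obtain ⟨i, rfl⟩ := Submodule.mem_span_singleton.1 h1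
  obtain ⟨j, rfl⟩ := Submodule.mem_span_singleton.1 h2
  obtain ⟨k, rfl⟩ := Submodule.mem_span_singleton.1 h3
  have e1 : i = B (nMap g d) x := by
    have e := congrArg (fun w => B w d) he
    rw [C.symm (nMap g d) x, ← B_nMap C hg hg2]
    simpa [hcd, hv2d, hd, eq_comm] using e
  have e2 : j = B (nMap g c) x := by
    have e := congrArg (fun w => B w c) he
    rw [C.symm (nMap g c) x, ← B_nMap C hg hg2]
    simpa [hp2c, hv2c, hc, eq_comm] using e
  exact ⟨k, by rw [← he, e1, e2, add_comm (B (nMap g d) x • _)]⟩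

end Four

end Cfsg.Lib.Extra.Wide
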