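import Cfsg.Agent.Lib.Extra.Large
import Cfsg.Agent.Lib.Extra.Wide.Geo

/-!
# Extraspecial 2-groups whose orthogonal quotient carries the whole simple orthogonal group

The data of an involution `z` whose centralizer is `2^(1+2n).Ω^±(2n, 2)`, `n ≥ 3`, with a second
conjugate of `z` in the extraspecial subgroup.
-/

set_option autoImplicit false
set_option linter.style.haveILetI false

namespace Cfsg.Lib.Extra.Wide

open Cfsg Module Cfsg.Lib.Linear.Orth
open scoped Matrix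

variable {G : Type*} [Group G] {ι : Type} [Fintype ι] [DecidableEq ι]

/-- The data of the centralizer. -/
structure Data (G : Type*) [Group G] (ι : Type) [Fintype ι] [DecidableEq ι] where
  /-- The central involution. -/
  z : G
  /-- The extraspecial subgroup. -/
  Q : Subgroup G
  /-- The squaring form. -/
  qf : (ι → ZMod 2) → ZMod 2
  /-- The commutator form. -/
  B : LinearMap.BilinForm (ZMod 2) (ι → ZMod 2)
  /-- The class of an element of `Q`. -/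
  cls : G → (ι → ZMod 2)
  /-- The action of the centralizer. -/
  act : G → GL ι (ZMod 2)
  ctx : Ctx Q z
  space : Space qf B
  six : 6 ≤ Fintype.card ι
  ev : Even (Fintype.card ι)
  cls_mul : ∀ a ∈ Q, ∀ b ∈ Q, cls (a * b) = cls a + cls b
  cls_surj : ∀ v, ∃ a ∈ Q, cls a = v
  cls_ker : ∀ a ∈ Q, cls a = 0 ↔ a = 1 ∨ a = z
  cls_sq : ∀ a ∈ Q, a * a = 1 ↔ qf (cls a) = 0
  cls_comm : ∀ a ∈ Q, ∀ b ∈ Q, Commute a b ↔ B (cls a) (cls b) = 0
  act_mul : ∀ c d, Commute c z → Commute d z → act (c * d) = act c * act d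
  act_mem : ∀ c, Commute c z → act c ∈ Cfsg.Geo.omegaGL qf
  act_surj : ∀ g ∈ Cfsg.Geo.omegaGL qf, ∃ c, Commute c z ∧ act c = g
  act_ker : ∀ c, Commute c z → (act c = 1 ↔ c ∈ Q)
  act_cls : ∀ c, Commute c z → ∀ a ∈ Q, cls (c * a * c⁻¹) = (act c).val *ᵥ cls a
  nwc : ∃ g, g * z * g⁻¹ ∈ Q ∧ g * z * g⁻¹ ≠ z

theorem commute_conj {a b : G} (k : G) (h : Commute (k⁻¹ * a * k) b) :
    Commute a (k * b * k⁻¹) := by
  have := (Commute.conj_iff k).2 h
  rwa [show k * (k⁻¹ * a * k) * k⁻¹ = a by group] at this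

theorem commute_unconj {a b : G} (k : G) (h : Commute a (k * b * k⁻¹)) :
    Commute (k⁻¹ * a * k) b := by
  have := (Commute.conj_iff k⁻¹).2 h
  rwa [inv_inv, show k⁻¹ * (k * b * k⁻¹) * k = b by group] at this

theorem mem_map_conj {H : Subgroup G} {k a : G} :
    a ∈ H.map (MulAut.conj k).toMonoidHom ↔ k⁻¹ * a * k ∈ H := by
  constructor
  · rintro ⟨b, hb, rfl⟩
    show k⁻¹ * (k * b * k⁻¹) * k ∈ H
    simpa [mul_assoc] using hb
  · intro h
    exact ⟨_, h, show k * (k⁻¹ * a * k) * k⁻¹ = a by group⟩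

/-- The data moved to a conjugate of `z`. -/
def Data.conj (D : Data G ι) (k : G) : Data G ι where
  z := k * D.z * k⁻¹
  Q := D.Q.map (MulAut.conj k).toMonoidHom
  qf := D.qf
  B := D.B
  cls a := D.cls (k⁻¹ * a * k)
  act c := D.act (k⁻¹ * c * k)
  ctx := D.ctx.conj k
  space := D.space
  six := D.six
  ev := D.ev
  cls_mul a ha b hb := by
    rw [show k⁻¹ * (a * b) * k = k⁻¹ * a * k * (k⁻¹ * b * k) by group]
    exact D.cls_mul _ (mem_map_conj.1 ha) _ (mem_map_conj.1 hb)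
  cls_surj v := by
    obtain ⟨a, ha, e⟩ := D.cls_surj v
    refine ⟨k * a * k⁻¹, ⟨a, ha, rfl⟩, ?_⟩
    rwa [show k⁻¹ * (k * a * k⁻¹) * k = a by group]
  cls_ker a ha := by
    rw [D.cls_ker _ (mem_map_conj.1 ha)]
    refine or_congr ⟨fun h => ?_, fun h => by rw [h]; group⟩ ⟨fun h => ?_, fun h => by rw [h]; group⟩
    · calc a = k * (k⁻¹ * a * k) * k⁻¹ := by group
        _ = 1 := by rw [h]; simp
    · calc a = k * (k⁻¹ * a * k) * k⁻¹ := by group
        _ = _ := by rw [h]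
  cls_sq a ha := by
    rw [← D.cls_sq _ (mem_map_conj.1 ha), show k⁻¹ * a * k * (k⁻¹ * a * k) = k⁻¹ * (a * a) * k by group]
    refine ⟨fun h => by rw [h]; group, fun h => ?_⟩
    calc a * a = k * (k⁻¹ * (a * a) * k) * k⁻¹ := by group
      _ = 1 := by rw [h]; simp
  cls_comm a ha b hb := by
    rw [← D.cls_comm _ (mem_map_conj.1 ha) _ (mem_map_conj.1 hb)]
    constructor
    · intro h
      simpa using (Commute.conj_iff k⁻¹).2 h
    · intro h
      have := (Commute.conj_iff k).2 h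
      simpa [mul_assoc] using this
  act_mul c d hc hd := by
    rw [show k⁻¹ * (c * d) * k = k⁻¹ * c * k * (k⁻¹ * d * k) by group]
    exact D.act_mul _ _ (commute_unconj k hc) (commute_unconj k hd)
  act_mem c hc := D.act_mem _ (commute_unconj k hc)
  act_surj g hg := by
    obtain ⟨c, hc, e⟩ := D.act_surj g hg
    refine ⟨k * c * k⁻¹, (Commute.conj_iff k).2 hc, ?_⟩
    rwa [show k⁻¹ * (k * c * k⁻¹) * k = c by group]
  act_ker c hc := (D.act_ker _ (commute_unconj k hc)).trans mem_map_conj.symm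
  act_cls c hc a ha := by
    rw [show k⁻¹ * (c * a * c⁻¹) * k = k⁻¹ * c * k * (k⁻¹ * a * k) * (k⁻¹ * c * k)⁻¹ by group]
    exact D.act_cls _ (commute_unconj k hc) _ (mem_map_conj.1 ha)
  nwc := by
    obtain ⟨g, hg, hne⟩ := D.nwc
    have e : k * g * k⁻¹ * (k * D.z * k⁻¹) * (k * g * k⁻¹)⁻¹ = k * (g * D.z * g⁻¹) * k⁻¹ := by group
    refine ⟨k * g * k⁻¹, ?_, ?_⟩
    · rw [e]; exact ⟨_, hg, rfl⟩
    · rw [e]; exact fun h => hne (mul_left_cancel (mul_right_cancel h))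

variable (D : Data G ι)

/-- The conjugates of `z`. -/
def Data.Cl (a : G) : Prop := ∃ k, k * D.z * k⁻¹ = a

/-- The extraspecial subgroup at a conjugate of `z`. -/
def Data.Qof (a : G) : Subgroup G :=
  ⨆ k : {k : G // k * D.z * k⁻¹ = a}, D.Q.map (MulAut.conj (k : G)).toMonoidHom

theorem Data.Qof_eq {a k : G} (hk : k * D.z * k⁻¹ = a) :
    D.Qof a = D.Q.map (MulAut.conj k).toMonoidHom := by
  refine le_antisymm (iSup_le fun k' w hw => ?_)
    (le_iSup (fun k : {k : G // k * D.z * k⁻¹ = a} => D.Q.map (MulAut.conj (k : G)).toMonoidHom) ⟨k, hk⟩)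
  exact D.ctx.conj_mem_iff_of_commute (k'.2.trans hk.symm) hw

theorem Data.Qof_self : D.Qof D.z = D.Q := by
  rw [D.Qof_eq (k := 1) (by simp)]
  ext a
  rw [mem_map_conj]
  simp

theorem Data.ctx_Qof {a : G} (ha : D.Cl a) : Ctx (D.Qof a) a := by
  obtain ⟨k, hk⟩ := ha
  rw [D.Qof_eq hk, ← hk]
  exact D.ctx.conj k

theorem Data.Cl.conj {a : G} (ha : D.Cl a) (g : G) : D.Cl (g * a * g⁻¹) := by
  obtain ⟨k, rfl⟩ := ha
  exact ⟨g * k, by group⟩

theorem Data.cl_z : D.Cl D.z := ⟨1, by simp⟩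

theorem Data.Cl.sq {a : G} (ha : D.Cl a) : a * a = 1 := (D.ctx_Qof ha).sq_z

theorem Data.Cl.ne_one {a : G} (ha : D.Cl a) : a ≠ 1 := (D.ctx_Qof ha).ne_one

theorem Data.Qof_conj {a b : G} (ha : D.Cl a) (g : G) (hb : b ∈ D.Qof a) :
    g * b * g⁻¹ ∈ D.Qof (g * a * g⁻¹) := by
  obtain ⟨k, hk⟩ := ha
  rw [D.Qof_eq hk, mem_map_conj] at hb
  rw [D.Qof_eq (k := g * k) (by rw [← hk]; group), mem_map_conj]
  rwa [show (g * k)⁻¹ * (g * b * g⁻¹) * (g * k) = k⁻¹ * b * k by group]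

theorem Data.Qof_symm [Finite G] {a b : G} (ha : D.Cl a) (hb : D.Cl b) (h : b ∈ D.Qof a) :
    a ∈ D.Qof b := by
  obtain ⟨k, hk⟩ := ha
  obtain ⟨m, hm⟩ := hb
  have e : m * k⁻¹ * a * (m * k⁻¹)⁻¹ = b := by rw [← hk, ← hm]; group
  have h1 := (D.ctx_Qof ⟨k, hk⟩).mem_symm (g := m * k⁻¹) (by rwa [e])
  rw [D.Qof_eq hk, mem_map_conj, mem_map_conj] at h1
  rw [D.Qof_eq hm, mem_map_conj]
  rwa [show m⁻¹ * a * m = k⁻¹ * ((m * k⁻¹)⁻¹ * a * (m * k⁻¹)) * k by group]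

theorem Data.act_one : D.act 1 = 1 := (D.act_ker 1 (Commute.one_left _)).2 (one_mem _)

theorem Data.act_inv {c : G} (hc : Commute c D.z) : D.act c⁻¹ = (D.act c)⁻¹ := by
  refine eq_inv_of_mul_eq_one_left ?_
  rw [← D.act_mul _ _ hc.inv_left hc, inv_mul_cancel, D.act_one]

theorem Data.act_iso {c : G} (hc : Commute c D.z) : D.act c ∈ isometryGroup (ZMod 2) D.qf :=
  omegaGL_le_iso (D.act_mem c hc)

theorem Data.act_q {c : G} (hc : c ∈ D.Q) : D.act c = 1 :=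
  (D.act_ker c (D.ctx.central c hc).symm).2 hc

theorem Data.cls_one : D.cls 1 = 0 := (D.cls_ker 1 (one_mem _)).2 (Or.inl rfl)

theorem Data.cls_z : D.cls D.z = 0 := (D.cls_ker _ D.ctx.mem).2 (Or.inr rfl)

theorem Data.cls_inv {a : G} (ha : a ∈ D.Q) : D.cls a⁻¹ = D.cls a := by
  refine vadd_eq_zero ?_
  rw [← D.cls_mul _ (inv_mem ha) _ ha, inv_mul_cancel, D.cls_one]

theorem Data.cls_eq {a b : G} (ha : a ∈ D.Q) (hb : b ∈ D.Q) (h : D.cls a = D.cls b) :
    b = a ∨ b = D.z * a := by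
  rcases (D.cls_ker _ (mul_mem hb (inv_mem ha))).1
    (by rw [D.cls_mul _ hb _ (inv_mem ha), D.cls_inv ha, h, vadd_self]) with e | e
  · exact Or.inl (mul_inv_eq_one.1 e)
  · exact Or.inr (mul_inv_eq_iff_eq_mul.1 e)

theorem Data.q_conj {a b : G} (ha : a ∈ D.Q) (hb : b ∈ D.Q) :
    a * b * a⁻¹ = b ∨ (D.B (D.cls a) (D.cls b) = 1 ∧ a * b * a⁻¹ = D.z * b) := by
  by_cases h : Commute a b
  · exact Or.inl (mul_inv_eq_iff_eq_mul.2 h.eq)
  · refine Or.inr ⟨(bit _).resolve_left fun h0 => h ((D.cls_comm a ha b hb).2 h0), ?_⟩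
    rcases D.ctx.comm a ha b hb with e | e
    · exact absurd (mul_inv_eq_iff_eq_mul.1 (mul_inv_eq_one.1 e)) h
    · exact mul_inv_eq_iff_eq_mul.1 e

theorem Data.q_move {a b : G} (ha : a ∈ D.Q) (hb : b ∈ D.Q) (h : D.B (D.cls a) (D.cls b) = 1) :
    a * b * a⁻¹ = D.z * b := by
  rcases D.q_conj ha hb with e | e
  · have := (D.cls_comm a ha b hb).1 (mul_inv_eq_iff_eq_mul.1 e)
    rw [h] at this
    exact absurd this one_ne_zero
  · exact e.2

/-- An element of `Ω` with prescribed values on a small subspace. -/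
theorem Data.exists_omega (U : Submodule (ZMod 2) (ι → ZMod 2))
    (hU : 2 * finrank (ZMod 2) U < Fintype.card ι ∨
      (2 * finrank (ZMod 2) U = Fintype.card ι ∧ ∃ u ∈ U, D.qf u ≠ 0))
    {h : GL ι (ZMod 2)} (hh : h ∈ isometryGroup (ZMod 2) D.qf) :
    ∃ h' ∈ Cfsg.Geo.omegaGL D.qf, ∀ x, h.val *ᵥ x ∈ U → h'.val *ᵥ x = h.val *ᵥ x := by
  obtain ⟨w, hw, hwU⟩ := exists_perp_nonsing D.space U hU
  rcases omega_or D.space (by have := D.six; omega) D.ev hh hw with h1 | h1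
  · exact ⟨h, h1, fun _ _ => rfl⟩
  · refine ⟨_, h1, fun x hx => ?_⟩
    rw [mul_act, rGL_fix D.space (by rw [hw]; exact one_ne_zero)
      (by rw [D.space.symm]; exact hwU _ hx)]

/-- Every involution of `Q` is conjugate to `z`. -/
theorem Data.cl_of_mem {a : G} (ha : a ∈ D.Q) (h2 : a * a = 1) (h1 : a ≠ 1) : D.Cl a := by
  by_cases hz : a = D.z
  · exact hz ▸ D.cl_z
  obtain ⟨g, hg, hgne⟩ := D.nwc
  set t := g * D.z * g⁻¹
  have htc : D.Cl t := ⟨g, rfl⟩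
  have hne : ∀ {b}, b ∈ D.Q → b ≠ 1 → b ≠ D.z → D.cls b ≠ 0 := fun hb h1 h2 h =>
    ((D.cls_ker _ hb).1 h).elim h1 h2
  have hQa : D.qf (D.cls a) = 0 := (D.cls_sq a ha).1 h2
  obtain ⟨h, hh, -, hhx⟩ := witt_step D.space (⊥ : Submodule (ZMod 2) (ι → ZMod 2))
    (x := D.cls t) (x' := D.cls a) (by simpa using hne hg (htc.ne_one D) hgne)
    (by simpa using hne ha h1 hz) (((D.cls_sq t hg).1 (htc.sq D)).trans hQa.symm) (by simp)
  obtain ⟨h', hh', hfix⟩ := D.exists_omega (Submodule.span (ZMod 2) {D.cls a})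
    (Or.inl (by rw [finrank_span_singleton (hne ha h1 hz)]; have := D.six; omega)) hh
  obtain ⟨c, hc, rfl⟩ := D.act_surj h' hh'
  have hct : c * t * c⁻¹ ∈ D.Q := (Subgroup.mem_normalizer_iff.1 (D.ctx.norm c hc) t).1 hg
  have e : D.cls (c * t * c⁻¹) = D.cls a := by
    rw [D.act_cls c hc t hg, hfix _ (by rw [hhx]; exact Submodule.mem_span_singleton_self _), hhx]
  rcases D.cls_eq hct ha e with e' | e'
  · rw [e']; exact htc.conj D c
  · obtain ⟨q, hq, hqc⟩ := D.ctx.exists_move hct ((htc.conj D c).ne_one D)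
      (fun h => by rw [h, D.ctx.sq_z] at e'; exact h1 e')
    rw [e', ← hqc]
    exact (htc.conj D c).conj D q

end Cfsg.Lib.Extra.Wide
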